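import Cfsg.Agent.TAB.M.Use
import Cfsg.Agent.TAB.M.Key
import Cfsg.Agent.TAB.Eng.Map
import Cfsg.Agent.TAB.C2B.Psi
import Cfsg.Agent.TAB.Big.Sig
import Cfsg.Agent.TAB.C2B.AllM
import Cfsg.Agent.H593.IMMon

/-!
# The table of the Monster from the boxes (helper16, TAB)

`Out` : the results for `Spor.Monster`; `out_of` : from the boxes of the section of 3B.
-/

set_option autoImplicit false
set_option maxRecDepth 100000

namespace Cfsg.Agent.TAB.M

open Cfsg Cfsg.Agent.TAB.Eng Cfsg.Agent.TAB.Use Cfsg.Agent.BpSpor.MBigModel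
open Cfsg.Agent.TAB.C2B (cover countC boxPsi all_boxes)
open Cfsg.Agent.H940.Eng (Base)

theorem hyp_of (B : Base) (h3 : BoxCM 4) {T : TD MG dat} (hm : T.Mass) (hT : ∀ g, ∀ i < 171, T.ty g = i ↔ TyM i g) :
    Hyp T := by
  have := finite
  have ho : ∀ {i}, i < 171 → BoxCM i → One T i := fun hi h => BoxC.one hT hi h
  refine ⟨hm, ?_, ⟨zz, fun w hw => ?_, ?_⟩, ?_, fun g hg => Big.cen47 B g (by rw [T.ord, hg]; rfl)⟩
  · have h1 : (fun g => ((nth valL (T.ty g) : ℤ) : ℂ)) = fun g => ((LThreeMBTr.chr MonsterX.Space.V g : ℚ) : ℂ) := by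
      funext g
      rw [M4.ty_val (T.lt g) ((hT _ _ (T.lt g)).1 rfl), nth_eq, Rat.cast_intCast]
      rfl
    rw [Virt, h1]
    exact Characters.Brauer.isGeneralizedCharacter_of_isCharacter isChar
  · exact (ho (by decide) M4.boxC_2B).conj hm ((hT _ _ (by decide)).2
      ((tyM_iff sg_2B zz).2 ⟨orderOf_zz, by simpa using M4.chr_zz⟩)) hw
  · obtain ⟨Φ, h1, h2⟩ := boxPsi
    have h4 : (fun h : Subgroup.centralizer ({zz} : Set MG) => ((nth ctwoL (T.ty h) : ℤ) : ℂ)) =
        fun h : Subgroup.centralizer ({zz} : Set MG) => Φ h := by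
      funext h
      rw [h2 _ (T.lt h) h h.2 ((hT _ _ (T.lt h)).1 rfl), nth_eq]
      rfl
    rw [VirtOn, h4]
    exact h1
  · simp only [List.forall_mem_cons]
    exact ⟨ho (by decide) M4.boxC_3A, ho (by decide) h3, ho (by decide) M4.boxC_3C, ho (by decide) M5.boxC_5A,
      ho (by decide) M5.boxC_5B, ho (by decide) (M7.boxC_7B cover countC), ho (by decide) (Big.boxC_11A cover),
      ho (by decide) (M7.boxC_35A cover countC), List.forall_mem_nil _⟩

/-- the results -/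
structure Out : Prop where
  tab : ∃ T : TD Spor.Monster dat, T.Mass ∧ Tab T tabM
  van : VAN.Van3 Spor.Monster
  odd : OddRat Spor.Monster
  sig : OddSig Spor.Monster
  deg : DegList Spor.Monster degs

/-- the boxes of the section of 3B -/
def Box3 : Prop := BoxCM 4 ∧ ∀ i ∈ [15, 26, 27, 40, 57, 58, 82, 89, 112, 136], BoxM i

theorem tab_of (B : Base) (h : Box3) : ∃ T : TD MG dat, Hyp T ∧ ∀ g, ∀ i < 171, T.ty g = i ↔ TyM i g := by
  obtain ⟨T, hm, hT⟩ := exists_tdM (all_boxes B (List.forall_mem_cons.2 ⟨h.1.box, h.2⟩))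
  exact ⟨T, hyp_of B h.1 hm hT, hT⟩

/-- **the results from the boxes** -/
theorem out_of (B : Base) (h : Box3) : Out := by
  have := finite
  obtain ⟨T, H, hT⟩ := tab_of B h
  obtain ⟨e⟩ := H593.IMMon.equivMG
  have : Finite Spor.Monster := Finite.of_equiv _ e.symm.toEquiv
  have h1 := mass_pull H.mass e
  have h2 := tab_pull H.tab e
  have h4 : ∀ {t}, t < 171 → expB dat t 0 (dat.ord t) 2 = true → (∃ g : MG, TyM t g ∧ IsConj g (g ^ 2)) →
      SigConj (T.pull e) t := fun ht h ⟨g, h5, h6⟩ => sigConj_pull ⟨g, 0, _, 2, (hT _ _ ht).2 h5, h, h6⟩ e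
  refine ⟨⟨_, h1, h2⟩, van_of h1 h2, odd_of h1 h2, sig_of h1 h2 ?_, h2.degList⟩
  simp only [List.forall_mem_cons]
  exact ⟨h4 (by decide) (by decide +kernel) Big.sig_87AB, h4 (by decide) (by decide +kernel) (Big.sig_39CD cover),
    h4 (by decide) (by decide +kernel) (Big.sig_93AB B), List.forall_mem_nil _⟩

end Cfsg.Agent.TAB.M
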