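import Cfsg.Agent.TAB.M.Cols

/-!
# The local certificates for the Monster, odd primes (helper16, TAB)
-/

set_option autoImplicit false
set_option maxRecDepth 100000

namespace Cfsg.Agent.TAB.M

open Cfsg.Agent.TAB.Eng

/-- prime 3, global seed -/
def cG3 : List Cert :=
  [⟨1, [.one, .gen 0 1 0, .gen 0 2 0, .mul 1 1, .mul 2 1, .mul 3 1, .lin [(3220080121, 5), (2777330769, 4),
  (2006510385, 3), (2283633669, 2), (34703970, 1), (3029234408, 0)], .lin [(996003090, 6), (1077793596, 5),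
  (429797542, 4), (2033288226, 3), (2797702031, 2)], .lin [(2721011662, 7), (2486961757, 6), (1485111870, 5),
  (1434924124, 4)], .lin [(766888083, 8), (1096694631, 7), (2609220313, 6)], .lin [(3247184810, 9),
  (3136725217, 8)], .lin [(1, 10)]], [(0, 1), (1, 81), (2, 19683), (3, 243), (4, 243), (5, 27)]⟩, ⟨2, [.one,
  .gen 0 1 0, .gen 0 2 0, .mul 1 1, .mul 2 1, .mul 3 1, .mul 4 1, .gen 0 1 1, .lin [(1180754901, 6),
  (1754648667, 5), (1403451954, 4), (2474016909, 3), (3139364394, 2), (1736099992, 1)], .lin [(1472197941,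
  8), (2232945657, 7), (478772493, 6), (18364212, 5), (366315004, 4), (892913454, 3), (2750685471, 1)], .lin
  [(31567623, 9), (2238429492, 8), (747737487, 7), (301327047, 6), (868427738, 4), (113356365, 2)], .lin
  [(27, 10), (3161432835, 9), (667453670, 8), (858463443, 7), (2653178114, 5)], .lin [(716729249, 11),
  (1456055226, 10), (1698731229, 8), (3443199596, 4)], .lin [(2118407706, 12), (1330207293, 11), (1374102227,
  9)], .lin [(422640546, 13), (2095592645, 12)], .lin [(1, 14)]], [(0, 1), (1, 9), (2, 81), (3, 729), (4,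
  27), (5, 27), (6, 81), (7, 243)]⟩, ⟨6, [.one, .gen 0 1 0, .gen 0 4 0, .mul 1 1, .mul 2 1, .gen 0 1 1, .lin
  [(1859618430, 5), (134446743, 4), (1379775228, 3), (2994191379, 2), (2865683440, 1), (813583026, 0)], .lin
  [(5731548, 6), (446752530, 5), (1359299249, 4), (960565131, 3), (3183523458, 1)], .lin [(2601456848, 7),
  (1458067302, 6), (2130235614, 4), (3269008544, 2)], .lin [(2324523348, 8), (3448042323, 7), (3138105961,
  5)], .lin [(160311936, 9), (1616478592, 8)], .lin [(1, 10)]], [(0, 1), (1, 9), (2, 243), (3, 9), (4, 27),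
  (5, 81)]⟩, ⟨7, [.one, .gen 0 1 0, .gen 0 2 0, .gen 0 4 0, .lin [(343126062, 3), (1546874577, 2),
  (2206924281, 1), (2715478661, 0)], .lin [(2769339235, 4), (1412470503, 3), (3458983394, 2)], .lin
  [(2479491140, 5), (2634459325, 4)], .lin [(1, 6)]], [(0, 1), (1, 9), (2, 243), (3, 27)]⟩, ⟨8, [.one, .gen 0
  1 0, .gen 0 2 0, .mul 1 1, .mul 2 1, .lin [(2100226881, 4), (896334678, 3), (2662949456, 2), (2513560344,
  1), (2445875039, 0)], .lin [(1532837593, 5), (248454455, 4), (1621270525, 3), (2290834195, 2)], .lin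
  [(1835149686, 6), (3265037148, 5), (3117205645, 4)], .lin [(830186765, 7), (830186762, 6)], .lin [(1, 8)]],
  [(0, 1), (1, 3), (2, 9), (3, 27), (4, 9)]⟩, ⟨9, [.one, .gen 0 1 0, .gen 0 2 0, .lin [(9, 2), (2526304438,
  1), (476204351, 0)], .lin [(6, 3), (1743392201, 2)], .lin [(1, 4)]], [(0, 1), (1, 9), (2, 9)]⟩, ⟨10, [.one,
  .gen 0 1 0, .gen 0 5 0, .mul 1 1, .lin [(1087496127, 3), (3102762339, 2), (1778509262, 1), (118944891, 0)],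
  .lin [(3254332322, 4), (2556975199, 3), (2789427521, 1)], .lin [(940878340, 5), (1189934359, 4)], .lin [(1,
  6)]], [(0, 1), (1, 9), (2, 243), (3, 27)]⟩, ⟨18, [.one, .gen 0 1 0, .mul 0 0, .lin [(9, 2), (3429810798,
  1), (687481456, 0)], .lin [(1627166064, 3), (2634459325, 2)], .lin [(1, 4)]], [(0, 1), (1, 9), (2, 9)]⟩,
  ⟨19, [.one, .gen 0 1 0, .mul 0 0, .lin [(3486784400, 2), (1743392200, 1), (1743392201, 0)], .lin
  [(2324522936, 3), (2324522933, 2)], .lin [(1, 4)]], [(0, 1), (1, 3), (2, 9)]⟩, ⟨20, [.one, .gen 0 1 0, .gen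
  0 2 0, .lin [(2453663113, 2), (2259952849, 1), (2259952858, 0)], .lin [(2535843204, 3), (2641503334, 2)],
  .lin [(1, 4)]], [(0, 1), (1, 3), (2, 27)]⟩, ⟨21, [.one, .gen 0 1 0, .gen 0 2 0, .lin [(9, 2), (500418128,
  1), (597273254, 0)], .lin [(1162261479, 3), (3099363911, 2)], .lin [(1, 4)]], [(0, 1), (1, 9), (2, 9)]⟩,
  ⟨22, [.one, .gen 0 2 0, .lin [(1678822145, 1), (839411059, 0)], .lin [(1, 2)]], [(0, 1), (1, 27)]⟩, ⟨23,
  [.one, .gen 0 1 0, .gen 0 2 0, .lin [(2324522936, 2), (3196219036, 1), (2615088301, 0)], .lin [(4, 3), (1,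
  2)], .lin [(1, 4)]], [(0, 1), (1, 3), (2, 9)]⟩, ⟨25, [.one, .gen 0 2 0, .gen 0 4 0, .lin [(9, 2),
  (2526304438, 1), (476204351, 0)], .lin [(6, 3), (1743392201, 2)], .lin [(1, 4)]], [(0, 1), (1, 9), (2,
  9)]⟩, ⟨28, [.one, .gen 0 1 0, .lin [(387420500, 1), (2518233178, 0)], .lin [(1, 2)]], [(0, 1), (1, 9)]⟩,
  ⟨29, [.one, .gen 0 1 0, .gen 0 2 0, .lin [(3099363913, 2), (1307544153, 1), (48427561, 0)], .lin [(3, 3),
  (581130733, 2)], .lin [(1, 4)]], [(0, 1), (1, 3), (2, 9)]⟩, ⟨30, [.one, .gen 0 1 0, .lin [(1743392202, 1),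
  (1743392201, 0)], .lin [(1, 2)]], [(0, 1), (1, 3)]⟩, ⟨31, [.one, .gen 0 1 0, .gen 0 2 0, .lin [(9, 2),
  (3099363911, 0)], .lin [(2905653678, 3), (2518233178, 2)], .lin [(1, 4)]], [(0, 1), (1, 9), (2, 9)]⟩, ⟨33,
  [.one, .gen 0 1 0, .mul 0 0, .lin [(2866911622, 2), (2014586546, 1), (2634459325, 0)], .lin [(2518233187,
  3), (2518233178, 2)], .lin [(1, 4)]], [(0, 1), (1, 9), (2, 9)]⟩, ⟨44, [.one, .gen 0 1 0, .mul 0 0, .lin
  [(9, 2), (1065406341, 1), (419705530, 0)], .lin [(1162261479, 3), (3099363911, 2)], .lin [(1, 4)]], [(0,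
  1), (1, 9), (2, 9)]⟩, ⟨45, [.one, .gen 0 1 0, .lin [(1, 1), (1, 0)], .lin [(1, 2)]], [(0, 1), (1, 3)]⟩,
  ⟨46, [.one, .gen 0 1 0, .lin [(774840989, 1), (3099363911, 0)], .lin [(1, 2)]], [(0, 1), (1, 9)]⟩, ⟨47,
  [.one, .gen 0 1 0, .lin [(3, 1), (2324522933, 0)], .lin [(1, 2)]], [(0, 1), (1, 3)]⟩, ⟨48, [.one, .gen 0 1
  0, .gen 0 2 0, .lin [(1937102453, 2), (3293074156, 1), (1743392199, 0)], .lin [(3486784399, 3), (1, 1)],
  .lin [(1, 4)]], [(0, 1), (1, 3), (2, 9)]⟩, ⟨53, [.one, .gen 0 1 0, .lin [(1162261471, 1), (2324522933, 0)],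
  .lin [(1, 2)]], [(0, 1), (1, 3)]⟩, ⟨56, [.one, .gen 0 1 0, .lin [(2905653671, 1), (581130733, 0)], .lin
  [(1, 2)]], [(0, 1), (1, 3)]⟩, ⟨62, [.one, .gen 0 1 0, .lin [(3, 1), (581130733, 0)], .lin [(1, 2)]], [(0,
  1), (1, 3)]⟩, ⟨63, [.one, .gen 0 1 0, .lin [(3, 1), (581130733, 0)], .lin [(1, 2)]], [(0, 1), (1, 3)]⟩,
  ⟨64, [.one, .gen 0 2 0, .lin [(387420500, 1), (2518233178, 0)], .lin [(1, 2)]], [(0, 1), (1, 9)]⟩, ⟨66,
  [.one, .gen 0 1 0, .lin [(2, 1), (1, 0)], .lin [(1, 2)]], [(0, 1), (1, 3)]⟩, ⟨67, [.one, .gen 0 1 0, .lin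
  [(3, 1), (2324522933, 0)], .lin [(1, 2)]], [(0, 1), (1, 3)]⟩, ⟨68, [.one, .gen 0 1 0, .lin [(581130736, 1),
  (581130733, 0)], .lin [(1, 2)]], [(0, 1), (1, 3)]⟩, ⟨73, [.one, .gen 0 1 0, .lin [(2324522939, 1),
  (2324522933, 0)], .lin [(1, 2)]], [(0, 1), (1, 3)]⟩, ⟨75, [.one, .gen 0 1 0, .lin [(1162261471, 1),
  (2324522933, 0)], .lin [(1, 2)]], [(0, 1), (1, 3)]⟩, ⟨87, [.one, .gen 0 1 0, .lin [(1162261471, 1),
  (2324522933, 0)], .lin [(1, 2)]], [(0, 1), (1, 3)]⟩, ⟨88, [.one, .gen 0 1 0, .lin [(3, 1), (2324522933,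
  0)], .lin [(1, 2)]], [(0, 1), (1, 3)]⟩, ⟨90, [.one, .gen 0 1 0, .lin [(3, 1), (2324522933, 0)], .lin [(1,
  2)]], [(0, 1), (1, 3)]⟩, ⟨91, [.one, .gen 0 1 0, .lin [(3, 1), (2324522933, 0)], .lin [(1, 2)]], [(0, 1),
  (1, 3)]⟩, ⟨93, [.one, .gen 0 1 0, .lin [(2324522936, 1), (2324522933, 0)], .lin [(1, 2)]], [(0, 1), (1,
  3)]⟩, ⟨94, [.one, .gen 0 1 0, .lin [(3, 1), (2324522933, 0)], .lin [(1, 2)]], [(0, 1), (1, 3)]⟩, ⟨102,
  [.one, .gen 0 1 0, .lin [(3, 1), (2324522933, 0)], .lin [(1, 2)]], [(0, 1), (1, 3)]⟩]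

theorem chk_cG3 : chkQ dat 3 20 (3 ^ 20) [valL] cG3 (ntd cols []) 171 = true := by decide +kernel

/-- prime 5, global seed -/
def cG5 : List Cert :=
  [⟨0, [.one, .gen 0 1 0, .mul 0 0, .lin [(224030, 2), (364035, 1), (993630, 0)], .lin [(1169152, 3),
  (1866619, 2), (651042, 1)], .lin [(760191, 4), (1247826, 3)], .lin [(1, 5)]], [(0, 1), (1, 125), (2,
  390625), (3, 125)]⟩, ⟨1, [.one, .gen 0 1 0, .gen 0 2 0, .mul 1 1, .lin [(1759321, 3), (1529704, 2),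
  (1175240, 1), (1526334, 0)], .lin [(1083479, 4), (1133230, 3), (257704, 2)], .lin [(1494278, 5), (1796426,
  4)], .lin [(1, 6)]], [(0, 1), (1, 25), (2, 3125), (3, 25)]⟩, ⟨2, [.one, .gen 0 1 0, .gen 0 2 0, .mul 1 1,
  .lin [(582587, 3), (1220110, 2), (841187, 1), (392870, 0)], .lin [(537673, 4), (824144, 3), (1421058, 1)],
  .lin [(607644, 5), (1526331, 4)], .lin [(1, 6)]], [(0, 1), (1, 5), (2, 25), (3, 625)]⟩, ⟨3, [.one, .gen 0 1
  0, .lin [(1683493, 1), (766129, 0)], .lin [(1, 2)]], [(0, 1), (1, 25)]⟩, ⟨4, [.one, .gen 0 1 0, .mul 0 0,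
  .lin [(1250003, 2), (1219621, 1), (1922743, 0)], .lin [(497164, 3), (497159, 2)], .lin [(1, 4)]], [(0, 1),
  (1, 5), (2, 25)]⟩, ⟨6, [.one, .gen 0 1 0, .mul 0 0, .lin [(142196, 2), (745713, 1), (1065341, 0)], .lin
  [(607644, 3), (1526331, 2)], .lin [(1, 4)]], [(0, 1), (1, 5), (2, 125)]⟩, ⟨7, [.one, .gen 0 1 0, .lin
  [(1015651, 1), (1445312, 0)], .lin [(1, 2)]], [(0, 1), (1, 25)]⟩, ⟨8, [.one, .gen 0 1 0, .lin [(1302090,
  1), (1692708, 0)], .lin [(1, 2)]], [(0, 1), (1, 5)]⟩, ⟨9, [.one, .gen 0 1 0, .gen 0 2 0, .lin [(1562508,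
  2), (1757817, 1), (325521, 0)], .lin [(6, 3), (976563, 2)], .lin [(1, 4)]], [(0, 1), (1, 5), (2, 25)]⟩,
  ⟨12, [.one, .gen 0 1 0, .lin [(1119818, 1), (208333, 0)], .lin [(1, 2)]], [(0, 1), (1, 25)]⟩, ⟨13, [.one,
  .gen 0 1 0, .gen 0 2 0, .lin [(1718768, 2), (273439, 1), (585935, 0)], .lin [(1562506, 3), (1345486, 1)],
  .lin [(1, 4)]], [(0, 1), (1, 5), (2, 25)]⟩, ⟨14, [.one, .gen 0 1 0, .lin [(5, 1), (1692708, 0)], .lin [(1,
  2)]], [(0, 1), (1, 5)]⟩, ⟨15, [.one, .gen 0 1 0, .lin [(2, 1), (1, 0)], .lin [(1, 2)]], [(0, 1), (1, 5)]⟩,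
  ⟨16, [.one, .gen 0 1 0, .lin [(390631, 1), (1562499, 0)], .lin [(1, 2)]], [(0, 1), (1, 5)]⟩, ⟨17, [.one,
  .gen 0 3 0, .lin [(160851, 1), (1294424, 0)], .lin [(1, 2)]], [(0, 1), (1, 5)]⟩, ⟨18, [.one, .gen 0 1 0,
  .lin [(507838, 1), (1445312, 0)], .lin [(1, 2)]], [(0, 1), (1, 25)]⟩, ⟨21, [.one, .gen 0 1 0, .lin
  [(1171881, 1), (1367187, 0)], .lin [(1, 2)]], [(0, 1), (1, 5)]⟩, ⟨22, [.one, .gen 0 2 0, .lin [(1015651,
  1), (1445312, 0)], .lin [(1, 2)]], [(0, 1), (1, 25)]⟩, ⟨23, [.one, .gen 0 1 0, .lin [(4, 1), (1, 0)], .lin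
  [(1, 2)]], [(0, 1), (1, 5)]⟩, ⟨26, [.one, .gen 0 3 0, .lin [(497164, 1), (497159, 0)], .lin [(1, 2)]], [(0,
  1), (1, 5)]⟩, ⟨33, [.one, .gen 0 1 0, .lin [(520839, 1), (1692708, 0)], .lin [(1, 2)]], [(0, 1), (1, 5)]⟩,
  ⟨34, [.one, .gen 0 1 0, .lin [(5, 1), (1692708, 0)], .lin [(1, 2)]], [(0, 1), (1, 5)]⟩, ⟨35, [.one, .gen 0
  1 0, .lin [(390631, 1), (1562499, 0)], .lin [(1, 2)]], [(0, 1), (1, 5)]⟩, ⟨36, [.one, .gen 0 1 0, .lin
  [(781257, 1), (1562499, 0)], .lin [(1, 2)]], [(0, 1), (1, 5)]⟩, ⟨39, [.one, .gen 0 1 0, .lin [(390631, 1),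
  (1562499, 0)], .lin [(1, 2)]], [(0, 1), (1, 5)]⟩, ⟨41, [.one, .gen 0 1 0, .lin [(1692713, 1), (1692708,
  0)], .lin [(1, 2)]], [(0, 1), (1, 5)]⟩, ⟨43, [.one, .gen 0 3 0, .lin [(4, 1), (651042, 0)], .lin [(1, 2)]],
  [(0, 1), (1, 5)]⟩, ⟨46, [.one, .gen 0 1 0, .lin [(585943, 1), (1367187, 0)], .lin [(1, 2)]], [(0, 1), (1,
  5)]⟩, ⟨48, [.one, .gen 0 1 0, .lin [(5, 1), (1367187, 0)], .lin [(1, 2)]], [(0, 1), (1, 5)]⟩, ⟨62, [.one,
  .gen 0 1 0, .lin [(390631, 1), (1562499, 0)], .lin [(1, 2)]], [(0, 1), (1, 5)]⟩, ⟨69, [.one, .gen 0 1 0,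
  .lin [(390631, 1), (1562499, 0)], .lin [(1, 2)]], [(0, 1), (1, 5)]⟩, ⟨73, [.one, .gen 0 1 0, .lin [(5, 1),
  (1562499, 0)], .lin [(1, 2)]], [(0, 1), (1, 5)]⟩]

theorem chk_cG5 : chkQ dat 5 9 (5 ^ 9) [valL] cG5 (ntd cols []) 171 = true := by decide +kernel

/-- prime 7, global seed -/
def cG7 : List Cert :=
  [⟨0, [.one, .gen 0 1 0, .lin [(104809, 1), (25628, 0)], .lin [(1, 2)]], [(0, 1), (1, 49)]⟩, ⟨1, [.one, .gen
  0 1 0, .lin [(47017, 1), (49207, 0)], .lin [(1, 2)]], [(0, 1), (1, 49)]⟩, ⟨2, [.one, .gen 0 1 0, .gen 0 2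
  0, .lin [(52617, 2), (113939, 1), (109915, 0)], .lin [(93092, 3), (8188, 2)], .lin [(1, 4)]], [(0, 1), (1,
  7), (2, 49)]⟩, ⟨3, [.one, .gen 0 1 0, .gen 0 3 0, .lin [(27782, 2), (73619, 1), (23090, 0)], .lin [(37255,
  3), (111441, 2)], .lin [(1, 4)]], [(0, 1), (1, 7), (2, 343)]⟩, ⟨5, [.one, .gen 0 3 0, .lin [(104809, 1),
  (25628, 0)], .lin [(1, 2)]], [(0, 1), (1, 49)]⟩, ⟨6, [.one, .gen 0 1 0, .lin [(93092, 1), (8188, 0)], .lin
  [(1, 2)]], [(0, 1), (1, 7)]⟩, ⟨7, [.one, .gen 0 1 0, .lin [(7255, 1), (115247, 0)], .lin [(1, 2)]], [(0,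
  1), (1, 49)]⟩, ⟨8, [.one, .gen 0 1 0, .lin [(89644, 1), (89637, 0)], .lin [(1, 2)]], [(0, 1), (1, 7)]⟩, ⟨9,
  [.one, .gen 0 1 0, .lin [(6, 1), (58825, 0)], .lin [(1, 2)]], [(0, 1), (1, 7)]⟩, ⟨10, [.one, .gen 0 1 0,
  .lin [(27429, 1), (90227, 0)], .lin [(1, 2)]], [(0, 1), (1, 7)]⟩, ⟨11, [.one, .gen 0 1 0, .lin [(33623, 1),
  (100841, 0)], .lin [(1, 2)]], [(0, 1), (1, 7)]⟩, ⟨12, [.one, .gen 0 1 0, .lin [(70291, 1), (82507, 0)],
  .lin [(1, 2)]], [(0, 1), (1, 7)]⟩, ⟨13, [.one, .gen 0 1 0, .lin [(35149, 1), (82507, 0)], .lin [(1, 2)]],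
  [(0, 1), (1, 7)]⟩, ⟨14, [.one, .gen 0 1 0, .lin [(92446, 1), (25210, 0)], .lin [(1, 2)]], [(0, 1), (1,
  7)]⟩, ⟨17, [.one, .gen 0 3 0, .lin [(93092, 1), (8188, 0)], .lin [(1, 2)]], [(0, 1), (1, 7)]⟩, ⟨20, [.one,
  .gen 0 1 0, .lin [(57151, 1), (60505, 0)], .lin [(1, 2)]], [(0, 1), (1, 7)]⟩, ⟨25, [.one, .gen 0 2 0, .lin
  [(6, 1), (58825, 0)], .lin [(1, 2)]], [(0, 1), (1, 7)]⟩, ⟨28, [.one, .gen 0 1 0, .lin [(28019, 1), (89637,
  0)], .lin [(1, 2)]], [(0, 1), (1, 7)]⟩, ⟨31, [.one, .gen 0 1 0, .lin [(7, 1), (89637, 0)], .lin [(1, 2)]],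
  [(0, 1), (1, 7)]⟩, ⟨36, [.one, .gen 0 1 0, .lin [(7, 1), (100841, 0)], .lin [(1, 2)]], [(0, 1), (1, 7)]⟩,
  ⟨37, [.one, .gen 0 3 0, .lin [(93092, 1), (8188, 0)], .lin [(1, 2)]], [(0, 1), (1, 7)]⟩, ⟨39, [.one, .gen 0
  1 0, .lin [(100848, 1), (100841, 0)], .lin [(1, 2)]], [(0, 1), (1, 7)]⟩, ⟨49, [.one, .gen 0 1 0, .lin
  [(16815, 1), (100841, 0)], .lin [(1, 2)]], [(0, 1), (1, 7)]⟩, ⟨56, [.one, .gen 0 1 0, .lin [(7, 1),
  (100841, 0)], .lin [(1, 2)]], [(0, 1), (1, 7)]⟩]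

theorem chk_cG7 : chkQ dat 7 6 (7 ^ 6) [valL] cG7 (ntd cols []) 171 = true := by decide +kernel

/-- prime 11, global seed -/
def cG11 : List Cert :=
  [⟨0, [.one], [(0, 1)]⟩, ⟨1, [.one, .gen 0 1 0, .lin [(71, 1), (109, 0)], .lin [(1, 2)]], [(0, 1), (1,
  11)]⟩, ⟨2, [.one, .gen 0 1 0, .lin [(26, 1), (106, 0)], .lin [(1, 2)]], [(0, 1), (1, 11)]⟩, ⟨3, [.one, .gen
  0 1 0, .lin [(51, 1), (101, 0)], .lin [(1, 2)]], [(0, 1), (1, 11)]⟩, ⟨4, [.one, .gen 0 1 0, .lin [(112, 1),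
  (101, 0)], .lin [(1, 2)]], [(0, 1), (1, 11)]⟩, ⟨6, [.one, .gen 0 1 0, .lin [(26, 1), (106, 0)], .lin [(1,
  2)]], [(0, 1), (1, 11)]⟩, ⟨10, [.one, .gen 0 1 0, .lin [(35, 1), (109, 0)], .lin [(1, 2)]], [(0, 1), (1,
  11)]⟩, ⟨12, [.one, .gen 0 1 0, .lin [(71, 1), (91, 0)], .lin [(1, 2)]], [(0, 1), (1, 11)]⟩, ⟨13, [.one,
  .gen 0 1 0, .lin [(41, 1), (91, 0)], .lin [(1, 2)]], [(0, 1), (1, 11)]⟩, ⟨21, [.one, .gen 0 1 0, .lin [(23,
  1), (109, 0)], .lin [(1, 2)]], [(0, 1), (1, 11)]⟩, ⟨28, [.one, .gen 0 1 0, .lin [(11, 1), (27, 0)], .lin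
  [(1, 2)]], [(0, 1), (1, 11)]⟩]

theorem chk_cG11 : chkQ dat 11 2 (11 ^ 2) [valL] cG11 (ntd cols []) 171 = true := by decide +kernel

/-- prime 13, global seed -/
def cG13 : List Cert :=
  [⟨0, [.one, .gen 0 1 0, .lin [(612, 1), (1964, 0)], .lin [(1, 2)]], [(0, 1), (1, 13)]⟩, ⟨1, [.one, .gen 0 1
  0, .lin [(11, 1), (1099, 0)], .lin [(1, 2)]], [(0, 1), (1, 13)]⟩, ⟨2, [.one, .gen 0 1 0, .lin [(2017, 1),
  (1529, 0)], .lin [(1, 2)]], [(0, 1), (1, 13)]⟩, ⟨3, [.one, .gen 0 1 0, .lin [(275, 1), (645, 0)], .lin [(1,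
  2)]], [(0, 1), (1, 13)]⟩, ⟨4, [.one, .gen 0 1 0, .lin [(1957, 1), (1225, 0)], .lin [(1, 2)]], [(0, 1), (1,
  13)]⟩, ⟨5, [.one, .gen 0 3 0, .lin [(612, 1), (1964, 0)], .lin [(1, 2)]], [(0, 1), (1, 13)]⟩, ⟨7, [.one,
  .gen 0 1 0, .lin [(13, 1), (1225, 0)], .lin [(1, 2)]], [(0, 1), (1, 13)]⟩, ⟨9, [.one, .gen 0 1 0, .lin
  [(12, 1), (1, 0)], .lin [(1, 2)]], [(0, 1), (1, 13)]⟩, ⟨12, [.one, .gen 0 1 0, .lin [(323, 1), (1887, 0)],
  .lin [(1, 2)]], [(0, 1), (1, 13)]⟩, ⟨13, [.one, .gen 0 1 0, .lin [(13, 1), (1887, 0)], .lin [(1, 2)]], [(0,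
  1), (1, 13)]⟩, ⟨22, [.one, .gen 0 2 0, .lin [(13, 1), (1225, 0)], .lin [(1, 2)]], [(0, 1), (1, 13)]⟩]

theorem chk_cG13 : chkQ dat 13 3 (13 ^ 3) [valL] cG13 (ntd cols []) 171 = true := by decide +kernel

/-- prime 17, global seed -/
def cG17 : List Cert :=
  [⟨0, [.one], [(0, 1)]⟩, ⟨1, [.one], [(0, 1)]⟩, ⟨3, [.one], [(0, 1)]⟩, ⟨7, [.one], [(0, 1)]⟩, ⟨18, [.one],
  [(0, 1)]⟩]

theorem chk_cG17 : chkQ dat 17 1 (17 ^ 1) [valL] cG17 (ntd cols []) 171 = true := by decide +kernel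

/-- prime 19, global seed -/
def cG19 : List Cert :=
  [⟨0, [.one], [(0, 1)]⟩, ⟨1, [.one], [(0, 1)]⟩, ⟨5, [.one], [(0, 1)]⟩, ⟨10, [.one], [(0, 1)]⟩]

theorem chk_cG19 : chkQ dat 19 1 (19 ^ 1) [valL] cG19 (ntd cols []) 171 = true := by decide +kernel

/-- prime 23, global seed -/
def cG23 : List Cert :=
  [⟨0, [.one], [(0, 1)]⟩, ⟨1, [.one], [(0, 1)]⟩, ⟨2, [.one], [(0, 1)]⟩, ⟨3, [.one], [(0, 1)]⟩, ⟨6, [.one],
  [(0, 1)]⟩]

theorem chk_cG23 : chkQ dat 23 1 (23 ^ 1) [valL] cG23 (ntd cols []) 171 = true := by decide +kernel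

/-- prime 29, global seed -/
def cG29 : List Cert :=
  [⟨0, [.one], [(0, 1)]⟩, ⟨3, [.one], [(0, 1)]⟩]

theorem chk_cG29 : chkQ dat 29 1 (29 ^ 1) [valL] cG29 (ntd cols []) 171 = true := by decide +kernel

/-- prime 31, global seed -/
def cG31 : List Cert :=
  [⟨0, [.one], [(0, 1)]⟩, ⟨1, [.one], [(0, 1)]⟩, ⟨5, [.one], [(0, 1)]⟩]

theorem chk_cG31 : chkQ dat 31 1 (31 ^ 1) [valL] cG31 (ntd cols []) 171 = true := by decide +kernel

/-- prime 41, global seed -/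
def cG41 : List Cert :=
  [⟨0, [.one], [(0, 1)]⟩]

theorem chk_cG41 : chkQ dat 41 1 (41 ^ 1) [valL] cG41 (ntd cols []) 171 = true := by decide +kernel

/-- prime 47, global seed -/
def cG47 : List Cert :=
  [⟨0, [.one], [(0, 1)]⟩, ⟨1, [.one], [(0, 1)]⟩]

theorem chk_cG47 : chkQ dat 47 1 (47 ^ 1) [valL] cG47 (ntd cols []) 171 = true := by decide +kernel

/-- prime 59, global seed -/
def cG59 : List Cert :=
  [⟨0, [.one], [(0, 1)]⟩]

theorem chk_cG59 : chkQ dat 59 1 (59 ^ 1) [valL] cG59 (ntd cols []) 171 = true := by decide +kernel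

/-- prime 71, global seed -/
def cG71 : List Cert :=
  [⟨0, [.one], [(0, 1)]⟩]

theorem chk_cG71 : chkQ dat 71 1 (71 ^ 1) [valL] cG71 (ntd cols []) 171 = true := by decide +kernel

/-- prime 3, inside `C(z)` -/
def cC3 : List Cert :=
  [⟨11, [.one, .gen 0 1 0, .gen 1 1 0, .lin [(9, 2), (3099363911, 1)], .lin [(3486784391, 3), (1, 1)], .lin
  [(1, 4)]], [(0, 1), (1, 9), (2, 9)]⟩, ⟨24, [.one, .gen 1 1 0, .lin [(1743392201, 0)], .lin [(1, 2)]], [(0,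
  1), (1, 3)]⟩, ⟨32, [.one, .gen 1 1 0, .lin [(2324522936, 1), (2324522933, 0)], .lin [(1, 2)]], [(0, 1), (1,
  3)]⟩, ⟨65, [.one, .gen 1 1 0, .lin [(2, 1), (1, 0)], .lin [(1, 2)]], [(0, 1), (1, 3)]⟩, ⟨74, [.one, .gen 1
  1 0, .lin [(2, 1), (1, 0)], .lin [(1, 2)]], [(0, 1), (1, 3)]⟩]

theorem chk_cC3 : chkQ dat 3 20 (3 ^ 20) [valL, ctwoL] cC3 (ntd cols []) 171 = true := by decide +kernel

/-- 35A -/
def cS3 : List Cert :=
  [⟨108, [.one], [(0, 1)]⟩]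

theorem chk_cS3 : chkQ dat 3 20 (3 ^ 1) [] cS3 (ntd cols []) 171 = true := by decide +kernel

/-- 3C -/
def cS5a : List Cert :=
  [⟨5, [.one], [(0, 1)]⟩]

theorem chk_cS5a : chkQ dat 5 9 (5 ^ 3) [] cS5a (ntd cols []) 171 = true := by decide +kernel

/-- 7B -/
def cS5b : List Cert :=
  [⟨19, [.one], [(0, 1)]⟩]

theorem chk_cS5b : chkQ dat 5 9 (5 ^ 1) [] cS5b (ntd cols []) 171 = true := by decide +kernel

/-- 3B -/
def cS7 : List Cert :=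
  [⟨4, [.one], [(0, 1)]⟩]

theorem chk_cS7 : chkQ dat 7 6 (7 ^ 1) [] cS7 (ntd cols []) 171 = true := by decide +kernel

/-- the primes and the nontrivial sections -/
def PL : List (ℕ × ℕ × List ℕ) :=
  [(2, 46, [0, 3, 4, 5, 10, 11, 18, 19, 26, 27, 33, 44, 45, 49, 50, 51, 52, 56, 62, 69, 70, 71, 72, 75, 86,
  89, 102, 105, 106, 108, 109, 115, 117, 130, 137]), (3, 20, [0, 1, 2, 6, 7, 8, 9, 10, 11, 18, 19, 20, 21,
  22, 23, 24, 25, 28, 29, 30, 31, 32, 33, 44, 45, 46, 47, 48, 53, 56, 62, 63, 64, 65, 66, 67, 68, 73, 74, 75,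
  87, 88, 90, 91, 93, 94, 102, 108]), (5, 9, [0, 1, 2, 3, 4, 5, 6, 7, 8, 9, 12, 13, 14, 15, 16, 17, 18, 19,
  21, 22, 23, 26, 33, 34, 35, 36, 39, 41, 43, 46, 48, 62, 69, 73]), (7, 6, [0, 1, 2, 3, 4, 5, 6, 7, 8, 9, 10,
  11, 12, 13, 14, 17, 20, 25, 28, 31, 36, 37, 39, 49, 56]), (11, 2, [0, 1, 2, 3, 4, 6, 10, 12, 13, 21, 28]),
  (13, 3, [0, 1, 2, 3, 4, 5, 7, 9, 12, 13, 22]), (17, 1, [0, 1, 3, 7, 18]), (19, 1, [0, 1, 5, 10]), (23, 1,
  [0, 1, 2, 3, 6]), (29, 1, [0, 3]), (31, 1, [0, 1, 5]), (41, 1, [0]), (47, 1, [0, 1]), (59, 1, [0]), (71, 1,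
  [0])]

theorem okPL : okPrimes dat PL = true := by decide +kernel

/-- stage 0 -/
def st0 : List (ℤ × ℕ) := [(1, 54), (-1, 63), (1, 64), (1, 87), (1, 90), (1, 96), (-1, 105), (-1, 113), (1, 115), (1, 122)]

/-- stage 0 -/
def cT0 : Cert :=
  ⟨0, [.one, .gen 0 1 0, .mul 0 0, .mul 1 0, .mul 2 0, .gen 0 1 1, .lin [(1886182524, 4), (1229963697, 3),
  (1029792312, 2), (3152232658, 1)], .lin [(3312861525, 6), (1463916564, 5), (1678803408, 4), (1244522862,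
  3), (203382468, 1)], .lin [(3395871837, 7), (2540681640, 6), (1961258589, 5), (2282500898, 4), (3050061099,
  2)], .lin [(604998738, 8), (1690641396, 7), (822762711, 6), (3148074467, 3)], .lin [(2417423049, 9),
  (3029034501, 8), (3138105961, 7)], .lin [(3485824983, 10), (1469527219, 9)], .lin [(1, 11)]], [(0, 1), (1,
  729), (2, 14348907), (3, 6561), (4, 19683), (5, 177147), (6, 81)]⟩

theorem chk_cT0 : chkQ dat 3 20 (3 ^ 20) [valL] [cT0]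
    (cmbs cols (sqT 3 54 st0)) (sqT 3 54 st0).length = true := by decide +kernel

theorem ok_st0 : okSq ms 3 st0 = true := by decide +kernel

/-- stage 1 -/
def st1 : List (ℤ × ℕ) := [(1, 8), (-1, 25), (-1, 50), (-1, 74), (1, 92), (-1, 94), (1, 126), (1, 137), (1, 143), (1, 161)]

/-- stage 1 -/
def cT1 : Cert :=
  ⟨0, [.one, .gen 0 1 0, .gen 1 1 0, .mul 1 1, .mul 2 0, .gen 0 1 1, .lin [(3415180401, 5), (2233867410, 4),
  (1231809627, 3), (3370875183, 2), (1473229038, 1), (1166239467, 0)], .lin [(3113429508, 6), (1937366343,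
  5), (400044100, 4), (1788047811, 3), (1841655172, 2), (408165708, 1)], .lin [(2563041528, 7), (1407292218,
  6), (1874883322, 5), (1991472993, 4)], .lin [(604998738, 8), (1690641396, 7), (822762711, 5), (3148074467,
  3)], .lin [(2417423049, 9), (3029034501, 8), (3138105961, 6)], .lin [(3485824983, 10), (1469527219, 9)],
  .lin [(1, 11)]], [(0, 1), (1, 729), (2, 14348907), (3, 6561), (4, 19683), (5, 59049), (6, 81)]⟩

theorem chk_cT1 : chkQ dat 3 20 (3 ^ 20) [valL, rwL cols 54] [cT1]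
    (cmbs cols (sqT 3 8 st1)) (sqT 3 8 st1).length = true := by decide +kernel

theorem ok_st1 : okSq ms 3 st1 = true := by decide +kernel

/-- stage 2 -/
def st2 : List (ℤ × ℕ) := [(1, 13), (1, 16), (1, 21), (1, 26), (1, 31), (1, 34), (1, 95), (-1, 106), (-1, 116), (1, 117)]

/-- stage 2 -/
def cT2 : Cert :=
  ⟨0, [.one, .gen 0 1 0, .gen 2 1 0, .mul 1 1, .mul 2 0, .gen 0 1 1, .lin [(1419521679, 4), (1093596777, 3),
  (260238879, 2), (2338332339, 1)], .lin [(2942541594, 6), (2791506645, 5), (3480428901, 4), (1727112501, 3),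
  (3353838472, 2), (1579920948, 1)], .lin [(2520633321, 7), (2524533615, 6), (1650638413, 5), (3298446429,
  4), (1800680549, 2)], .lin [(6561, 8), (502323390, 7), (1325056970, 6), (1169760693, 5)], .lin
  [(2417423049, 9), (3029034501, 8), (3138105961, 6)], .lin [(3485824983, 10), (1469527219, 9)], .lin [(1,
  11)]], [(0, 1), (1, 729), (2, 14348907), (3, 6561), (4, 6561), (5, 59049), (6, 81)]⟩

theorem chk_cT2 : chkQ dat 3 20 (3 ^ 20) [valL, rwL cols 54, rwL cols 8] [cT2]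
    (cmbs cols (sqT 3 13 st2)) (sqT 3 13 st2).length = true := by decide +kernel

theorem ok_st2 : okSq ms 3 st2 = true := by decide +kernel

/-- stage 3 -/
def st3 : List (ℤ × ℕ) := [(1, 10), (-1, 19), (1, 22), (1, 27), (1, 30), (-1, 33), (-1, 41), (1, 43), (1, 47), (-1, 51)]

/-- stage 3 -/
def cT3 : Cert :=
  ⟨0, [.one, .gen 0 1 0, .gen 2 1 0, .gen 3 1 0, .mul 2 2, .mul 3 1, .lin [(46235367, 5), (2674258647, 4),
  (949554558, 3), (1218062772, 2), (1487881140, 1), (3260508504, 0)], .lin [(1623990924, 6), (2642723129, 5),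
  (1332826185, 4), (2533891707, 3), (790891205, 2), (2915330066, 1)], .lin [(2719870431, 7), (1333728267, 6),
  (630981340, 5), (2794972812, 4), (3409954140, 3)], .lin [(1958101280, 8), (971872769, 7), (2109991721, 5),
  (3445252865, 4)], .lin [(2655781667, 9), (3249273179, 8), (207135707, 6)], .lin [(3485824983, 10),
  (1469527219, 9)], .lin [(1, 11)]], [(0, 1), (1, 729), (2, 14348907), (3, 2187), (4, 6561), (5, 59049), (6,
  81)]⟩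

theorem chk_cT3 : chkQ dat 3 20 (3 ^ 20) [valL, rwL cols 54, rwL cols 8, rwL cols 13] [cT3]
    (cmbs cols (sqT 3 10 st3)) (sqT 3 10 st3).length = true := by decide +kernel

theorem ok_st3 : okSq ms 3 st3 = true := by decide +kernel

/-- stage 4 -/
def st4 : List (ℤ × ℕ) := [(1, 2), (-1, 3), (1, 4), (-1, 5), (1, 6), (-1, 7), (1, 9), (1, 11), (-1, 12), (-1, 14)]

/-- stage 4 -/
def cT4 : Cert :=
  ⟨0, [.one, .gen 0 1 0, .gen 2 1 0, .gen 3 1 0, .gen 4 1 0, .mul 3 3, .lin [(1872046815, 5), (1768530633,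
  4), (3107285532, 3), (1446180585, 2), (3121045434, 1), (2849955729, 0)], .lin [(37931450, 6), (2118837032,
  5), (2371984590, 4), (431778683, 3), (970162887, 2), (2868399416, 1)], .lin [(3233600526, 7), (1624703430,
  6), (1392429625, 5), (2050087773, 4), (2944012131, 3)], .lin [(2448647366, 8), (416686412, 7), (1322277149,
  5), (1827393704, 4)], .lin [(2655781667, 9), (3249273179, 8), (207135707, 6)], .lin [(3485824983, 10),
  (1469527219, 9)], .lin [(1, 11)]], [(0, 1), (1, 729), (2, 14348907), (3, 729), (4, 6561), (5, 59049), (6,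
  81)]⟩

theorem chk_cT4 : chkQ dat 3 20 (3 ^ 20) [valL, rwL cols 54, rwL cols 8, rwL cols 13, rwL cols 10] [cT4]
    (cmbs cols (sqT 3 2 st4)) (sqT 3 2 st4).length = true := by decide +kernel

theorem ok_st4 : okSq ms 3 st4 = true := by decide +kernel

/-- the last stage -/
def cT : List Cert :=
  [⟨0, [.one, .gen 0 1 0, .gen 2 1 0, .gen 3 1 0, .gen 5 1 0, .mul 3 3, .lin [(157266483, 5), (2564031588,
  4), (1347607944, 3), (1872786480, 2), (1543040226, 1), (1704981741, 0)], .lin [(2263707260, 6),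
  (1727132726, 5), (1430383170, 4), (1927032260, 3), (2996851401, 2), (1684789445, 1)], .lin [(796968687, 7),
  (1272317421, 6), (531127249, 5), (1381350270, 4), (1843804404, 3)], .lin [(1866448249, 8), (1036829956, 7),
  (3242999893, 5), (3068974068, 4)], .lin [(1193641118, 9), (2306650577, 8), (2657041589, 5)], .lin
  [(3485824983, 10), (1469527219, 9)], .lin [(1, 11)]], [(0, 1), (1, 729), (2, 4782969), (3, 729), (4, 6561),
  (5, 59049), (6, 81)]⟩]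

theorem chk_cT : chkQ dat 3 20 (3 ^ 20) [valL, rwL cols 54, rwL cols 8, rwL cols 13, rwL cols 10, rwL cols 2] cT (ntd cols []) 171 = true := by decide +kernel

end Cfsg.Agent.TAB.M
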