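import Cfsg.Agent.TAB.M.CertA
import Cfsg.Agent.TAB.M.CertB
import Cfsg.Agent.TAB.M.Gram

/-!
# The table of the Monster from the types (helper16, TAB)

`Hyp.tab` : the irreducible characters of a group with the types of the Monster.
-/

set_option autoImplicit false
set_option maxRecDepth 100000

namespace Cfsg.Agent.TAB.M

open Cfsg Cfsg.Agent.TAB.Eng Cfsg.Agent.TAB.Use
open Subgroup (centralizer)

universe u

variable {G : Type u} [Group G] {T : TD G dat}

/-- what is needed of the group -/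
structure Hyp (T : TD G dat) : Prop where
  mass : T.Mass
  val : Virt T (nth valL)
  psi : ∃ z : G, (∀ w, T.ty w = 2 → IsConj z w) ∧ VirtOn T (centralizer {z}) (nth ctwoL)
  one : ∀ s ∈ [3, 4, 5, 10, 11, 19, 33, 108], One T s
  c47 : ∀ g, T.ty g = 130 → ¬ 2 ^ (1 + 1) ∣ Nat.card (centralizer ({g} : Set G))

/-- the local condition for all the rows -/
def AllG (T : TD G dat) (l s : ℕ) : Prop := ∀ i < 171, Good T l s (rw cols i)

/-- the table -/
noncomputable def tabM : Rows := mkR cols degs cons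

namespace Hyp

variable [Finite G] (H : Hyp T)
include H

omit [Finite G] in
theorem seeds : ∀ sd ∈ [valL], Virt T (nth sd) := fun _ h => List.mem_singleton.1 h ▸ H.val

theorem gG {l A : ℕ} {cs : List Cert} (h : chkQ dat l A (l ^ A) [valL] cs (ntd cols []) 171 = true) :
    ∀ s ∈ cs.map Cert.s, AllG T l s := good_of_chkQ H.mass.1 okLen h H.seeds

theorem gC {l A : ℕ} {cs : List Cert} (h : chkQ dat l A (l ^ A) [valL, ctwoL] cs (ntd cols []) 171 = true) {s : ℕ}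
    (hs : s ∈ cs.map Cert.s) {R : Subgroup G} {b : G} (hR : IsPGroup l R) (hb : T.ty b = s) (hb' : ¬ l ∣ orderOf b)
    (hc : ∀ a ∈ R, Commute a b) (hI : Eng.InC T 2 R b) : ∀ i < 171, GoodAt T R b (rw cols i) := by
  obtain ⟨z, h1, h2⟩ := H.psi
  exact goodAt_of_chkQ H.mass.1 okLen h (hb ▸ hs) hR hb' hc (hI.fit h1 (List.forall_mem_cons.2 ⟨H.val.on _,
    fun _ h => List.mem_singleton.1 h ▸ h2⟩) (card_dvd_of_okP (okP_of_chkQ h) H.mass.1 hR))

theorem gS {l A e : ℕ} {cs : List Cert} (h : chkQ dat l A (l ^ e) [] cs (ntd cols []) 171 = true) {s : ℕ}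
    (hs : s ∈ cs.map Cert.s) {R : Subgroup G} {b : G} (hR : IsPGroup l R) (hb : T.ty b = s) (hb' : ¬ l ∣ orderOf b)
    (hc : ∀ a ∈ R, Commute a b) (hd : Nat.card R ∣ l ^ e) : ∀ i < 171, GoodAt T R b (rw cols i) :=
  goodAt_of_chkQ H.mass.1 okLen h (hb ▸ hs) hR hb' hc (fit_top (List.forall_mem_nil _) hd)

theorem gOne {l A e : ℕ} {cs : List Cert} (h : chkQ dat l A (l ^ e) [] cs (ntd cols []) 171 = true) {s : ℕ}
    (hs : s ∈ cs.map Cert.s) (hl : l.Prime) (h1 : s ∈ [3, 4, 5, 10, 11, 19, 33, 108])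
    (h2 : ¬ dat.cnt s * l ^ (e + 1) ∣ dat.N) : AllG T l s := fun i hi _ _ hR hb hb' hc =>
  H.gS h hs hR hb hb' hc (card_dvd_of_cent hl hR hc ((H.one s h1).not_dvd H.mass h2 hb)) i hi

theorem gSyl {l A : ℕ} {cs : List Cert} (h : chkQ dat l A (l ^ A) [valL, ctwoL] cs (ntd cols []) 171 = true) {s : ℕ}
    (hs : s ∈ cs.map Cert.s) (hl : l.Prime) (h0 : One T s) (e B t a k : ℕ)
    (h1 : t < dat.n ∧ ¬ dat.cnt s * l ^ (e + 1) ∣ dat.N ∧ l ^ (B + e) ∣ dat.N ∧ ¬ l ^ (B + 1) ∣ dat.cnt t ∧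
      dat.pwf t a = s ∧ dat.pwf t k = 2) : AllG T l s := fun i hi _ _ hR hb hb' hc =>
  H.gC h hs hR hb hb' hc (inC_syl H.mass hl h0 h1.1 h1.2.1 h1.2.2.1 h1.2.2.2.1 h1.2.2.2.2.1 h1.2.2.2.2.2 hR hb hc) i hi

theorem gPow {s : ℕ} (hs : s ∈ cC3.map Cert.s) (k : ℕ) (h1 : dat.pwf s k = 2) : AllG T 3 s :=
  fun i hi _ _ hR hb hb' hc => H.gC chk_cC3 hs hR hb hb' hc (inC_pow hc (hb ▸ h1)) i hi

theorem gPrime {s : ℕ} (hs : s ∈ cC2.map Cert.s) (k : ℕ)
    (h1 : ∀ t < dat.n, dat.pwf t (2 ^ 46) = s → dat.ord t = 2 * dat.ord s → dat.pwf t k = 2) : AllG T 2 s := by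
  intro i hi R b hR hb hb' hc
  by_cases h : R = ⊥
  · exact h ▸ goodAt_bot b _
  · exact H.gC chk_cC2 hs hR hb hb' hc (inC_prime H.mass.1 (okP_of_chkQ chk_cC2) h1 hR hb hb' hc h) i hi

theorem gFour {s : ℕ} (hs : s ∈ cC2.map Cert.s) (hs' : s ∈ cS2b.map Cert.s) (L : List ℕ)
    (hL : ∀ t < dat.n, dat.pwf t (2 ^ 46) = s → dat.ord t = 2 * dat.ord s → t ∈ L)
    (h4 : ∀ t < dat.n, dat.pwf t (2 ^ 46) = s → dat.ord t = 4 * dat.ord s → dat.pwf t (2 * dat.ord s) = 2)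
    (h2 : ∀ x ∈ L, ∀ y ∈ L, ∀ y' ∈ L, dat.pwf x (dat.ord s) ≠ 2 →
      4 ∣ nth valL s + nth valL x + nth valL y + nth valL y' →
      y ≠ y' ∧ (dat.pwf y (dat.ord s) = 2 ∨ dat.pwf y' (dat.ord s) = 2)) : AllG T 2 s := by
  intro i hi R b hR hb hb' hc
  rcases inC_four H.mass.1 (okP_of_chkQ chk_cC2) H.val hL h4 h2 hR hb hb' hc with h | h
  · exact H.gS chk_cS2b hs' hR hb hb' hc h i hi
  · exact H.gC chk_cC2 hs hR hb hb' hc h i hi

theorem ty_one : T.ty 1 = 0 :=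
  (TD.ty_eq_zero H.mass (by decide) (by decide +kernel) (by decide +kernel) 1).2 rfl

theorem one_zero : One T 0 :=
  ⟨1, H.ty_one, by
    rw [show dat.cnt 0 = 1 by decide +kernel, one_mul]
    exact Subgroup.card_le_card_group _⟩

theorem special : ∀ p ∈ [(2, 0), (2, 3), (2, 5), (2, 10), (2, 27), (2, 33), (2, 51), (2, 71), (2, 108), (2, 130),
    (3, 11), (3, 24), (3, 32), (3, 65), (3, 74), (3, 108), (5, 5), (5, 19), (7, 4)], AllG T p.1 p.2 := by
  have h2 := Nat.prime_two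
  have h3 := Nat.prime_three
  simp only [List.forall_mem_cons]
  refine ⟨H.gSyl chk_cC2 (by decide) h2 H.one_zero 46 0 2 2 1 (by decide +kernel),
    H.gSyl chk_cC2 (by decide) h2 (H.one _ (by decide)) 21 25 14 2 3 (by decide +kernel),
    H.gPrime (by decide) 3 (by decide +kernel),
    H.gSyl chk_cC2 (by decide) h2 (H.one _ (by decide)) 14 32 29 2 5 (by decide +kernel),
    H.gFour (by decide) (by decide) [57, 60, 61] (by decide +kernel) (by decide +kernel) (by decide +kernel),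
    H.gSyl chk_cC2 (by decide) h2 (H.one _ (by decide)) 6 40 74 2 11 (by decide +kernel),
    H.gFour (by decide) (by decide) [95, 100, 101] (by decide +kernel) (by decide +kernel) (by decide +kernel),
    H.gPrime (by decide) 21 (by decide +kernel),
    H.gOne chk_cS2a (by decide) h2 (by decide) (by decide +kernel),
    fun i hi _ _ hR hb hb' hc => H.gS chk_cS2b (by decide) hR hb hb' hc (card_dvd_of_cent h2 hR hc (H.c47 _ hb)) i hi,
    H.gSyl chk_cC3 (by decide) h3 (H.one _ (by decide)) 3 17 31 2 5 (by decide +kernel),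
    H.gPow (by decide) 4 (by decide +kernel), H.gPow (by decide) 5 (by decide +kernel),
    H.gPow (by decide) 10 (by decide +kernel), H.gPow (by decide) 11 (by decide +kernel),
    H.gOne chk_cS3 (by decide) h3 (by decide) (by decide +kernel),
    H.gOne chk_cS5a (by decide) Nat.prime_five (by decide) (by decide +kernel),
    H.gOne chk_cS5b (by decide) Nat.prime_five (by decide) (by decide +kernel),
    H.gOne chk_cS7 (by decide) (by norm_num) (by decide) (by decide +kernel), List.forall_mem_nil _⟩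

theorem global : ∀ y ∈ [(2, cG2), (3, cG3), (5, cG5), (7, cG7), (11, cG11), (13, cG13), (17, cG17), (19, cG19),
    (23, cG23), (29, cG29), (31, cG31), (41, cG41), (47, cG47), (59, cG59), (71, cG71)],
    ∀ s ∈ y.2.map Cert.s, AllG T y.1 s := by
  simp only [List.forall_mem_cons]
  exact ⟨H.gG chk_cG2, H.gG chk_cG3, H.gG chk_cG5, H.gG chk_cG7, H.gG chk_cG11, H.gG chk_cG13, H.gG chk_cG17,
    H.gG chk_cG19, H.gG chk_cG23, H.gG chk_cG29, H.gG chk_cG31, H.gG chk_cG41, H.gG chk_cG47, H.gG chk_cG59,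
    H.gG chk_cG71, List.forall_mem_nil _⟩

theorem allG : ∀ x ∈ PL, ∀ s ∈ x.2.2, (x.1 = 3 ∧ s = 0) ∨ AllG T x.1 s := by
  have h : ∀ x ∈ PL, ∀ s ∈ x.2.2, (x.1 = 3 ∧ s = 0) ∨ (x.1, s) ∈ [(2, 0), (2, 3), (2, 5), (2, 10), (2, 27), (2, 33),
      (2, 51), (2, 71), (2, 108), (2, 130), (3, 11), (3, 24), (3, 32), (3, 65), (3, 74), (3, 108), (5, 5), (5, 19),
      (7, 4)] ∨ ∃ y ∈ [(2, cG2), (3, cG3), (5, cG5), (7, cG7), (11, cG11), (13, cG13), (17, cG17), (19, cG19),
      (23, cG23), (29, cG29), (31, cG31), (41, cG41), (47, cG47), (59, cG59), (71, cG71)],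
        x.1 = y.1 ∧ s ∈ y.2.map Cert.s := by decide +kernel
  intro x hx s hs
  rcases h x hx s hs with h1 | h1 | ⟨y, hy, h1, h2⟩
  · exact Or.inl h1
  · exact Or.inr (H.special _ h1)
  · exact Or.inr (h1 ▸ H.global y hy s h2)

theorem stage {seeds : List (List ℤ)} (hsd : ∀ sd ∈ seeds, Virt T (nth sd)) {c : Cert} {i0 : ℕ} {st : List (ℤ × ℕ)}
    (h : chkQ dat 3 20 (3 ^ 20) seeds [c] (cmbs cols (sqT 3 i0 st)) (sqT 3 i0 st).length = true) (h0 : c.s = 0)
    (h1 : okSq ms 3 st = true) (h2 : ∀ y ∈ sqT 3 i0 st, ∀ p ∈ y, p.2 < 171) :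
    ∀ sd ∈ seeds ++ [rwL cols i0], Virt T (nth sd) := by
  refine List.forall_mem_append.2 ⟨hsd, fun sd h3 => ?_⟩
  rw [List.mem_singleton.1 h3, nth_rwL]
  exact virt_sq H.mass (gram_of_chkG okLen chk_gram).2 h1
    (virt_cmbs H.mass.1 okLen okPL (h0 ▸ H.allG) hsd h h2)

/-- all the rows are generalized characters -/
theorem virt : ∀ i < 171, Virt T (rw cols i) := by
  have h0 := H.stage H.seeds chk_cT0 rfl ok_st0 (by decide)
  have h1 := H.stage h0 chk_cT1 rfl ok_st1 (by decide)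
  have h2 := H.stage h1 chk_cT2 rfl ok_st2 (by decide)
  have h3 := H.stage h2 chk_cT3 rfl ok_st3 (by decide)
  have h4 := H.stage h3 chk_cT4 rfl ok_st4 (by decide)
  intro i hi
  refine virt_of_good H.mass.1 okPL fun x hx s hs => ?_
  rcases H.allG x hx s hs with ⟨h5, h6⟩ | h5
  · rw [h5, h6]
    exact good_of_chkQ H.mass.1 okLen chk_cT h4 0 (by decide) i hi
  · exact h5 i hi

/-- **the table** -/
theorem tab : Tab T tabM := tab_of_cols H.mass okLen chk_gram chk_fin H.virt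

omit [Finite G] in
theorem inh : Inh T := inh_of_mass H.mass (by decide +kernel)

end Hyp

end Cfsg.Agent.TAB.M
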