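import Cfsg.Agent.TAB.M.Asm
import Cfsg.Agent.TAB.Eng.Cnt

/-!
# The types of the Monster: cover, masses, classes (helper16, TAB)
-/

set_option autoImplicit false
set_option maxRecDepth 100000

namespace Cfsg.Agent.TAB.M

open Cfsg Cfsg.Agent.TAB.Eng Cfsg.Agent.BpSpor.MBigModel
open Cfsg.Agent.H940.Eng (Base)
open Subgroup (centralizer)

variable (B : Base) (h : Box3)
include B h

/-- every element has a type -/
theorem ty_cover (g : MG) : ∃ i < 171, TyM i g := by
  obtain ⟨T, -, hT⟩ := tab_of B h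
  exact ⟨_, T.lt g, (hT _ _ (T.lt g)).1 rfl⟩

/-- the number of the elements of a type -/
theorem card_ty {i : ℕ} (hi : i < 171) : Nat.card {g : MG // TyM i g} = dat.cnt i := by
  obtain ⟨T, H, hT⟩ := tab_of B h
  rw [← H.mass.2 i hi]
  exact Nat.card_congr (Equiv.subtypeEquivRight fun g => (hT g i hi).symm)

/-- the strong types are classes -/
theorem conj_ty {i : ℕ} (hi : i < 171) (hc : BoxCM i) {a b : MG} (ha : TyM i a) (hb : TyM i b) : IsConj a b := by
  have := finite
  obtain ⟨T, H, hT⟩ := tab_of B h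
  exact (BoxC.one hT hi hc).conj H.mass ((hT _ i hi).2 ha) ((hT _ i hi).2 hb)

/-- the orders of the centralizers for the strong types -/
theorem cent_ty {i : ℕ} (hi : i < 171) (hc : BoxCM i) {a : MG} (ha : TyM i a) :
    dat.cnt i * Nat.card (centralizer ({a} : Set MG)) = dat.N := by
  have := finite
  obtain ⟨T, H, hT⟩ := tab_of B h
  exact (BoxC.one hT hi hc).card H.mass ((hT _ i hi).2 ha)

/-- the types of a given order -/
theorem ty_of_ord {o : ℕ} {L : List ℕ} (hL : ∀ i < 171, dat.ord i = o → i ∈ L) {g : MG} (hg : orderOf g = o) :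
    ∃ i ∈ L, TyM i g := by
  obtain ⟨i, hi, h1⟩ := ty_cover B h g
  exact ⟨i, hL i hi (h1.1.symm.trans hg), h1⟩

/-- the elements of order three -/
theorem three {x : MG} (hx : orderOf x = 3) :
    TyM 3 x ∧ Nat.card (centralizer ({x} : Set MG)) = 3765617127571985163878400 ∨
      TyM 4 x ∧ Nat.card (centralizer ({x} : Set MG)) = 1429615077540249600 ∨
      TyM 5 x ∧ Nat.card (centralizer ({x} : Set MG)) = 272237831663616000 := by
  obtain ⟨i, hi, h1⟩ := ty_of_ord B h (L := [3, 4, 5]) (by decide +kernel) hx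
  have hN : dat.N = 808017424794512875886459904961710757005754368000000000 := rfl
  simp only [List.mem_cons, List.not_mem_nil, or_false] at hi
  rcases hi with rfl | rfl | rfl
  · have h2 := cent_ty B h (by decide) M4.boxC_3A h1
    rw [cnt_3A, hN] at h2
    exact Or.inl ⟨h1, by omega⟩
  · have h2 := cent_ty B h (by decide) h.1 h1
    rw [cnt_3B, hN] at h2
    exact Or.inr (Or.inl ⟨h1, by omega⟩)
  · have h2 := cent_ty B h (by decide) M4.boxC_3C h1
    rw [cnt_3C, hN] at h2
    exact Or.inr (Or.inr ⟨h1, by omega⟩)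

theorem ev3 {x : MG} (hx : orderOf x = 3) : 2 ∣ Nat.card (centralizer ({x} : Set MG)) := by
  rcases three B h hx with ⟨-, h1⟩ | ⟨-, h1⟩ | ⟨-, h1⟩ <;> rw [h1] <;> norm_num

/-- **commuting elements of coprime orders** : `x` has the strong type `s`, the elements `t` have types in `L` -/
theorem card_comm_ty {s : ℕ} (hs : s < 171) (hc : BoxCM s) {x : MG} (hx : TyM s x) (L : List ℕ) (b k l : ℕ)
    (hk : (∀ i ∈ L, i < 171 ∧ dat.ord i ∣ b) ∧
      k % dat.ord s = 1 % dat.ord s ∧ b ∣ k ∧ dat.ord s ∣ l ∧ l % b = 1 % b ∧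
      (k + l) % (dat.ord s * b) = 1 % (dat.ord s * b)) :
    dat.cnt s * Nat.card {t : MG // (∃ i ∈ L, TyM i t) ∧ t * x = x * t} =
      dat.tot fun u => decide (dat.pwf u l ∈ L) && decide (dat.ord u ∣ dat.ord s * b) && dat.pwf u k == s := by
  have := finite
  obtain ⟨T, H, hT⟩ := tab_of B h
  obtain ⟨h1, h3, h4, h5, h6, h7⟩ := hk
  rw [← card_comm H.mass (BoxC.one hT hs hc) ((hT _ s hs).2 hx) (fun i => decide (i ∈ L))
    (by rw [← hx.1, pow_orderOf_eq_one]) (fun t ht => by
      rw [← orderOf_dvd_iff_pow_eq_one, T.ord]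
      exact (h1 _ (of_decide_eq_true ht)).2) h3 h4 h5 h6 h7]
  refine congrArg _ (Nat.card_congr (Equiv.subtypeEquivRight fun t => and_congr_left fun _ => ?_))
  rw [decide_eq_true_eq]
  exact ⟨fun ⟨i, hi, h8⟩ => (hT _ i (h1 i hi).1).2 h8 ▸ hi, fun h8 => ⟨_, h8, (hT _ _ (T.lt t)).1 rfl⟩⟩

end Cfsg.Agent.TAB.M
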