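import Cfsg.Agent.TAB.M.Dat
import Cfsg.Agent.TAB.Eng.Fin

/-!
# The table of the Monster: data

163 rows are irreducible characters or sums of two, the last 8 are `χ₀ ∓ χᵢ` for the nine characters which
separate the classes 27A and 27B.  The table is given by its columns (helper16, TAB)
-/

set_option autoImplicit false
set_option maxRecDepth 100000

namespace Cfsg.Agent.TAB.M

open Cfsg.Agent.TAB.Eng

/-- the values at 1A -/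
def col0 : List ℤ :=
  [.ofNat 1, .ofNat 196883, .ofNat 21296876, .ofNat 842609326, .ofNat 18538750076, .ofNat 19360062527,
  .ofNat 293553734298, .ofNat 3879214937598, .ofNat 36173193327999, .ofNat 125510727015275,
  .ofNat 190292345709543, .ofNat 222879856734249, .ofNat 1044868466775133, .ofNat 1109944460516150,
  .ofNat 2374124840062976, .ofNat 17961233855468750, .ofNat 15178147608537368, .ofNat 39660520552077425,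
  .ofNat 60359800576579350, .ofNat 251098487132187500, .ofNat 290568421805921077, .ofNat 336041615485626050,
  .ofNat 2500435234254428856, .ofNat 2986480825407204125, .ofNat 7006869320150089962,
  .ofNat 3605718753596953125, .ofNat 8456836343580310400, .ofNat 8754193822112578125,
  .ofNat 28585990950721640625, .ofNat 30815545786259524745, .ofNat 31569817307122699605,
  .ofNat 47377503606648784400, .ofNat 77316619273928125000, .ofNat 130415350420342968750,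
  .ofNat 155943076739182582850, .ofNat 344798868403186709512, .ofNat 572486535385448972288,
  .ofNat 379913824694312370176, .ofNat 1281116728334527245252, .ofNat 643356925889917747200,
  .ofNat 1382340288050939461244, .ofNat 776097192277137500000, .ofNat 918438233727730974720,
  .ofNat 1353006807137391674268, .ofNat 2960558954293230468750, .ofNat 3536261605166253906250,
  .ofNat 2351753641814605348320, .ofNat 2382987417506242421875, .ofNat 9134398353824972800000,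
  .ofNat 5578077210155766091776, .ofNat 6566555764392010419123, .ofNat 7226910362631220625000,
  .ofNat 10145274012943412428800, .ofNat 12810005542623250817856, .ofNat 19795913912408993711352,
  .ofNat 21803647757861753437500, .ofNat 24670833602960142274950, .ofNat 31714653744947491918600,
  .ofNat 41209556844092914062500, .ofNat 85880805827419089843750, .ofNat 60683762052057587326065,
  .ofNat 141320692682618667968750, .ofNat 86551489469233273849000, .ofNat 91068387388302451493925,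
  .ofNat 114212876389603002704448, .ofNat 115192831837135016250000, .ofNat 146575737439884098045700,
  .ofNat 299229588298452021805056, .ofNat 323298222004521585937500, .ofNat 382518170226919890625000,
  .ofNat 218028402153522030021875, .ofNat 220326476909636307378168, .ofNat 521599048214167535937500,
  .ofNat 261575621299360905468750, .ofNat 277540481294528814140625, .ofNat 303379038247015811718750,
  .ofNat 331150814995116217581480, .ofNat 351532203382732066094400, .ofNat 391009081837477378329600,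
  .ofNat 392611651975065600000000, .ofNat 1195575044414631142155894, .ofNat 600020772685064502392907,
  .ofNat 1253754807227774608080896, .ofNat 655159231073705404921875, .ofNat 1379526445489790011898484,
  .ofNat 1379533452359110161988446, .ofNat 1037605886984697481755304, .ofNat 1361549126105752982272875,
  .ofNat 1599110387863558882812500, .ofNat 1662686180483865572016128, .ofNat 2181694185821505680397072,
  .ofNat 2216343020913351966796875, .ofNat 3282510540283631442175104, .ofNat 3537292796538741415074900,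
  .ofNat 3619209050774375426792424, .ofNat 4004308274823270400000000, .ofNat 4239315652979009728125000,
  .ofNat 4926670174323484069683200, .ofNat 5334046162969208352215625, .ofNat 5514132424881463208443904,
  .ofNat 11028264849762926416887808, .ofNat 7118465328761788475375616, .ofNat 7375892500409609408203125,
  .ofNat 15134303153084904851562500, .ofNat 7850934959207940600000000, .ofNat 8394037047155083487634450,
  .ofNat 8874260875527017936065100, .ofNat 9416031858681585751556096, .ofNat 9479495745805305653125000,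
  .ofNat 19184596287301780510343168, .ofNat 9592584386918582979657728, .ofNat 12650882100466187033706250,
  .ofNat 14930164283563048960000000, .ofNat 16109407269221032565630370, .ofNat 22626621365160537099927552,
  .ofNat 24546384719289825598186695, .ofNat 27501917609709102247187500, .ofNat 29734941419909382162874368,
  .ofNat 33684388830359981044531200, .ofNat 33722191327002668157047380, .ofNat 37310715211546624000000000,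
  .ofNat 38471795739256565080575180, .ofNat 41762322738385820195625000, .ofNat 42001454087954515167503490,
  .ofNat 42601474860639579669896397, .ofNat 43527130990147981755651072, .ofNat 50572542024949598403750000,
  .ofNat 51324350389558097414062500, .ofNat 56356433273146675005489152, .ofNat 58437394633227526183321600,
  .ofNat 62038057486792249132974080, .ofNat 63750812845035828079008441, .ofNat 64326163427522624205703125,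
  .ofNat 66550339514356152000000000, .ofNat 69084859008005036431224066, .ofNat 74612213529720383654779356,
  .ofNat 83974774459050335630859375, .ofNat 86206621680977834911875000, .ofNat 88943820620288343261672393,
  .ofNat 103354104243912727763091456, .ofNat 115165062362004433625000000, .ofNat 121170799240938738783416925,
  .ofNat 124058385593021471188320256, .ofNat 124982156072747647257292800, .ofNat 125517264890136048242396811,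
  .ofNat 129572518017902934396764160, .ofNat 130287135266837289237316743, .ofNat 135226984222789977095703125,
  .ofNat 136107644194473772613203125, .ofNat 136574874874360806036041889, .ofNat 136574874874360806036041889,
  .ofNat 138988549876584520148320256, .ofNat 161561864971171113287540625, .ofNat 163216709667196367710937500,
  .ofNat 172248852397651745653437500, .ofNat 173865305251972140447265625, .ofNat 175867626988794162227008203,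
  .ofNat 177966317773633111417870812, .ofNat 200390867219082687273984375, .ofNat 203314261261157852274218750,
  .ofNat 207467089840006711558593750, .ofNat 212490247553365721772656250, .ofNat 258823477531055064045234375,
  .negSucc 1151631987997255518698, .ofNat 433578304273510171338849, .negSucc 2477499140842386875867366,
  .ofNat 10023904607884400276798040, .negSucc 41738891541531042611873834, .ofNat 77423448064565975839095915,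
  .ofNat 198203949654136756687296225, .negSucc 241866891829083015495946142]

/-- the values at 2A -/
def col1 : List ℤ :=
  [.ofNat 1, .ofNat 4371, .ofNat 91884, .ofNat 1139374, .ofNat 8507516, .ofNat 9362495, .ofNat 53981850,
  .ofNat 337044990, .ofNat 1354188159, .ofNat 3215883115, .ofNat 2814161895, .ofNat 3864186921,
  .ofNat 9223504989, .ofNat 9697078070, .ofNat 22509162496, .negSucc 5440531249, .ofNat 72990279960,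
  .ofNat 128459630705, .ofNat 143552415510, .ofNat 336140827500, .ofNat 444043629365, .ofNat 536115345090,
  .ofNat 1864421481144, .ofNat 1612726090525, .negSucc 178286763797, .ofNat 2239938073125,
  .ofNat 3618137095040, .ofNat 3831845698125, .ofNat 7669080680625, .ofNat 3436802874505,
  .ofNat 8003575389525, .ofNat 7170718631440, .ofNat 11487099325000, .ofNat 19432400568750,
  .ofNat 26382222060610, .ofNat 3864059311112, .negSucc 107872780287, .ofNat 36886987145216,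
  .negSucc 3850006950971, .ofNat 53859806085120, .ofNat 19566513266300, .ofNat 29144516700000,
  .ofNat 31132239790080, .ofNat 95287105622940, .ofNat 181614468750, .negSucc 23780562093749,
  .ofNat 114571942149600, .ofNat 113394014581875, .negSucc 46919155711999, .ofNat 176686686375936,
  .ofNat 211356249746355, .ofNat 217702703505000, .ofNat 179768059822080, .ofNat 306115495043904,
  .ofNat 323024585516280, .ofNat 470278042717500, .ofNat 434545584046470, .negSucc 10079930780919,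
  .ofNat 184827826062500, .ofNat 224982225843750, .ofNat 413591881833585, .negSucc 62778068031249,
  .ofNat 969957037049000, .ofNat 987485986147365, .ofNat 776952513552960, .ofNat 992257694010000,
  .ofNat 1329362932918020, .ofNat 0, .negSucc 523172366062499, .negSucc 499897773374999,
  .ofNat 271752733637875, .ofNat 212778737106936, .ofNat 585161123137500, .ofNat 321725078268750,
  .ofNat 1149945920060625, .ofNat 2002923357318750, .ofNat 1987493810249640, .ofNat 1305074480512320,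
  .negSucc 204421406192639, .ofNat 2126603059200000, .negSucc 452375816739209, .ofNat 1967052076247115,
  .ofNat 0, .ofNat 1365102860281875, .negSucc 779113157797259, .negSucc 779291444561057,
  .ofNat 2308415562554024, .ofNat 4188169855744875, .ofNat 5104422882812500, .ofNat 4588173708754944,
  .negSucc 523196633312495, .ofNat 2750493342796875, .ofNat 3374456886043776, .ofNat 4545779486739540,
  .ofNat 7409717053209576, .ofNat 77683916800000, .ofNat 7503504140925000, .ofNat 8106988248719360,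
  .negSucc 405229276200374, .ofNat 2642676197359616, .negSucc 5285352394719231, .negSucc 1793872427483135,
  .ofNat 6131165888203125, .negSucc 6198799852437499, .ofNat 5443097899200000, .ofNat 7113733997294610,
  .negSucc 40955835260339, .ofNat 9211433539600384, .ofNat 9453998491525000, .negSucc 3614924740231167,
  .ofNat 8575886032896000, .ofNat 10034257030762250, .ofNat 11854109736960000, .ofNat 8698184821732770,
  .ofNat 16597016119934976, .ofNat 15924409931949255, .ofNat 8051368635667500, .ofNat 11469314221670400,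
  .ofNat 6479020806635520, .ofNat 8232122887328340, .ofNat 0, .ofNat 11754324719717580,
  .ofNat 18282059140905000, .ofNat 8436234038236290, .ofNat 10403286114483405, .ofNat 12129351681807360,
  .ofNat 7126932153510000, .negSucc 5318034873937499, .negSucc 235755961319423, .ofNat 11456032491438080,
  .ofNat 0, .ofNat 8199319123688121, .ofNat 1347192195463125, .ofNat 21956826816000000,
  .ofNat 7794089847487746, .negSucc 8190850502407715, .ofNat 5151403598859375, .ofNat 16184160707715000,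
  .ofNat 17936063528043465, .ofNat 168430710030336, .negSucc 17824668454999999, .ofNat 7181081417421405,
  .ofNat 9211433539600384, .negSucc 15795123167416319, .negSucc 8188002282979700, .ofNat 11854109736960000,
  .ofNat 26756144286741639, .ofNat 8295452743703125, .ofNat 7027988249683125, .ofNat 8176832509726881,
  .negSucc 210922551590750, .negSucc 21065543276560383, .negSucc 12273909074571374,
  .negSucc 12721880097062499, .negSucc 15266577308482499, .negSucc 25468473312734374,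
  .negSucc 7872254072319284, .negSucc 8022419792377379, .ofNat 8262689332224375, .negSucc 6257595111381249,
  .negSucc 4754485177406249, .ofNat 1174047622256250, .ofNat 799715572914375, .negSucc 15608326310378,
  .ofNat 893827057498209, .negSucc 3111212918821094, .negSucc 991324131808679, .negSucc 7831721196480554,
  .ofNat 17478009855474795, .negSucc 6388236961896734, .ofNat 4216672206945]

/-- the values at 2B -/
def col2 : List ℤ :=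
  [.ofNat 1, .ofNat 275, .negSucc 2323, .ofNat 12974, .ofNat 123004, .negSucc 58304, .ofNat 98970,
  .negSucc 690689, .ofNat 2864511, .ofNat 1219435, .ofNat 10249191, .negSucc 7196630, .negSucc 15756194,
  .ofNat 26155830, .ofNat 4100096, .ofNat 78828750, .negSucc 29873895, .ofNat 47061105, .ofNat 71276310,
  .ofNat 339995500, .ofNat 45093685, .negSucc 288233789, .ofNat 319494840, .negSucc 385717474,
  .negSucc 1510539029, .ofNat 284185125, .ofNat 753384320, .negSucc 959677874, .negSucc 804759374,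
  .ofNat 1656343689, .ofNat 2741767509, .ofNat 6518654480, .ofNat 5193149000, .negSucc 4691783249,
  .negSucc 786277309, .ofNat 1063662600, .ofNat 15028715520, .negSucc 2273050623, .ofNat 19977612228,
  .ofNat 2614886400, .negSucc 11945345411, .ofNat 11163740000, .negSucc 17203462143, .negSucc 5268307043,
  .negSucc 3622011249, .ofNat 21677906250, .ofNat 14461615584, .ofNat 425845875, .negSucc 15931801599,
  .negSucc 8608444415, .ofNat 19125865395, .ofNat 11496849000, .ofNat 17009541120, .negSucc 54694960319,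
  .ofNat 72828470520, .negSucc 37014946499, .ofNat 52539003270, .ofNat 41525203720, .ofNat 99539342500,
  .negSucc 108713036249, .ofNat 142368382065, .negSucc 201817151249, .negSucc 7809973079, .ofNat 41740356645,
  .negSucc 85444631999, .ofNat 133697850000, .negSucc 20008368379, .negSucc 330712481791,
  .ofNat 159550737500, .negSucc 183198014999, .ofNat 332069113075, .negSucc 17401520135,
  .negSucc 189333182499, .negSucc 83502851249, .negSucc 60654531374, .negSucc 112383353249,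
  .ofNat 21140455336, .ofNat 35561897280, .ofNat 278167751680, .ofNat 76775424000, .ofNat 365264299638,
  .ofNat 328187590731, .ofNat 0, .ofNat 93555193875, .negSucc 413887694219, .negSucc 415398233249,
  .ofNat 592924211880, .ofNat 552058501995, .negSucc 409762307499, .negSucc 282732527615,
  .ofNat 120771400464, .ofNat 774144076875, .negSucc 201641581439, .ofNat 225818500180, .ofNat 168829098984,
  .ofNat 617250816000, .ofNat 389541501000, .negSucc 527149342719, .ofNat 846109348425, .ofNat 0, .ofNat 0,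
  .negSucc 72424095743, .ofNat 470535883125, .ofNat 1022724202500, .ofNat 924823744000,
  .negSucc 165371747309, .ofNat 1341062582860, .ofNat 0, .negSucc 356505722999, .ofNat 222758961152,
  .ofNat 118893838336, .negSucc 1019197128949, .ofNat 0, .ofNat 1131976353186, .negSucc 793450577919,
  .ofNat 912248087751, .ofNat 1408838931500, .ofNat 882884214784, .negSucc 2108058501119,
  .ofNat 163655127636, .ofNat 2684354560000, .negSucc 2421327344435, .ofNat 1363696425000,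
  .ofNat 1759984379010, .ofNat 2088171969741, .ofNat 1532481606656, .ofNat 1173798054000,
  .ofNat 2756716462500, .ofNat 2066448384000, .negSucc 1547242045439, .negSucc 1284195221503,
  .ofNat 1321700072121, .ofNat 1067684743125, .negSucc 790766079999, .ofNat 2167809420546,
  .ofNat 1755246352860, .ofNat 726455819375, .negSucc 1110415228999, .ofNat 1948844717001,
  .negSucc 782566686719, .ofNat 2091409320000, .ofNat 380574823005, .ofNat 0, .negSucc 563627151359,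
  .ofNat 2564289531531, .ofNat 0, .negSucc 809445325688, .negSucc 4497154536874, .ofNat 197582419125,
  .ofNat 453678690465, .negSucc 21604437854, .ofNat 0, .ofNat 1405532430225, .negSucc 1628116262499,
  .ofNat 18932413500, .negSucc 2298055134374, .ofNat 280190603979, .ofNat 972679666140, .ofNat 1319623680375,
  .negSucc 1493402069249, .negSucc 1224482366249, .negSucc 1732832655749, .negSucc 948291917624,
  .ofNat 660223509, .ofNat 382509246561, .ofNat 380492783385, .ofNat 477161257560, .negSucc 1267167414314,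
  .negSucc 1769304015764, .ofNat 1836028024545, .ofNat 5047513185]

/-- the values at 3A -/
def col3 : List ℤ :=
  [.ofNat 1, .ofNat 782, .ofNat 7889, .ofNat 55912, .ofNat 249458, .ofNat 297482, .ofNat 1055310,
  .ofNat 4751823, .ofNat 12616074, .ofNat 24688454, .ofNat 17144568, .ofNat 26057022, .ofNat 47292301,
  .ofNat 40851749, .ofNat 110509112, .ofNat 3207050, .ofNat 255751145, .ofNat 367316348, .ofNat 371703759,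
  .ofNat 599239034, .ofNat 948362611, .ofNat 1087588073, .ofNat 2635262973, .ofNat 1933299500, .ofNat 0,
  .ofNat 2906660052, .ofNat 3560377184, .ofNat 4307266557, .ofNat 6880196379, .ofNat 2715826568,
  .ofNat 6723221931, .ofNat 3475562246, .ofNat 7502151085, .ofNat 13174268625, .ofNat 16869395816,
  .negSucc 882195313, .negSucc 562761471, .ofNat 19084103168, .ofNat 0, .ofNat 25227138048,
  .negSucc 794523729, .ofNat 10339920710, .ofNat 8238100992, .ofNat 40568500665, .negSucc 1187493449,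
  .ofNat 2507913100, .ofNat 35966295378, .ofNat 41601929236, .ofNat 5359868800, .ofNat 45887300184,
  .ofNat 63567519876, .ofNat 60454431443, .ofNat 48456725472, .ofNat 66169196730, .ofNat 54234085491,
  .ofNat 111122813088, .ofNat 78338123487, .ofNat 1713901189, .negSucc 1885959174, .negSucc 16501243049,
  .ofNat 19111907178, .ofNat 81073850, .ofNat 156607536085, .ofNat 156321775827, .ofNat 118588933386,
  .ofNat 117416050686, .ofNat 190436217972, .negSucc 7463436287, .ofNat 28180348350, .ofNat 25300417450,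
  .negSucc 11862294849, .negSucc 18468567116, .negSucc 24580230639, .negSucc 1950194609, .ofNat 133746358977,
  .ofNat 223230609525, .ofNat 148753177419, .ofNat 131809819974, .ofNat 35988211896, .ofNat 209858031360,
  .ofNat 0, .ofNat 178514751987, .negSucc 13795065855, .ofNat 121406755041, .ofNat 0, .ofNat 0,
  .ofNat 58568622343, .ofNat 289603899585, .ofNat 372791032250, .ofNat 335535705344, .ofNat 0,
  .negSucc 3482490374, .ofNat 255324254328, .ofNat 240777360516, .ofNat 309045839697, .negSucc 38207644159,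
  .ofNat 307909104165, .ofNat 395355008048, .ofNat 0, .ofNat 65393917952, .ofNat 130787835904,
  .ofNat 113944431744, .ofNat 77007684600, .ofNat 179312579600, .ofNat 52341277560, .ofNat 156321775827,
  .negSucc 556166610, .ofNat 358364217344, .ofNat 319423783525, .ofNat 12943513856, .ofNat 6190376192,
  .ofNat 151310033875, .ofNat 423758135296, .ofNat 156321775827, .ofNat 224256581472, .ofNat 329144794704,
  .negSucc 88953942076, .ofNat 289744287744, .ofNat 256457380608, .negSucc 326469800656,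
  .negSucc 37500108799, .ofNat 90098990982, .ofNat 157848705693, .ofNat 178514751987, .negSucc 178514751986,
  .negSucc 186984149351, .ofNat 57826834416, .ofNat 29444114700, .negSucc 220039735551, .ofNat 250549446784,
  .ofNat 31396511744, .ofNat 0, .ofNat 118588933386, .ofNat 119147944200, .ofNat 0, .ofNat 0,
  .negSucc 348658091924, .ofNat 31224782589, .negSucc 274910709212, .ofNat 0, .ofNat 370568024750,
  .negSucc 78338123486, .negSucc 142502789119, .ofNat 323920599912, .ofNat 0, .negSucc 77108871167, .ofNat 0,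
  .negSucc 318660767424, .negSucc 156321775826, .negSucc 45049495490, .negSucc 45049495490,
  .ofNat 281255346176, .ofNat 0, .ofNat 318444612850, .ofNat 6832904078, .ofNat 477019824050,
  .ofNat 210555861318, .ofNat 0, .negSucc 54234085490, .negSucc 324851861424, .negSucc 115651847024,
  .negSucc 241832956049, .negSucc 78338123486, .ofNat 547760961, .ofNat 50359719276, .ofNat 42921119835,
  .ofNat 39923226972, .negSucc 159429480902, .negSucc 231666281252, .ofNat 100841899752, .ofNat 163089223308]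

/-- the values at 3B -/
def col4 : List ℤ :=
  [.ofNat 1, .ofNat 53, .negSucc 129, .negSucc 220, .ofNat 1598, .ofNat 1508, .negSucc 3926, .negSucc 4172,
  .ofNat 18954, .negSucc 25374, .negSucc 8072, .ofNat 11310, .ofNat 84448, .ofNat 97733, .negSucc 1455,
  .ofNat 400400, .ofNat 33254, .negSucc 227226, .negSucc 95717, .ofNat 251810, .ofNat 36400, .negSucc 68262,
  .ofNat 691236, .negSucc 57342, .ofNat 0, .ofNat 189540, .negSucc 1117323, .negSucc 917864, .ofNat 1056405,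
  .ofNat 2163434, .negSucc 821105, .ofNat 3824405, .negSucc 1595359, .ofNat 1409940, .ofNat 1510964,
  .negSucc 12358345, .ofNat 14653184, .negSucc 3939519, .negSucc 7440173, .negSucc 460991, .ofNat 21313292,
  .ofNat 6141590, .ofNat 7656000, .ofNat 2360358, .negSucc 9502349, .ofNat 21221200, .negSucc 5174441,
  .negSucc 5927284, .ofNat 5742880, .negSucc 8387807, .ofNat 464373, .ofNat 8957585, .negSucc 5514911,
  .ofNat 24570, .ofNat 0, .ofNat 1870155, .ofNat 13817466, .negSucc 6591298, .negSucc 9914124, .ofNat 0,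
  .ofNat 9260433, .ofNat 39375050, .negSucc 798706, .ofNat 0, .ofNat 0, .negSucc 10328174, .ofNat 19273254,
  .ofNat 41834496, .negSucc 54550649, .negSucc 52051999, .ofNat 24148565, .ofNat 23495472, .ofNat 51746240,
  .ofNat 32014710, .negSucc 29918159, .negSucc 7244159, .negSucc 43561517, .negSucc 4456451, .ofNat 21594300,
  .negSucc 29583359, .ofNat 89282088, .ofNat 0, .negSucc 131203071, .ofNat 44169840, .ofNat 0, .ofNat 0,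
  .ofNat 43458415, .ofNat 11050182, .ofNat 45459050, .negSucc 34635327, .ofNat 75996063, .ofNat 98394075,
  .ofNat 64993266, .negSucc 35439494, .ofNat 103223484, .ofNat 6885760, .negSucc 8500139, .ofNat 34538504,
  .ofNat 0, .ofNat 47151104, .ofNat 94302208, .ofNat 136730880, .negSucc 18017999, .negSucc 88488399,
  .ofNat 29564340, .ofNat 0, .ofNat 204211007, .negSucc 97936383, .negSucc 127760464, .negSucc 506851071,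
  .negSucc 246098943, .ofNat 223293070, .negSucc 50785279, .ofNat 0, .negSucc 59867807, .ofNat 0,
  .ofNat 31401370, .ofNat 82377984, .ofNat 199907136, .negSucc 350991640, .negSucc 63334399,
  .negSucc 40783742, .negSucc 58378319, .ofNat 0, .ofNat 0, .ofNat 39555516, .ofNat 182669175,
  .ofNat 218468250, .ofNat 388309376, .negSucc 150410623, .ofNat 60849152, .ofNat 0, .ofNat 0,
  .negSucc 7105799, .ofNat 0, .ofNat 0, .negSucc 165583274, .negSucc 116404364, .ofNat 0, .ofNat 0,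
  .ofNat 101451350, .ofNat 151992126, .ofNat 113032192, .negSucc 149130071, .negSucc 241805654,
  .ofNat 160183296, .ofNat 0, .ofNat 37948625, .ofNat 0, .ofNat 23675652, .ofNat 23675652, .ofNat 62246912,
  .negSucc 116917019, .negSucc 301014349, .negSucc 93683589, .ofNat 301901600, .ofNat 0, .ofNat 0, .ofNat 0,
  .ofNat 206916710, .negSucc 86228999, .ofNat 84990465, .negSucc 138174659, .ofNat 20359350, .ofNat 50518026,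
  .negSucc 115914941, .negSucc 201683897, .ofNat 18270252, .ofNat 175382064, .ofNat 8138988,
  .ofNat 105694578]

/-- the values at 3C -/
def col5 : List ℤ :=
  [.ofNat 1, .negSucc 0, .ofNat 248, .negSucc 247, .ofNat 248, .negSucc 246, .ofNat 3876, .negSucc 3875,
  .ofNat 0, .ofNat 248, .ofNat 27000, .ofNat 34503, .ofNat 31123, .ofNat 61256, .negSucc 61503,
  .negSucc 232749, .negSucc 30627, .ofNat 30380, .ofNat 120498, .negSucc 147249, .negSucc 147496,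
  .ofNat 61256, .ofNat 116622, .ofNat 779495, .ofNat 1535274, .ofNat 0, .negSucc 30627, .ofNat 27000,
  .negSucc 813749, .ofNat 809627, .negSucc 895868, .negSucc 30627, .ofNat 988000, .negSucc 26999,
  .negSucc 30627, .negSucc 3120025, .ofNat 3292016, .ofNat 926744, .ofNat 0, .ofNat 3411240,
  .negSucc 8254245, .ofNat 5084000, .ofNat 6757008, .negSucc 2597489, .negSucc 11485499, .ofNat 232750,
  .ofNat 0, .negSucc 957124, .ofNat 4900480, .ofNat 4184256, .ofNat 0, .negSucc 4936749, .ofNat 6696000,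
  .ofNat 9149868, .ofNat 4881384, .negSucc 6695999, .ofNat 0, .ofNat 17404114, .ofNat 14058500, .ofNat 0,
  .ofNat 9149868, .negSucc 36370749, .negSucc 7503859, .negSucc 4881383, .ofNat 4881384, .ofNat 6696000,
  .ofNat 803985, .negSucc 44330495, .negSucc 21645749, .negSucc 57721999, .ofNat 13131755, .ofNat 5687136,
  .ofNat 36076250, .ofNat 23122125, .ofNat 0, .ofNat 5080125, .negSucc 14199611, .ofNat 24738000,
  .negSucc 2572751, .ofNat 6669000, .ofNat 0, .ofNat 0, .ofNat 52822016, .negSucc 23122124, .ofNat 1535274,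
  .negSucc 1535273, .negSucc 750385, .ofNat 0, .ofNat 30875, .negSucc 28860999, .ofNat 0, .negSucc 6668999,
  .ofNat 0, .ofNat 22165248, .ofNat 0, .ofNat 53599000, .ofNat 0, .ofNat 22253504, .ofNat 72925515,
  .ofNat 30507008, .ofNat 61014016, .ofNat 48514752, .ofNat 57605625, .ofNat 57722000, .ofNat 45942000,
  .ofNat 81153009, .ofNat 37835252, .negSucc 26411007, .ofNat 28861000, .ofNat 102052496, .ofNat 52672256,
  .ofNat 55092115, .ofNat 4096000, .ofNat 81153009, .negSucc 74864255, .negSucc 81153008, .negSucc 29670874,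
  .negSucc 33045503, .ofNat 6669000, .negSucc 4127122, .ofNat 81472000, .negSucc 30390632, .ofNat 0,
  .ofNat 0, .ofNat 0, .ofNat 2572752, .ofNat 0, .ofNat 34456500, .negSucc 1646007, .ofNat 74925760,
  .ofNat 50964992, .ofNat 72925515, .ofNat 76271625, .negSucc 70679999, .negSucc 72925514, .ofNat 190373976,
  .negSucc 11485499, .ofNat 22044750, .ofNat 0, .ofNat 190373976, .negSucc 63317499, .ofNat 0,
  .ofNat 26411008, .ofNat 0, .ofNat 0, .ofNat 56918016, .ofNat 0, .ofNat 46899125, .ofNat 76271625,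
  .ofNat 60781266, .ofNat 60781266, .ofNat 30507008, .ofNat 0, .negSucc 46899124, .negSucc 4936749,
  .ofNat 28744625, .ofNat 0, .negSucc 190373975, .negSucc 76271624, .negSucc 23807874, .ofNat 17228250,
  .ofNat 0, .ofNat 0, .negSucc 2480867, .ofNat 5803758, .negSucc 12149891, .ofNat 57722247, .ofNat 34573122,
  .negSucc 61560512, .negSucc 77892893, .ofNat 57034638]

/-- the values at 4A -/
def col6 : List ℤ :=
  [.ofNat 1, .ofNat 275, .ofNat 1772, .ofNat 8878, .ofNat 28796, .ofNat 35903, .ofNat 94874, .ofNat 345598,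
  .ofNat 701823, .ofNat 1223531, .ofNat 734183, .ofNat 1187881, .ofNat 1762397, .ofNat 1379126,
  .ofNat 4100096, .negSucc 19249, .ofNat 7620888, .ofNat 9660529, .ofNat 9004822, .ofNat 11393900,
  .ofNat 20222773, .ofNat 22648514, .ofNat 42900152, .ofNat 28797725, .ofNat 368874, .ofNat 43954725,
  .ofNat 46447488, .ofNat 60123725, .ofNat 82024625, .ofNat 25226377, .ofNat 76528981, .ofNat 26404368,
  .ofNat 72944200, .ofNat 125829550, .ofNat 160795714, .ofNat 4576264, .ofNat 3670016, .ofNat 150732800,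
  .ofNat 52164, .ofNat 191102976, .ofNat 982652, .ofNat 66037600, .ofNat 40370176, .ofNat 285160348,
  .ofNat 4996750, .negSucc 5293749, .ofNat 209550816, .ofNat 264463475, .negSucc 14417919, .ofNat 212439040,
  .ofNat 329673651, .ofNat 304938600, .ofNat 215547904, .ofNat 290480960, .ofNat 198059256, .ofNat 505744700,
  .ofNat 295674246, .negSucc 11291895, .negSucc 3185499, .ofNat 26547750, .ofNat 19528817, .negSucc 63249,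
  .ofNat 515843240, .ofNat 480361509, .ofNat 295576128, .ofNat 275770000, .ofNat 548476676, .ofNat 0,
  .negSucc 37614499, .negSucc 34110999, .ofNat 13233395, .ofNat 51642360, .negSucc 3364899, .ofNat 64355150,
  .ofNat 294563025, .ofNat 581459550, .ofNat 263397288, .ofNat 244170048, .negSucc 41284607,
  .ofNat 504627200, .ofNat 6129270, .ofNat 320575563, .ofNat 0, .ofNat 237459475, .ofNat 101071476,
  .ofNat 101440350, .ofNat 38976168, .ofNat 375040875, .ofNat 548860500, .ofNat 464257024, .ofNat 66646800,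
  .negSucc 21939124, .ofNat 124822656, .ofNat 245640276, .ofNat 264231912, .ofNat 150732800,
  .ofNat 354121800, .ofNat 312958976, .ofNat 922185, .ofNat 0, .ofNat 0, .negSucc 265289727,
  .negSucc 68404874, .negSucc 170901499, .negSucc 72716799, .ofNat 156607506, .negSucc 67149235, .ofNat 0,
  .ofNat 148152200, .ofNat 84410368, .negSucc 44040191, .negSucc 101146869, .ofNat 0, .negSucc 90471005,
  .negSucc 49741823, .ofNat 79410375, .ofNat 159712300, .ofNat 0, .negSucc 464257023, .ofNat 577593940,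
  .ofNat 0, .negSucc 335774515, .negSucc 333014999, .negSucc 321866621, .negSucc 1291058, .ofNat 52073472,
  .ofNat 46450800, .ofNat 60846500, .ofNat 504627200, .negSucc 265289727, .ofNat 0, .negSucc 344343878,
  .negSucc 260728874, .negSucc 172543999, .negSucc 343421693, .ofNat 326822364, .ofNat 406539375,
  .ofNat 19177400, .ofNat 100983753, .negSucc 191102975, .negSucc 338007999, .ofNat 110916189, .ofNat 0,
  .negSucc 115593215, .ofNat 4107915, .ofNat 0, .negSucc 354143096, .ofNat 335383125, .negSucc 48249674,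
  .negSucc 52756318, .negSucc 52756318, .ofNat 0, .ofNat 205602705, .negSucc 331558499, .ofNat 539427900,
  .negSucc 345566374, .negSucc 586448180, .ofNat 135719388, .negSucc 322252424, .ofNat 727389950,
  .ofNat 280513750, .ofNat 168253050, .negSucc 95463224, .negSucc 1018346, .negSucc 38635422,
  .negSucc 178286822, .negSucc 56436135, .ofNat 221099989, .ofNat 5409899, .ofNat 79062753, .ofNat 3899489]

/-- the values at 4B -/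
def col7 : List ℤ :=
  [.ofNat 1, .ofNat 51, .negSucc 51, .ofNat 782, .ofNat 2652, .negSucc 832, .ofNat 1274, .negSucc 3873,
  .ofNat 20383, .ofNat 19499, .ofNat 22151, .negSucc 39830, .negSucc 46018, .ofNat 87126, .ofNat 8192,
  .negSucc 41649, .negSucc 44199, .ofNat 82705, .ofNat 98294, .ofNat 512396, .negSucc 122058,
  .negSucc 153373, .ofNat 249016, .negSucc 204866, .ofNat 322218, .ofNat 345253, .ofNat 903552,
  .negSucc 883506, .negSucc 832558, .ofNat 437801, .ofNat 1062517, .ofNat 2365584, .ofNat 1281800,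
  .negSucc 1321969, .ofNat 44642, .negSucc 952951, .ofNat 0, .ofNat 0, .negSucc 1169531, .ofNat 0,
  .negSucc 3938115, .ofNat 106080, .ofNat 0, .negSucc 1527875, .negSucc 502449, .negSucc 2124149,
  .ofNat 3246048, .ofNat 819859, .ofNat 0, .ofNat 2236416, .ofNat 4596851, .ofNat 2189992, .negSucc 2228223,
  .negSucc 7623615, .ofNat 7127352, .negSucc 7210787, .ofNat 9765990, .ofNat 1126216, .ofNat 1620100,
  .negSucc 5333849, .ofNat 11662833, .ofNat 3834350, .negSucc 7338967, .ofNat 6087717, .negSucc 3706559,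
  .ofNat 9457424, .negSucc 150331, .ofNat 0, .negSucc 2748899, .ofNat 2165800, .negSucc 2436524,
  .negSucc 5284551, .ofNat 15377180, .ofNat 7794670, .negSucc 9895886, .negSucc 2512769, .ofNat 13947752,
  .ofNat 7730240, .ofNat 5870592, .ofNat 0, .negSucc 15788681, .ofNat 13586859, .ofNat 0, .ofNat 11403379,
  .ofNat 16110900, .ofNat 16433118, .ofNat 15973608, .ofNat 10347883, .negSucc 30304299, .ofNat 0,
  .ofNat 10372752, .ofNat 29873675, .ofNat 254592, .ofNat 6227508, .ofNat 11122216, .ofNat 0, .ofNat 9768200,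
  .negSucc 10436607, .negSucc 7125974, .ofNat 33554432, .ofNat 0, .ofNat 0, .ofNat 29259125,
  .negSucc 32570299, .ofNat 8486400, .negSucc 16058573, .negSucc 1082899, .ofNat 16777216, .negSucc 8629879,
  .ofNat 0, .ofNat 0, .negSucc 31812949, .negSucc 16777215, .ofNat 30235842, .ofNat 2228224, .ofNat 11510343,
  .ofNat 13428012, .ofNat 0, .ofNat 0, .negSucc 19015723, .ofNat 0, .ofNat 5501132, .negSucc 5235607,
  .ofNat 12478050, .ofNat 26064909, .negSucc 16307199, .ofNat 4069104, .negSucc 27959099, .ofNat 0, .ofNat 0,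
  .ofNat 0, .ofNat 24005241, .ofNat 1703349, .ofNat 10444800, .ofNat 16879266, .negSucc 8377667,
  .ofNat 3994575, .negSucc 37858183, .ofNat 12174057, .ofNat 0, .negSucc 27268799, .ofNat 30027933,
  .ofNat 16777216, .ofNat 12673024, .negSucc 21928724, .negSucc 16777215, .negSucc 607256, .ofNat 13265525,
  .ofNat 2270997, .negSucc 51578526, .ofNat 7677761, .ofNat 0, .ofNat 15181425, .ofNat 11911900,
  .ofNat 24188892, .ofNat 17347225, .negSucc 14663348, .negSucc 8377667, .ofNat 6641271, .ofNat 15485470,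
  .negSucc 16807049, .ofNat 10690330, .ofNat 5336487, .ofNat 2618901, .ofNat 23713793, .ofNat 19447609,
  .ofNat 20507576, .ofNat 4740501, .negSucc 30885140, .negSucc 27855230, .ofNat 1536001]

/-- the values at 4C -/
def col8 : List ℤ :=
  [.ofNat 1, .ofNat 19, .negSucc 19, .negSucc 81, .ofNat 380, .ofNat 63, .negSucc 101, .negSucc 257,
  .negSucc 896, .negSucc 660, .negSucc 280, .ofNat 1577, .negSucc 2722, .ofNat 4662, .ofNat 4096,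
  .ofNat 16590, .negSucc 2279, .negSucc 3214, .negSucc 4073, .ofNat 10860, .ofNat 4917, .negSucc 2621,
  .negSucc 5447, .ofNat 7709, .ofNat 78570, .negSucc 20954, .negSucc 13439, .ofNat 20045, .ofNat 6065,
  .negSucc 63606, .negSucc 7082, .ofNat 98832, .ofNat 58440, .ofNat 11950, .ofNat 19266, .negSucc 18423,
  .ofNat 0, .ofNat 0, .ofNat 19908, .ofNat 0, .negSucc 107395, .negSucc 20639, .ofNat 0, .negSucc 77155,
  .ofNat 309390, .ofNat 315210, .negSucc 45599, .negSucc 21644, .ofNat 262144, .ofNat 69632, .ofNat 9651,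
  .ofNat 19560, .ofNat 65536, .negSucc 66751, .ofNat 58104, .ofNat 81980, .ofNat 64134, .ofNat 438536,
  .ofNat 26020, .ofNat 143910, .ofNat 311409, .negSucc 216849, .negSucc 91991, .ofNat 5157, .ofNat 19008,
  .negSucc 346479, .negSucc 204539, .ofNat 0, .negSucc 717219, .negSucc 331799, .ofNat 236019,
  .negSucc 322055, .negSucc 909859, .negSucc 475569, .ofNat 338385, .ofNat 189790, .negSucc 15959,
  .negSucc 39615, .negSucc 308223, .ofNat 0, .negSucc 450953, .negSucc 203444, .ofNat 0, .negSucc 209644,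
  .ofNat 1414260, .ofNat 1492830, .ofNat 129192, .ofNat 324459, .ofNat 216660, .ofNat 0, .ofNat 706320,
  .ofNat 468555, .negSucc 576383, .ofNat 736596, .ofNat 367080, .ofNat 0, .ofNat 250440, .negSucc 630783,
  .ofNat 445257, .ofNat 0, .ofNat 0, .negSucc 1048575, .negSucc 953994, .negSucc 1360379, .ofNat 192000,
  .negSucc 122093, .ofNat 1758540, .ofNat 0, .negSucc 798839, .ofNat 0, .ofNat 0, .ofNat 305674, .ofNat 0,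
  .negSucc 27485, .negSucc 983039, .negSucc 77624, .ofNat 111660, .ofNat 0, .ofNat 0, .ofNat 147028,
  .ofNat 0, .ofNat 562380, .ofNat 304680, .ofNat 750978, .ofNat 547533, .ofNat 152576, .ofNat 140400,
  .ofNat 1284260, .ofNat 0, .ofNat 1048576, .ofNat 0, .negSucc 1246022, .negSucc 42794, .ofNat 634880,
  .negSucc 800765, .negSucc 785699, .ofNat 2756975, .ofNat 1178040, .negSucc 173366, .ofNat 0,
  .ofNat 1867840, .ofNat 430173, .ofNat 0, .negSucc 479231, .ofNat 414603, .ofNat 0, .negSucc 697976,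
  .ofNat 467285, .ofNat 238005, .negSucc 118110, .negSucc 1496158, .ofNat 0, .negSucc 1367918,
  .ofNat 1413020, .negSucc 968899, .ofNat 522585, .ofNat 214731, .negSucc 785699, .ofNat 123255,
  .ofNat 742910, .ofNat 182230, .negSucc 257669, .negSucc 388664, .ofNat 83477, .ofNat 867169, .ofNat 572953,
  .ofNat 911192, .ofNat 2517, .negSucc 851860, .negSucc 1185310, .ofNat 50017]

/-- the values at 4D -/
def col9 : List ℤ :=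
  [.ofNat 1, .negSucc 12, .ofNat 12, .ofNat 78, .ofNat 156, .negSucc 64, .negSucc 453, .ofNat 286,
  .ofNat 351, .negSucc 1364, .negSucc 1208, .ofNat 1001, .ofNat 637, .negSucc 1001, .ofNat 0, .ofNat 3150,
  .ofNat 728, .ofNat 6097, .ofNat 1078, .ofNat 4940, .negSucc 7370, .negSucc 4445, .negSucc 8007,
  .ofNat 7293, .ofNat 37674, .ofNat 4005, .ofNat 11648, .ofNat 9165, .negSucc 11374, .negSucc 22294,
  .ofNat 15925, .ofNat 45968, .negSucc 7799, .ofNat 30030, .negSucc 46045, .negSucc 44407, .ofNat 0,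
  .ofNat 0, .negSucc 37883, .ofNat 0, .ofNat 127036, .ofNat 36960, .ofNat 0, .ofNat 28028, .negSucc 128049,
  .negSucc 40949, .negSucc 68639, .negSucc 7084, .ofNat 0, .ofNat 0, .negSucc 16652, .ofNat 69160, .ofNat 0,
  .ofNat 64064, .ofNat 85176, .negSucc 20579, .negSucc 80729, .ofNat 146120, .ofNat 162500, .ofNat 368550,
  .negSucc 101646, .negSucc 325649, .negSucc 727, .negSucc 151514, .negSucc 52415, .ofNat 34320,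
  .ofNat 164164, .ofNat 0, .ofNat 454300, .ofNat 37800, .ofNat 141715, .ofNat 411320, .negSucc 567139,
  .negSucc 246609, .negSucc 13454, .negSucc 56769, .negSucc 88087, .ofNat 157248, .ofNat 279552, .ofNat 0,
  .ofNat 565110, .negSucc 3860, .ofNat 0, .negSucc 50764, .negSucc 527435, .negSucc 489761, .negSucc 146327,
  .negSucc 168596, .ofNat 63700, .ofNat 0, .ofNat 139152, .ofNat 129675, .negSucc 104831, .negSucc 195467,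
  .ofNat 220584, .ofNat 0, .ofNat 491400, .ofNat 0, .ofNat 238185, .ofNat 0, .ofNat 0, .ofNat 0,
  .ofNat 407925, .ofNat 245700, .ofNat 499200, .negSucc 442637, .ofNat 41132, .ofNat 0, .negSucc 207479,
  .ofNat 0, .ofNat 0, .negSucc 550549, .ofNat 0, .ofNat 177282, .ofNat 0, .negSucc 81080, .negSucc 63699,
  .ofNat 0, .ofNat 0, .negSucc 122667, .ofNat 0, .ofNat 562380, .ofNat 98280, .ofNat 55458, .ofNat 51597,
  .negSucc 279551, .negSucc 34319, .ofNat 391300, .ofNat 0, .ofNat 0, .ofNat 0, .ofNat 118521, .ofNat 45045,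
  .ofNat 0, .ofNat 356706, .ofNat 226044, .ofNat 520975, .negSucc 280839, .negSucc 272726, .ofNat 0,
  .negSucc 145599, .ofNat 120861, .ofNat 0, .ofNat 0, .negSucc 36308, .ofNat 0, .negSucc 208088,
  .ofNat 847925, .negSucc 348074, .ofNat 126945, .ofNat 834561, .ofNat 0, .negSucc 394574, .ofNat 555100,
  .negSucc 405859, .negSucc 102374, .negSucc 307124, .ofNat 226044, .negSucc 487304, .negSucc 93729,
  .ofNat 311350, .negSucc 274469, .negSucc 796184, .negSucc 83434, .negSucc 277822, .ofNat 205049,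
  .negSucc 210183, .negSucc 314858, .ofNat 145899, .ofNat 655681, .ofNat 15041]

/-- the values at 5A -/
def col10 : List ℤ :=
  [.ofNat 1, .ofNat 133, .ofNat 626, .ofNat 2451, .ofNat 6326, .ofNat 8152, .ofNat 17423, .ofNat 54473,
  .ofNat 91124, .ofNat 145275, .ofNat 78793, .ofNat 132374, .ofNat 170258, .ofNat 123025, .ofNat 392976,
  .ofNat 0, .ofNat 620368, .ofNat 712425, .ofNat 627475, .ofNat 653125, .ofNat 1269827, .ofNat 1397925,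
  .ofNat 2180231, .ofNat 1358500, .negSucc 16037, .ofNat 2131250, .ofNat 1954150, .ofNat 2678125,
  .ofNat 3200000, .ofNat 842745, .ofNat 2943480, .ofNat 702525, .ofNat 2375000, .ofNat 4156250,
  .ofNat 5251600, .negSucc 122737, .negSucc 61711, .ofNat 4235176, .ofNat 79002, .ofNat 5042200,
  .negSucc 80255, .ofNat 1312500, .ofNat 852720, .ofNat 7111643, .ofNat 0, .ofNat 0, .ofNat 4332570,
  .ofNat 5878125, .ofNat 0, .ofNat 3691776, .ofNat 6345373, .ofNat 5462500, .ofNat 3298800, .ofNat 4419856,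
  .ofNat 2490102, .ofNat 8009375, .ofNat 3469950, .ofNat 475475, .ofNat 0, .ofNat 0, .negSucc 308559,
  .ofNat 0, .ofNat 5303375, .ofNat 5410800, .ofNat 2920698, .ofNat 2784375, .ofNat 4921950, .ofNat 749056,
  .ofNat 0, .ofNat 0, .ofNat 0, .negSucc 1044581, .ofNat 1312500, .negSucc 1312499, .ofNat 1068750,
  .ofNat 4156250, .ofNat 307230, .ofNat 880650, .negSucc 125399, .ofNat 2375000, .ofNat 1199394,
  .ofNat 558657, .ofNat 720896, .negSucc 653124, .negSucc 2117015, .negSucc 2133053, .negSucc 1890195,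
  .ofNat 1227875, .ofNat 0, .ofNat 401128, .negSucc 2093552, .ofNat 0, .negSucc 1192895, .negSucc 1622599,
  .negSucc 2203200, .negSucc 2374999, .negSucc 2374999, .negSucc 1306799, .ofNat 0, .negSucc 1284095,
  .negSucc 2568191, .ofNat 1331616, .ofNat 0, .ofNat 0, .ofNat 2375000, .negSucc 2808674, .ofNat 1688225,
  .negSucc 1915903, .negSucc 4156249, .negSucc 678831, .negSucc 370271, .ofNat 0, .negSucc 3199999,
  .negSucc 2185379, .negSucc 2230447, .negSucc 4994054, .negSucc 5224999, .negSucc 4197631, .ofNat 2466200,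
  .negSucc 7117494, .ofNat 0, .ofNat 1075305, .ofNat 415625, .ofNat 1015740, .ofNat 1574397,
  .negSucc 1335927, .negSucc 4809374, .ofNat 0, .negSucc 4103847, .negSucc 3138399, .negSucc 3793919,
  .ofNat 4723191, .ofNat 2784375, .ofNat 0, .ofNat 4723191, .negSucc 5019893, .ofNat 0, .negSucc 5878124,
  .ofNat 711018, .ofNat 3108456, .ofNat 0, .negSucc 4971824, .ofNat 992256, .negSucc 6437199, .ofNat 4653936,
  .negSucc 291839, .ofNat 2582118, .ofNat 0, .ofNat 2025000, .ofNat 1101639, .ofNat 1101639,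
  .negSucc 2207743, .ofNat 0, .ofNat 0, .negSucc 8662499, .ofNat 0, .ofNat 7313328, .negSucc 1911437,
  .ofNat 4809375, .negSucc 4156249, .ofNat 0, .ofNat 4156250, .ofNat 3853125, .ofNat 211926, .ofNat 529474,
  .ofNat 5279758, .negSucc 39709, .negSucc 39709, .ofNat 1318790, .negSucc 4514399, .negSucc 3103517]

/-- the values at 5B -/
def col11 : List ℤ :=
  [.ofNat 1, .ofNat 8, .ofNat 1, .negSucc 48, .ofNat 76, .ofNat 27, .negSucc 76, .ofNat 98, .negSucc 125,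
  .negSucc 349, .ofNat 168, .negSucc 125, .ofNat 133, .ofNat 525, .ofNat 476, .ofNat 0, .negSucc 131,
  .negSucc 699, .ofNat 1225, .ofNat 0, .negSucc 797, .ofNat 1050, .negSucc 2393, .ofNat 1000, .ofNat 8712,
  .ofNat 0, .negSucc 2099, .ofNat 0, .ofNat 0, .ofNat 2870, .ofNat 2730, .ofNat 3150, .ofNat 0, .ofNat 0,
  .ofNat 4725, .ofNat 3262, .ofNat 22288, .negSucc 4823, .ofNat 26502, .negSucc 2799, .negSucc 20005,
  .ofNat 0, .negSucc 279, .negSucc 3856, .ofNat 0, .ofNat 0, .negSucc 1679, .ofNat 0, .negSucc 12499,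
  .negSucc 1973, .ofNat 12873, .ofNat 0, .negSucc 8699, .ofNat 11606, .negSucc 7397, .ofNat 0, .negSucc 6299,
  .negSucc 3274, .ofNat 0, .ofNat 0, .negSucc 14559, .ofNat 0, .ofNat 5250, .negSucc 6074, .ofNat 1323,
  .ofNat 0, .negSucc 16799, .ofNat 5056, .ofNat 0, .ofNat 0, .ofNat 21875, .ofNat 6293, .ofNat 0, .ofNat 0,
  .ofNat 0, .ofNat 0, .negSucc 6019, .ofNat 16275, .ofNat 32725, .ofNat 0, .ofNat 49644, .ofNat 8532,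
  .ofNat 80896, .ofNat 0, .ofNat 60984, .ofNat 69696, .ofNat 58429, .ofNat 22875, .ofNat 0, .ofNat 16128,
  .ofNat 6447, .ofNat 0, .negSucc 21770, .negSucc 34474, .negSucc 20075, .ofNat 0, .ofNat 0, .ofNat 26950,
  .ofNat 28125, .ofNat 43904, .ofNat 87808, .negSucc 11883, .ofNat 0, .ofNat 0, .ofNat 0, .ofNat 9450,
  .negSucc 44274, .negSucc 43903, .ofNat 0, .negSucc 6831, .ofNat 7728, .negSucc 43749, .ofNat 0,
  .negSucc 32129, .ofNat 27552, .negSucc 22679, .ofNat 0, .ofNat 24368, .ofNat 31200, .ofNat 6755, .ofNat 0,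
  .negSucc 12319, .ofNat 0, .ofNat 6615, .ofNat 15147, .negSucc 58302, .ofNat 0, .ofNat 0, .ofNat 89152,
  .ofNat 9100, .ofNat 74080, .negSucc 4058, .ofNat 0, .ofNat 0, .ofNat 24066, .ofNat 4356, .ofNat 0,
  .ofNat 0, .negSucc 21356, .ofNat 66456, .ofNat 0, .negSucc 4949, .negSucc 79743, .ofNat 11550,
  .ofNat 81186, .negSucc 35839, .ofNat 54243, .ofNat 0, .ofNat 0, .negSucc 17485, .negSucc 17485,
  .negSucc 79743, .negSucc 37499, .ofNat 0, .ofNat 0, .ofNat 0, .ofNat 30078, .ofNat 70812, .ofNat 0,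
  .ofNat 0, .ofNat 0, .ofNat 0, .ofNat 0, .negSucc 3073, .ofNat 10724, .negSucc 11116, .ofNat 4290,
  .ofNat 4290, .ofNat 20915, .negSucc 31899, .ofNat 44482]

/-- the values at 6A -/
def col12 : List ℤ :=
  [.ofNat 1, .ofNat 78, .ofNat 273, .ofNat 1000, .ofNat 2354, .ofNat 2378, .ofNat 5070, .ofNat 12495,
  .ofNat 20682, .ofNat 33670, .ofNat 12024, .ofNat 18174, .ofNat 11661, .ofNat 43109, .ofNat 62776,
  .ofNat 3850, .ofNat 99177, .ofNat 112892, .ofNat 50895, .ofNat 146874, .ofNat 50675, .ofNat 211497,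
  .ofNat 245181, .ofNat 121132, .ofNat 0, .ofNat 241812, .ofNat 487136, .ofNat 117117, .negSucc 13220,
  .negSucc 348919, .ofNat 126699, .ofNat 695110, .negSucc 63634, .negSucc 144494, .ofNat 960232,
  .ofNat 94094, .negSucc 23295, .ofNat 206336, .ofNat 0, .ofNat 328704, .ofNat 547118, .negSucc 448889,
  .ofNat 219648, .ofNat 602745, .negSucc 21449, .ofNat 300300, .ofNat 1543698, .negSucc 535403,
  .ofNat 457600, .ofNat 1498200, .negSucc 561275, .ofNat 61203, .negSucc 2016287, .ofNat 1911546,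
  .ofNat 1384371, .negSucc 679391, .ofNat 1999647, .negSucc 131130, .ofNat 1218425, .ofNat 984150,
  .ofNat 3025386, .ofNat 78650, .negSucc 124266, .negSucc 85292, .negSucc 2453813, .ofNat 2525886,
  .negSucc 80651, .ofNat 0, .ofNat 1305150, .ofNat 1051050, .ofNat 509950, .ofNat 507507, .ofNat 633360,
  .negSucc 132209, .negSucc 2862782, .ofNat 214005, .ofNat 7568715, .negSucc 2190329, .negSucc 289223,
  .ofNat 80640, .ofNat 0, .negSucc 2814668, .ofNat 0, .negSucc 4088798, .ofNat 0, .ofNat 0, .ofNat 4728647,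
  .ofNat 1223937, .ofNat 1929850, .negSucc 1478399, .ofNat 0, .ofNat 3735225, .negSucc 5837831,
  .negSucc 4384379, .ofNat 6248529, .negSucc 535039, .ofNat 1907685, .negSucc 299727, .ofNat 0,
  .negSucc 1441791, .ofNat 2883584, .ofNat 1592448, .ofNat 3003000, .ofNat 3850000, .ofNat 1355640,
  .negSucc 85292, .negSucc 27026, .negSucc 1114111, .negSucc 355354, .ofNat 535808, .ofNat 8456448,
  .ofNat 5280275, .negSucc 2555903, .negSucc 85292, .ofNat 6077280, .negSucc 1154735, .ofNat 1804803,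
  .negSucc 5892095, .negSucc 2306303, .ofNat 3162159, .ofNat 0, .ofNat 2648646, .ofNat 4113693,
  .negSucc 2814668, .ofNat 2814669, .ofNat 4993560, .negSucc 2914703, .ofNat 300300, .negSucc 908543,
  .negSucc 4051839, .ofNat 0, .ofNat 0, .negSucc 2453813, .negSucc 113399, .ofNat 0, .ofNat 0, .ofNat 847275,
  .negSucc 1200770, .ofNat 2539107, .ofNat 0, .ofNat 4231150, .negSucc 1999646, .negSucc 1114111,
  .ofNat 2389608, .ofNat 0, .negSucc 2555903, .ofNat 0, .negSucc 25024, .ofNat 85293, .negSucc 2189186,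
  .negSucc 459458, .ofNat 3670016, .ofNat 0, .ofNat 86450, .negSucc 24881, .ofNat 4577650, .ofNat 1299078,
  .ofNat 0, .negSucc 1384370, .negSucc 469104, .negSucc 1683824, .negSucc 893969, .negSucc 1999646,
  .negSucc 93950, .ofNat 1197612, .negSucc 5254820, .ofNat 109980, .ofNat 3622905, .ofNat 5535387,
  .negSucc 1616471, .ofNat 437580]

/-- the values at 6B -/
def col13 : List ℤ :=
  [.ofNat 1, .ofNat 77, .ofNat 286, .ofNat 923, .ofNat 1990, .ofNat 2652, .ofNat 4785, .ofNat 13299,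
  .ofNat 18954, .ofNat 28105, .ofNat 14103, .ofNat 24726, .ofNat 28392, .ofNat 18381, .ofNat 64064, .ofNat 0,
  .ofNat 88166, .ofNat 93093, .ofNat 79002, .ofNat 67210, .ofNat 147784, .ofNat 155649, .ofNat 206052,
  .ofNat 119977, .ofNat 0, .ofNat 189540, .ofNat 149084, .ofNat 228735, .ofNat 248325, .ofNat 66066,
  .ofNat 211926, .ofNat 26741, .ofNat 150800, .ofNat 263340, .ofNat 308308, .ofNat 6006, .ofNat 0,
  .ofNat 223808, .negSucc 10205, .ofNat 251328, .ofNat 12012, .ofNat 70070, .ofNat 13376, .ofNat 318318,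
  .negSucc 7149, .ofNat 0, .ofNat 124254, .ofNat 256035, .ofNat 22880, .ofNat 61776, .ofNat 208845,
  .ofNat 148785, .ofNat 137280, .ofNat 66066, .ofNat 0, .ofNat 188475, .ofNat 18954, .negSucc 32746,
  .ofNat 10075, .ofNat 0, .negSucc 19382, .ofNat 21450, .ofNat 49413, .ofNat 0, .ofNat 0, .negSucc 117974,
  .negSucc 10009, .negSucc 45055, .negSucc 3849, .ofNat 0, .negSucc 1714, .ofNat 48048, .negSucc 80079,
  .ofNat 30030, .ofNat 29160, .negSucc 83159, .negSucc 118117, .ofNat 36036, .ofNat 92092, .negSucc 105599,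
  .negSucc 122471, .ofNat 0, .ofNat 0, .ofNat 68640, .ofNat 0, .ofNat 0, .ofNat 39039, .negSucc 223937,
  .negSucc 186549, .negSucc 192191, .ofNat 104247, .negSucc 18524, .ofNat 18954, .negSucc 98734,
  .negSucc 127763, .ofNat 0, .negSucc 148499, .negSucc 248247, .ofNat 0, .ofNat 0, .ofNat 0, .ofNat 192192,
  .negSucc 46199, .ofNat 0, .negSucc 193699, .ofNat 0, .negSucc 49048, .ofNat 0, .ofNat 21735,
  .negSucc 23295, .negSucc 11647, .negSucc 130129, .ofNat 0, .ofNat 0, .negSucc 128127, .ofNat 0,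
  .ofNat 250250, .ofNat 73216, .negSucc 27455, .ofNat 183183, .ofNat 102400, .ofNat 81081, .ofNat 0,
  .ofNat 0, .ofNat 0, .ofNat 220220, .ofNat 289575, .negSucc 150149, .ofNat 0, .ofNat 331968, .ofNat 372736,
  .ofNat 0, .ofNat 0, .negSucc 28599, .ofNat 0, .ofNat 0, .negSucc 17874, .ofNat 192115, .ofNat 0, .ofNat 0,
  .ofNat 150150, .ofNat 208494, .ofNat 0, .ofNat 452088, .negSucc 331694, .ofNat 0, .ofNat 0, .negSucc 89374,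
  .ofNat 0, .negSucc 36035, .ofNat 36036, .ofNat 0, .negSucc 160379, .ofNat 86450, .ofNat 90090, .ofNat 0,
  .ofNat 0, .ofNat 0, .ofNat 0, .negSucc 90089, .negSucc 257399, .negSucc 248534, .negSucc 189539,
  .negSucc 11153, .negSucc 35021, .negSucc 263405, .ofNat 28158, .ofNat 22308, .ofNat 102960, .ofNat 163020,
  .ofNat 858]

/-- the values at 6C -/
def col14 : List ℤ :=
  [.ofNat 1, .ofNat 14, .negSucc 46, .ofNat 104, .ofNat 370, .negSucc 245, .ofNat 78, .negSucc 560,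
  .ofNat 1674, .ofNat 70, .ofNat 2808, .negSucc 1985, .negSucc 2162, .ofNat 3621, .ofNat 56, .negSucc 629,
  .negSucc 3606, .ofNat 2940, .ofNat 7119, .ofNat 12922, .ofNat 3955, .negSucc 13334, .ofNat 6909,
  .negSucc 6355, .ofNat 0, .ofNat 5076, .ofNat 10592, .negSucc 19970, .negSucc 3044, .ofNat 18312,
  .ofNat 26283, .ofNat 38918, .ofNat 40109, .negSucc 33326, .negSucc 15511, .ofNat 20622, .negSucc 16127,
  .negSucc 20991, .ofNat 0, .ofNat 21504, .ofNat 23982, .ofNat 28742, .negSucc 60927, .negSucc 4934,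
  .ofNat 950, .negSucc 8819, .ofNat 14418, .ofNat 8724, .ofNat 7040, .negSucc 5543, .ofNat 40068,
  .ofNat 33747, .ofNat 5088, .negSucc 89669, .ofNat 93555, .negSucc 63839, .ofNat 24543, .ofNat 31621,
  .ofNat 31225, .ofNat 51030, .ofNat 22890, .ofNat 6330, .ofNat 20181, .ofNat 39123, .negSucc 105461,
  .ofNat 131838, .negSucc 27019, .ofNat 65536, .negSucc 16449, .ofNat 29610, .ofNat 19390, .ofNat 51891,
  .negSucc 126447, .negSucc 34481, .ofNat 29889, .negSucc 59786, .negSucc 68788, .negSucc 28601,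
  .negSucc 4423, .ofNat 40704, .ofNat 0, .ofNat 124659, .ofNat 0, .ofNat 54753, .ofNat 0, .ofNat 0,
  .ofNat 111111, .ofNat 133569, .negSucc 80709, .negSucc 123647, .ofNat 0, .ofNat 9465, .ofNat 20088,
  .ofNat 47236, .ofNat 6993, .ofNat 32256, .ofNat 53541, .negSucc 53199, .ofNat 0, .ofNat 0, .ofNat 0,
  .negSucc 29567, .negSucc 20999, .negSucc 65519, .ofNat 4984, .ofNat 39123, .ofNat 11053, .ofNat 0,
  .negSucc 26522, .negSucc 87807, .negSucc 51967, .negSucc 39724, .ofNat 0, .ofNat 39123, .negSucc 61599,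
  .ofNat 27216, .ofNat 32963, .ofNat 96256, .ofNat 768, .ofNat 92463, .negSucc 81919, .negSucc 64889,
  .ofNat 66717, .ofNat 124659, .negSucc 124658, .ofNat 101528, .negSucc 187919, .negSucc 22259,
  .negSucc 112895, .negSucc 51071, .ofNat 114688, .ofNat 0, .negSucc 105461, .negSucc 169719, .ofNat 0,
  .ofNat 0, .negSucc 6804, .negSucc 18178, .ofNat 66339, .ofNat 0, .negSucc 94289, .negSucc 24542, .ofNat 0,
  .negSucc 22679, .ofNat 0, .ofNat 0, .ofNat 0, .ofNat 9535, .negSucc 39122, .ofNat 121149, .negSucc 56258,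
  .ofNat 0, .ofNat 0, .negSucc 14349, .negSucc 881, .ofNat 77490, .ofNat 132678, .ofNat 0, .negSucc 93554,
  .negSucc 17072, .ofNat 13455, .ofNat 49518, .negSucc 24542, .ofNat 2625, .ofNat 98412, .negSucc 7076,
  .ofNat 21084, .negSucc 123590, .ofNat 87003, .ofNat 23016, .ofNat 12684]

/-- the values at 6D -/
def col15 : List ℤ :=
  [.ofNat 1, .negSucc 2, .ofNat 30, .negSucc 52, .ofNat 86, .negSucc 51, .ofNat 129, .negSucc 140,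
  .negSucc 53, .ofNat 217, .ofNat 279, .ofNat 678, .ofNat 888, .ofNat 989, .negSucc 1375, .ofNat 3040,
  .negSucc 857, .ofNat 869, .ofNat 1242, .negSucc 869, .negSucc 2055, .ofNat 2193, .ofNat 804, .ofNat 1657,
  .ofNat 0, .negSucc 539, .negSucc 4371, .ofNat 1935, .negSucc 4634, .ofNat 3106, .negSucc 2009, .ofNat 373,
  .ofNat 10480, .negSucc 2339, .negSucc 427, .negSucc 11529, .negSucc 2559, .ofNat 4160, .ofNat 13122,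
  .ofNat 12480, .negSucc 10323, .ofNat 11190, .ofNat 17472, .negSucc 4673, .negSucc 3629, .negSucc 9119,
  .ofNat 1134, .negSucc 10604, .negSucc 32287, .ofNat 12336, .negSucc 3266, .negSucc 11534, .ofNat 18432,
  .ofNat 9666, .ofNat 0, .negSucc 9764, .negSucc 4373, .negSucc 1530, .ofNat 17195, .ofNat 0, .ofNat 26361,
  .ofNat 59210, .negSucc 23178, .ofNat 0, .ofNat 0, .ofNat 9945, .ofNat 14118, .ofNat 0, .ofNat 83670,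
  .ofNat 91200, .ofNat 54973, .ofNat 13488, .ofNat 11280, .ofNat 16830, .negSucc 29159, .ofNat 28920,
  .negSucc 37589, .ofNat 1044, .negSucc 14147, .ofNat 28800, .negSucc 52487, .ofNat 0, .ofNat 0,
  .negSucc 25919, .ofNat 0, .ofNat 0, .ofNat 18335, .negSucc 17873, .ofNat 18250, .negSucc 42431,
  .ofNat 45927, .negSucc 15884, .ofNat 53946, .negSucc 15806, .negSucc 33587, .negSucc 16639, .ofNat 26460,
  .ofNat 2888, .ofNat 0, .ofNat 51200, .negSucc 102399, .ofNat 11328, .ofNat 74040, .negSucc 161119,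
  .negSucc 29459, .ofNat 0, .ofNat 17847, .negSucc 35839, .ofNat 50455, .negSucc 127743, .ofNat 6528,
  .ofNat 1262, .ofNat 15360, .ofNat 0, .negSucc 52799, .ofNat 0, .negSucc 15509, .negSucc 3071,
  .negSucc 9791, .ofNat 3807, .ofNat 0, .ofNat 34857, .ofNat 30240, .ofNat 0, .ofNat 0, .ofNat 4284,
  .negSucc 34424, .ofNat 114810, .ofNat 3840, .negSucc 13503, .ofNat 0, .ofNat 0, .ofNat 0, .ofNat 29160,
  .ofNat 0, .ofNat 0, .negSucc 42914, .negSucc 1484, .ofNat 0, .ofNat 0, .ofNat 15910, .negSucc 48113,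
  .negSucc 35839, .ofNat 71064, .ofNat 6561, .ofNat 15360, .ofNat 0, .ofNat 50305, .ofNat 0, .negSucc 27539,
  .negSucc 22139, .ofNat 20480, .ofNat 26244, .ofNat 8690, .ofNat 21450, .negSucc 79039, .ofNat 0, .ofNat 0,
  .ofNat 0, .negSucc 49929, .ofNat 48360, .negSucc 26054, .ofNat 43740, .ofNat 5598, .ofNat 40770,
  .negSucc 10637, .negSucc 20753, .ofNat 59796, .ofNat 4464, .negSucc 22067, .ofNat 7146]

/-- the values at 6E -/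
def col16 : List ℤ :=
  [.ofNat 1, .ofNat 5, .negSucc 1, .negSucc 12, .ofNat 46, .negSucc 11, .negSucc 38, .ofNat 51, .negSucc 53,
  .negSucc 46, .negSucc 8, .ofNat 30, .negSucc 47, .ofNat 309, .negSucc 15, .negSucc 719, .ofNat 38,
  .negSucc 218, .ofNat 90, .negSucc 109, .ofNat 256, .ofNat 201, .negSucc 155, .negSucc 334, .ofNat 0,
  .negSucc 539, .negSucc 27, .ofNat 135, .negSucc 74, .ofNat 474, .ofNat 318, .ofNat 1685, .ofNat 320,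
  .negSucc 539, .ofNat 436, .ofNat 1974, .ofNat 2304, .ofNat 320, .ofNat 1458, .negSucc 959, .ofNat 3660,
  .negSucc 489, .negSucc 447, .ofNat 726, .ofNat 5810, .negSucc 3599, .negSucc 2105, .ofNat 795,
  .negSucc 1887, .ofNat 576, .negSucc 890, .ofNat 465, .negSucc 95, .ofNat 1482, .ofNat 0, .ofNat 555,
  .negSucc 485, .negSucc 562, .ofNat 3235, .ofNat 0, .ofNat 5601, .ofNat 4170, .negSucc 2786, .ofNat 0,
  .ofNat 0, .negSucc 1694, .ofNat 358, .ofNat 10240, .ofNat 1190, .ofNat 1440, .negSucc 922, .ofNat 7728,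
  .ofNat 5600, .ofNat 2310, .ofNat 0, .negSucc 719, .negSucc 829, .ofNat 2988, .negSucc 67, .ofNat 3840,
  .ofNat 5832, .ofNat 0, .ofNat 0, .negSucc 1199, .ofNat 0, .ofNat 0, .negSucc 1712, .ofNat 2646,
  .negSucc 789, .ofNat 192, .ofNat 5103, .negSucc 884, .ofNat 2754, .negSucc 3190, .ofNat 2268, .ofNat 5760,
  .negSucc 539, .negSucc 4599, .ofNat 0, .ofNat 0, .ofNat 0, .negSucc 4223, .negSucc 7679, .ofNat 9360,
  .ofNat 1060, .ofNat 0, .ofNat 3439, .ofNat 0, .negSucc 1664, .negSucc 14079, .negSucc 5887, .ofNat 4942,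
  .ofNat 0, .ofNat 0, .ofNat 2336, .ofNat 0, .negSucc 3909, .ofNat 1792, .negSucc 5567, .negSucc 2792,
  .ofNat 10240, .ofNat 7569, .negSucc 2159, .ofNat 0, .ofNat 0, .negSucc 963, .negSucc 2024, .negSucc 10469,
  .ofNat 5760, .ofNat 3072, .negSucc 5119, .ofNat 0, .ofNat 0, .negSucc 1959, .ofNat 0, .ofNat 0,
  .ofNat 9125, .ofNat 4915, .ofNat 0, .ofNat 0, .negSucc 6089, .negSucc 5345, .ofNat 0, .ofNat 4104,
  .ofNat 729, .ofNat 0, .ofNat 0, .negSucc 2254, .ofNat 0, .negSucc 4139, .ofNat 3780, .ofNat 0, .ofNat 2916,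
  .negSucc 2829, .ofNat 2970, .ofNat 4320, .ofNat 0, .ofNat 0, .ofNat 0, .negSucc 7289, .ofNat 5400,
  .negSucc 7694, .ofNat 4860, .ofNat 4038, .ofNat 5370, .ofNat 1122, .ofNat 726, .negSucc 2243, .ofNat 4464,
  .negSucc 1427, .ofNat 1506]

/-- the values at 6F -/
def col17 : List ℤ :=
  [.ofNat 1, .negSucc 0, .negSucc 7, .ofNat 8, .negSucc 7, .ofNat 9, .ofNat 36, .negSucc 35, .ofNat 0,
  .negSucc 7, .ofNat 120, .negSucc 56, .ofNat 147, .ofNat 72, .negSucc 63, .ofNat 210, .ofNat 92,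
  .negSucc 83, .negSucc 77, .negSucc 49, .negSucc 40, .ofNat 72, .negSucc 113, .negSucc 280, .ofNat 810,
  .ofNat 0, .ofNat 92, .ofNat 120, .ofNat 330, .negSucc 356, .ofNat 387, .ofNat 92, .negSucc 159,
  .negSucc 119, .negSucc 163, .ofNat 1638, .negSucc 1679, .negSucc 231, .ofNat 0, .ofNat 552, .negSucc 293,
  .negSucc 159, .negSucc 879, .negSucc 881, .ofNat 1220, .negSucc 209, .ofNat 0, .ofNat 315, .ofNat 1664,
  .ofNat 192, .ofNat 0, .ofNat 210, .negSucc 959, .negSucc 83, .ofNat 1512, .ofNat 960, .ofNat 0,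
  .ofNat 2002, .ofNat 1540, .ofNat 0, .negSucc 83, .negSucc 3389, .negSucc 755, .negSucc 1511, .ofNat 1512,
  .negSucc 959, .ofNat 1681, .negSucc 3583, .ofNat 1610, .negSucc 1679, .ofNat 1771, .negSucc 671,
  .ofNat 3290, .ofNat 1485, .ofNat 0, .negSucc 194, .ofNat 196, .ofNat 720, .ofNat 1072, .negSucc 1079,
  .ofNat 0, .ofNat 0, .ofNat 0, .negSucc 1484, .ofNat 810, .negSucc 809, .ofNat 462, .ofNat 0, .ofNat 155,
  .negSucc 839, .ofNat 0, .ofNat 1080, .ofNat 0, .ofNat 1792, .ofNat 0, .ofNat 1560, .ofNat 0, .negSucc 63,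
  .negSucc 2996, .ofNat 0, .ofNat 0, .ofNat 1728, .ofNat 1785, .ofNat 1680, .ofNat 2800, .negSucc 782,
  .ofNat 2548, .ofNat 0, .ofNat 840, .ofNat 5264, .ofNat 1792, .ofNat 2707, .ofNat 0, .negSucc 782,
  .negSucc 3711, .ofNat 783, .negSucc 474, .ofNat 1024, .negSucc 1079, .negSucc 146, .ofNat 2560,
  .negSucc 104, .ofNat 0, .ofNat 0, .ofNat 0, .negSucc 1071, .ofNat 0, .ofNat 180, .ofNat 840, .ofNat 1728,
  .ofNat 2560, .negSucc 2996, .negSucc 2294, .negSucc 3519, .ofNat 2997, .negSucc 3239, .negSucc 2619,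
  .ofNat 1870, .ofNat 0, .negSucc 3239, .negSucc 1019, .ofNat 0, .ofNat 0, .ofNat 0, .ofNat 0, .ofNat 0,
  .ofNat 0, .ofNat 2485, .negSucc 2294, .ofNat 210, .ofNat 210, .ofNat 0, .ofNat 0, .negSucc 2484,
  .ofNat 210, .ofNat 945, .ofNat 0, .ofNat 3240, .ofNat 2295, .negSucc 1154, .ofNat 2010, .ofNat 0, .ofNat 0,
  .negSucc 995, .negSucc 785, .ofNat 1404, .ofNat 1671, .ofNat 66, .ofNat 63, .negSucc 2333, .negSucc 113]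

/-- the values at 7A -/
def col18 : List ℤ :=
  [.ofNat 1, .ofNat 50, .ofNat 153, .ofNat 426, .ofNat 798, .ofNat 1072, .ofNat 1700, .ofNat 4249,
  .ofNat 5355, .ofNat 7497, .ofNat 3451, .ofNat 6154, .ofNat 6272, .ofNat 4200, .ofNat 14553, .ofNat 0,
  .ofNat 17850, .ofNat 17493, .ofNat 13720, .ofNat 10879, .ofNat 23324, .ofNat 25704, .ofNat 28322,
  .ofNat 15078, .ofNat 306, .ofNat 25227, .ofNat 18852, .ofNat 26452, .ofNat 23324, .ofNat 2058,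
  .ofNat 21301, .ofNat 3723, .ofNat 11305, .ofNat 20825, .ofNat 29547, .ofNat 0, .ofNat 0, .ofNat 14008,
  .ofNat 0, .ofNat 13720, .negSucc 2057, .negSucc 1224, .ofNat 1344, .ofNat 17493, .negSucc 99, .ofNat 0,
  .ofNat 7854, .ofNat 3451, .negSucc 3399, .ofNat 5747, .negSucc 2057, .ofNat 2058, .negSucc 10505, .ofNat 0,
  .negSucc 475, .negSucc 7496, .negSucc 2855, .ofNat 0, .negSucc 4674, .negSucc 6899, .ofNat 0,
  .negSucc 5949, .negSucc 17492, .negSucc 10353, .negSucc 13327, .ofNat 4131, .negSucc 13719, .ofNat 0,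
  .ofNat 0, .ofNat 0, .ofNat 0, .ofNat 0, .ofNat 0, .negSucc 1224, .negSucc 19277, .negSucc 20824, .ofNat 0,
  .negSucc 23323, .negSucc 13719, .negSucc 9519, .ofNat 0, .negSucc 17423, .negSucc 8191, .negSucc 24478,
  .ofNat 14994, .ofNat 15300, .ofNat 0, .ofNat 4998, .negSucc 1224, .ofNat 0, .negSucc 4724, .negSucc 1699,
  .negSucc 12647, .ofNat 0, .ofNat 0, .ofNat 13720, .negSucc 5354, .ofNat 13720, .ofNat 4725, .ofNat 8448,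
  .ofNat 16896, .negSucc 29307, .ofNat 0, .ofNat 0, .ofNat 6580, .negSucc 13719, .ofNat 0, .negSucc 6271,
  .ofNat 0, .ofNat 0, .ofNat 0, .ofNat 22050, .ofNat 2176, .ofNat 23324, .ofNat 28322, .ofNat 6154,
  .negSucc 7496, .ofNat 9520, .ofNat 11984, .ofNat 0, .negSucc 14399, .ofNat 0, .ofNat 17493, .ofNat 18648,
  .ofNat 1224, .negSucc 23323, .negSucc 12578, .ofNat 22050, .ofNat 0, .negSucc 23323, .negSucc 35903,
  .negSucc 19277, .negSucc 13768, .negSucc 2974, .negSucc 14552, .ofNat 23409, .negSucc 25074, .ofNat 23324,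
  .negSucc 17492, .negSucc 8855, .negSucc 22049, .ofNat 22134, .negSucc 2175, .negSucc 17492, .ofNat 0,
  .ofNat 6272, .ofNat 0, .ofNat 0, .ofNat 3298, .ofNat 0, .ofNat 0, .ofNat 0, .ofNat 0, .ofNat 0,
  .ofNat 17493, .ofNat 0, .negSucc 16148, .ofNat 14553, .negSucc 7020, .ofNat 0, .ofNat 22575, .ofNat 0,
  .ofNat 18003, .negSucc 441, .negSucc 441, .ofNat 20383, .negSucc 441, .negSucc 18291, .negSucc 28763,
  .ofNat 7055, .ofNat 16966]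

/-- the values at 7B -/
def col19 : List ℤ :=
  [.ofNat 1, .ofNat 1, .ofNat 6, .negSucc 14, .ofNat 14, .negSucc 5, .negSucc 14, .ofNat 35, .negSucc 34,
  .ofNat 0, .ofNat 70, .negSucc 19, .ofNat 0, .ofNat 35, .ofNat 0, .ofNat 0, .negSucc 83, .ofNat 0, .ofNat 0,
  .ofNat 50, .ofNat 0, .ofNat 175, .ofNat 0, .negSucc 160, .negSucc 575, .negSucc 154, .negSucc 159,
  .ofNat 90, .ofNat 0, .ofNat 0, .ofNat 280, .ofNat 195, .negSucc 209, .ofNat 0, .ofNat 0, .ofNat 0,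
  .ofNat 0, .negSucc 495, .ofNat 0, .ofNat 0, .ofNat 0, .ofNat 0, .ofNat 560, .ofNat 0, .ofNat 1370,
  .ofNat 0, .ofNat 210, .ofNat 315, .negSucc 1047, .ofNat 700, .ofNat 0, .ofNat 0, .ofNat 176, .ofNat 0,
  .negSucc 83, .ofNat 0, .negSucc 454, .ofNat 686, .negSucc 509, .ofNat 1920, .ofNat 0, .ofNat 420, .ofNat 0,
  .negSucc 1043, .ofNat 0, .ofNat 15, .ofNat 0, .ofNat 1372, .ofNat 0, .ofNat 0, .ofNat 0, .ofNat 0,
  .ofNat 0, .ofNat 0, .ofNat 175, .ofNat 0, .ofNat 0, .ofNat 0, .ofNat 0, .ofNat 280, .ofNat 0, .ofNat 1539,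
  .ofNat 2784, .negSucc 664, .ofNat 0, .negSucc 575, .ofNat 0, .ofNat 294, .ofNat 0, .ofNat 0, .negSucc 1784,
  .ofNat 260, .negSucc 495, .ofNat 0, .ofNat 0, .ofNat 0, .negSucc 699, .ofNat 0, .ofNat 2079, .negSucc 959,
  .negSucc 1919, .ofNat 1072, .ofNat 0, .ofNat 0, .negSucc 769, .ofNat 0, .ofNat 0, .ofNat 0, .ofNat 0,
  .ofNat 0, .ofNat 0, .ofNat 0, .negSucc 959, .ofNat 0, .ofNat 0, .ofNat 960, .ofNat 0, .ofNat 896,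
  .ofNat 2576, .ofNat 0, .ofNat 2260, .ofNat 0, .ofNat 0, .negSucc 314, .ofNat 1224, .ofNat 0, .negSucc 1994,
  .ofNat 0, .ofNat 0, .ofNat 0, .negSucc 35, .negSucc 2078, .ofNat 0, .ofNat 700, .ofNat 0, .negSucc 1727,
  .negSucc 819, .ofNat 0, .ofNat 0, .ofNat 1728, .ofNat 0, .ofNat 1799, .ofNat 960, .ofNat 0, .ofNat 0,
  .ofNat 0, .ofNat 0, .negSucc 1714, .negSucc 719, .ofNat 0, .ofNat 0, .ofNat 0, .ofNat 1029, .ofNat 0,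
  .ofNat 0, .ofNat 0, .negSucc 1595, .ofNat 0, .negSucc 1679, .ofNat 0, .ofNat 1505, .ofNat 0, .negSucc 1449,
  .negSucc 245, .ofNat 440, .negSucc 245, .negSucc 245, .ofNat 1014, .negSucc 245, .negSucc 245,
  .negSucc 2437]

/-- the values at 8A -/
def col20 : List ℤ :=
  [.ofNat 1, .ofNat 35, .ofNat 92, .ofNat 222, .ofNat 364, .ofNat 511, .ofNat 714, .ofNat 1646, .ofNat 1807,
  .ofNat 2379, .ofNat 1079, .ofNat 1993, .ofNat 1869, .ofNat 966, .ofNat 4096, .ofNat 14, .ofNat 4408,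
  .ofNat 4033, .ofNat 3206, .ofNat 1660, .ofNat 5173, .ofNat 4818, .ofNat 4536, .ofNat 2541, .negSucc 53,
  .ofNat 3429, .ofNat 1664, .ofNat 4109, .ofNat 3521, .ofNat 985, .ofNat 2533, .negSucc 943, .ofNat 1448,
  .ofNat 1758, .ofNat 594, .negSucc 55, .ofNat 0, .ofNat 0, .ofNat 420, .ofNat 0, .ofNat 156, .ofNat 736,
  .ofNat 0, .negSucc 1363, .ofNat 238, .ofNat 490, .negSucc 2335, .ofNat 771, .ofNat 0, .negSucc 4095,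
  .negSucc 1516, .negSucc 2423, .ofNat 0, .negSucc 3135, .negSucc 1511, .negSucc 2035, .negSucc 2057,
  .ofNat 1064, .ofNat 916, .ofNat 1638, .ofNat 49, .ofNat 110, .negSucc 1687, .negSucc 2906, .negSucc 575,
  .negSucc 3631, .negSucc 2715, .ofNat 0, .ofNat 1596, .ofNat 1288, .ofNat 35, .negSucc 615, .ofNat 1148,
  .ofNat 1310, .ofNat 1281, .ofNat 1518, .negSucc 1399, .ofNat 2240, .ofNat 0, .ofNat 0, .ofNat 3318,
  .ofNat 891, .ofNat 0, .ofNat 3779, .negSucc 1835, .negSucc 1889, .negSucc 55, .negSucc 1812, .negSucc 3435,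
  .ofNat 0, .negSucc 47, .ofNat 2219, .ofNat 1920, .ofNat 2884, .ofNat 1288, .ofNat 0, .ofNat 5032, .ofNat 0,
  .negSucc 1862, .ofNat 0, .ofNat 0, .ofNat 0, .ofNat 2037, .ofNat 3108, .ofNat 3584, .ofNat 5922, .ofNat 28,
  .ofNat 0, .ofNat 2184, .ofNat 0, .ofNat 0, .negSucc 1189, .ofNat 0, .negSucc 3149, .ofNat 0, .ofNat 3591,
  .ofNat 1324, .ofNat 0, .ofNat 0, .negSucc 363, .ofNat 0, .negSucc 1203, .negSucc 4023, .negSucc 3725,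
  .negSucc 2834, .ofNat 0, .negSucc 847, .ofNat 308, .ofNat 0, .ofNat 0, .ofNat 0, .ofNat 2457, .ofNat 1989,
  .ofNat 4096, .ofNat 594, .negSucc 2483, .ofNat 2591, .negSucc 3303, .ofNat 4185, .ofNat 0, .ofNat 2240,
  .negSucc 6530, .ofNat 0, .negSucc 4095, .ofNat 5691, .ofNat 0, .ofNat 567, .ofNat 1253, .negSucc 2330,
  .ofNat 385, .negSucc 3086, .ofNat 0, .ofNat 3969, .ofNat 700, .negSucc 243, .ofNat 3577, .negSucc 2420,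
  .negSucc 2483, .negSucc 1160, .ofNat 1806, .ofNat 1574, .ofNat 714, .negSucc 1736, .ofNat 21, .ofNat 49,
  .negSucc 2518, .ofNat 392, .ofNat 2485, .ofNat 1323, .negSucc 1358, .ofNat 49]

/-- the values at 8B -/
def col21 : List ℤ :=
  [.ofNat 1, .ofNat 11, .negSucc 11, .ofNat 54, .ofNat 132, .negSucc 64, .ofNat 34, .negSucc 153, .ofNat 375,
  .ofNat 219, .ofNat 351, .negSucc 582, .negSucc 506, .ofNat 846, .ofNat 0, .ofNat 110, .negSucc 439,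
  .ofNat 617, .ofNat 638, .ofNat 2212, .negSucc 330, .negSucc 1253, .ofNat 1144, .negSucc 714, .negSucc 197,
  .ofNat 837, .ofNat 1792, .negSucc 2738, .negSucc 1494, .ofNat 1441, .ofNat 2925, .ofNat 3376, .ofNat 2520,
  .negSucc 2441, .negSucc 549, .negSucc 791, .ofNat 0, .ofNat 0, .negSucc 107, .ofNat 0, .negSucc 659,
  .ofNat 1056, .ofNat 0, .negSucc 2155, .ofNat 990, .ofNat 1210, .ofNat 3168, .ofNat 2091, .ofNat 0,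
  .ofNat 0, .ofNat 3651, .ofNat 1880, .ofNat 0, .negSucc 7039, .ofNat 3752, .negSucc 5291, .ofNat 5358,
  .negSucc 2375, .negSucc 339, .negSucc 569, .ofNat 3025, .ofNat 110, .negSucc 3255, .ofNat 2245,
  .negSucc 1791, .ofNat 1584, .ofNat 1012, .ofNat 0, .negSucc 659, .negSucc 1319, .negSucc 484, .negSucc 791,
  .ofNat 396, .ofNat 1254, .negSucc 1286, .negSucc 1001, .ofNat 2552, .ofNat 4608, .ofNat 0, .ofNat 0,
  .ofNat 1782, .ofNat 4851, .ofNat 0, .ofNat 3003, .negSucc 1979, .negSucc 2177, .ofNat 2200, .ofNat 1419,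
  .negSucc 6059, .ofNat 0, .negSucc 4751, .negSucc 1604, .ofNat 0, .negSucc 3299, .negSucc 935, .ofNat 0,
  .ofNat 2520, .ofNat 0, .negSucc 494, .ofNat 0, .ofNat 0, .ofNat 0, .ofNat 1045, .ofNat 5940, .ofNat 0,
  .negSucc 373, .negSucc 4443, .ofNat 0, .negSucc 1847, .ofNat 0, .ofNat 0, .negSucc 989, .ofNat 0,
  .ofNat 2650, .ofNat 0, .ofNat 1991, .negSucc 3123, .ofNat 0, .ofNat 0, .negSucc 3563, .ofNat 0,
  .negSucc 2067, .ofNat 1176, .negSucc 4949, .negSucc 98, .ofNat 0, .ofNat 4752, .ofNat 220, .ofNat 0,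
  .ofNat 0, .ofNat 0, .negSucc 2870, .negSucc 450, .ofNat 0, .negSucc 3365, .ofNat 1188, .ofNat 55,
  .ofNat 3784, .ofNat 33, .ofNat 0, .ofNat 7040, .negSucc 1010, .ofNat 0, .ofNat 0, .negSucc 1484, .ofNat 0,
  .negSucc 2672, .ofNat 1485, .ofNat 3389, .ofNat 209, .ofNat 473, .ofNat 0, .negSucc 4454, .negSucc 659,
  .negSucc 2859, .negSucc 3574, .negSucc 2804, .ofNat 1188, .ofNat 3223, .negSucc 2057, .ofNat 5390,
  .negSucc 461, .ofNat 2607, .ofNat 1397, .ofNat 1177, .ofNat 3377, .negSucc 1407, .ofNat 4037, .ofNat 1067,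
  .negSucc 230, .ofNat 1177]

/-- the values at 8C -/
def col22 : List ℤ :=
  [.ofNat 1, .negSucc 0, .ofNat 0, .ofNat 26, .ofNat 0, .negSucc 24, .negSucc 25, .ofNat 26, .ofNat 27,
  .negSucc 52, .negSucc 52, .ofNat 25, .ofNat 25, .ofNat 26, .ofNat 0, .negSucc 49, .ofNat 0, .ofNat 53,
  .ofNat 274, .ofNat 376, .negSucc 298, .negSucc 25, .negSucc 375, .ofNat 377, .negSucc 701, .negSucc 26,
  .ofNat 0, .ofNat 53, .ofNat 221, .negSucc 298, .ofNat 25, .ofNat 624, .ofNat 0, .ofNat 650, .negSucc 649,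
  .negSucc 1143, .ofNat 0, .ofNat 0, .ofNat 156, .ofNat 0, .ofNat 1300, .ofNat 0, .ofNat 0, .ofNat 376,
  .negSucc 649, .ofNat 50, .ofNat 0, .negSucc 0, .ofNat 0, .ofNat 0, .negSucc 596, .ofNat 352, .ofNat 0,
  .ofNat 0, .ofNat 0, .negSucc 727, .negSucc 701, .negSucc 623, .ofNat 1000, .ofNat 1350, .negSucc 974,
  .ofNat 1950, .ofNat 728, .negSucc 674, .ofNat 0, .ofNat 624, .ofNat 1300, .ofNat 0, .negSucc 699, .ofNat 0,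
  .negSucc 1624, .ofNat 0, .ofNat 1300, .ofNat 650, .negSucc 26, .ofNat 650, .ofNat 0, .ofNat 0, .ofNat 0,
  .ofNat 0, .negSucc 2105, .ofNat 351, .ofNat 0, .negSucc 1000, .ofNat 1404, .ofNat 702, .negSucc 351,
  .negSucc 1052, .negSucc 1299, .ofNat 0, .negSucc 623, .negSucc 324, .ofNat 0, .ofNat 1000, .ofNat 1728,
  .ofNat 0, .ofNat 0, .ofNat 0, .negSucc 674, .ofNat 0, .ofNat 0, .ofNat 0, .ofNat 1325, .negSucc 1299,
  .ofNat 0, .negSucc 1025, .negSucc 727, .ofNat 4096, .negSucc 999, .ofNat 0, .ofNat 0, .negSucc 649,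
  .negSucc 4095, .ofNat 702, .ofNat 0, .ofNat 351, .ofNat 52, .ofNat 0, .ofNat 0, .ofNat 572, .ofNat 0,
  .ofNat 1924, .negSucc 1727, .ofNat 702, .ofNat 1053, .ofNat 0, .ofNat 624, .ofNat 0, .ofNat 0, .ofNat 0,
  .ofNat 0, .negSucc 350, .negSucc 350, .ofNat 0, .negSucc 1025, .ofNat 0, .negSucc 324, .negSucc 623,
  .negSucc 674, .ofNat 0, .ofNat 0, .negSucc 1754, .negSucc 4095, .ofNat 0, .ofNat 975, .ofNat 4096,
  .ofNat 675, .negSucc 974, .ofNat 1377, .ofNat 2353, .negSucc 298, .ofNat 0, .negSucc 1274, .negSucc 1299,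
  .ofNat 1352, .ofNat 625, .ofNat 675, .ofNat 0, .ofNat 351, .ofNat 650, .ofNat 650, .negSucc 1649,
  .negSucc 1052, .negSucc 674, .ofNat 677, .ofNat 2029, .ofNat 652, .ofNat 677, .ofNat 1379, .ofNat 677,
  .ofNat 677]

/-- the values at 8D -/
def col23 : List ℤ :=
  [.ofNat 1, .negSucc 4, .ofNat 4, .ofNat 6, .ofNat 20, .negSucc 0, .negSucc 13, .negSucc 9, .negSucc 24,
  .negSucc 4, .ofNat 15, .ofNat 25, .ofNat 21, .negSucc 65, .ofNat 0, .negSucc 209, .ofNat 40, .ofNat 25,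
  .ofNat 14, .ofNat 20, .negSucc 74, .ofNat 10, .ofNat 120, .negSucc 154, .ofNat 90, .ofNat 5, .ofNat 0,
  .negSucc 114, .ofNat 25, .negSucc 174, .negSucc 34, .ofNat 240, .ofNat 120, .ofNat 70, .negSucc 53,
  .ofNat 808, .ofNat 0, .ofNat 0, .negSucc 587, .ofNat 0, .negSucc 691, .ofNat 160, .ofNat 0, .ofNat 4,
  .negSucc 129, .ofNat 1050, .negSucc 159, .ofNat 155, .ofNat 0, .ofNat 0, .negSucc 28, .negSucc 199,
  .ofNat 0, .ofNat 0, .negSucc 119, .ofNat 260, .negSucc 129, .negSucc 103, .ofNat 60, .ofNat 390,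
  .negSucc 494, .ofNat 750, .negSucc 119, .ofNat 69, .ofNat 384, .ofNat 240, .negSucc 619, .ofNat 0,
  .ofNat 1420, .negSucc 839, .negSucc 20, .negSucc 695, .ofNat 1260, .ofNat 790, .negSucc 54, .ofNat 390,
  .ofNat 280, .negSucc 383, .ofNat 1024, .ofNat 0, .ofNat 630, .ofNat 195, .ofNat 0, .negSucc 244,
  .negSucc 539, .negSucc 449, .negSucc 135, .ofNat 11, .ofNat 20, .ofNat 0, .negSucc 335, .negSucc 164,
  .ofNat 256, .negSucc 595, .negSucc 199, .ofNat 0, .ofNat 120, .ofNat 0, .negSucc 350, .ofNat 0, .ofNat 0,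
  .ofNat 0, .ofNat 405, .negSucc 1259, .ofNat 0, .negSucc 389, .ofNat 596, .ofNat 0, .ofNat 200, .ofNat 0,
  .ofNat 0, .ofNat 210, .ofNat 0, .ofNat 330, .ofNat 0, .ofNat 135, .ofNat 460, .ofNat 0, .ofNat 0,
  .negSucc 1323, .ofNat 0, .negSucc 659, .ofNat 120, .ofNat 186, .ofNat 381, .ofNat 1024, .ofNat 80,
  .negSucc 819, .ofNat 0, .ofNat 0, .ofNat 0, .negSucc 278, .negSucc 434, .ofNat 0, .negSucc 629, .ofNat 180,
  .ofNat 135, .ofNat 360, .negSucc 110, .ofNat 0, .negSucc 1279, .negSucc 274, .ofNat 0, .ofNat 0,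
  .ofNat 1155, .ofNat 0, .negSucc 800, .negSucc 194, .ofNat 525, .negSucc 14, .negSucc 374, .ofNat 0,
  .negSucc 854, .ofNat 1100, .negSucc 379, .ofNat 105, .ofNat 75, .ofNat 180, .negSucc 104, .ofNat 230,
  .ofNat 190, .negSucc 29, .negSucc 64, .ofNat 245, .negSucc 54, .negSucc 990, .ofNat 80, .negSucc 154,
  .negSucc 148, .ofNat 585, .negSucc 54]

/-- the values at 8E -/
def col24 : List ℤ :=
  [.ofNat 1, .ofNat 3, .negSucc 3, .negSucc 1, .ofNat 12, .negSucc 0, .negSucc 21, .ofNat 14, .negSucc 16,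
  .ofNat 11, .ofNat 23, .ofNat 9, .negSucc 18, .ofNat 38, .ofNat 0, .ofNat 142, .negSucc 7, .negSucc 94,
  .ofNat 38, .negSucc 35, .ofNat 53, .ofNat 50, .negSucc 71, .ofNat 77, .negSucc 245, .negSucc 26,
  .ofNat 128, .ofNat 13, .negSucc 94, .ofNat 57, .ofNat 69, .ofNat 208, .negSucc 23, .negSucc 1, .negSucc 77,
  .ofNat 328, .ofNat 0, .ofNat 0, .negSucc 283, .ofNat 0, .ofNat 92, .negSucc 31, .ofNat 0, .ofNat 12,
  .negSucc 465, .ofNat 426, .negSucc 287, .negSucc 28, .ofNat 0, .ofNat 0, .ofNat 83, .ofNat 72, .ofNat 0,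
  .ofNat 192, .ofNat 216, .ofNat 236, .negSucc 105, .negSucc 279, .ofNat 52, .ofNat 1254, .negSucc 78,
  .ofNat 110, .negSucc 279, .negSucc 218, .ofNat 192, .ofNat 80, .negSucc 219, .ofNat 0, .negSucc 387,
  .negSucc 567, .ofNat 195, .ofNat 344, .ofNat 316, .ofNat 126, .negSucc 94, .ofNat 206, .ofNat 456,
  .negSucc 63, .ofNat 0, .ofNat 0, .negSucc 777, .ofNat 27, .ofNat 0, .ofNat 99, .negSucc 491, .negSucc 737,
  .ofNat 392, .ofNat 363, .negSucc 363, .ofNat 0, .negSucc 175, .ofNat 619, .ofNat 384, .negSucc 27,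
  .negSucc 311, .ofNat 0, .negSucc 535, .ofNat 0, .negSucc 38, .ofNat 0, .ofNat 0, .ofNat 0, .negSucc 394,
  .negSucc 283, .negSucc 511, .ofNat 258, .ofNat 252, .ofNat 0, .ofNat 136, .ofNat 0, .ofNat 0, .ofNat 442,
  .ofNat 0, .negSucc 365, .ofNat 0, .ofNat 519, .negSucc 339, .ofNat 0, .ofNat 0, .ofNat 148, .ofNat 0,
  .negSucc 51, .negSucc 503, .ofNat 18, .ofNat 45, .ofNat 0, .negSucc 207, .ofNat 404, .ofNat 0, .ofNat 0,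
  .ofNat 0, .ofNat 729, .negSucc 410, .ofNat 0, .ofNat 690, .ofNat 492, .ofNat 63, .ofNat 344, .negSucc 326,
  .ofNat 0, .ofNat 448, .negSucc 450, .ofNat 0, .ofNat 0, .negSucc 36, .ofNat 0, .ofNat 87, .negSucc 58,
  .ofNat 261, .ofNat 65, .ofNat 465, .ofNat 0, .negSucc 350, .ofNat 508, .negSucc 19, .negSucc 70,
  .negSucc 884, .ofNat 492, .negSucc 776, .ofNat 238, .negSucc 761, .ofNat 170, .ofNat 471, .ofNat 21,
  .ofNat 273, .ofNat 905, .ofNat 552, .negSucc 10, .ofNat 555, .negSucc 110, .ofNat 273]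

/-- the values at 8F -/
def col25 : List ℤ :=
  [.ofNat 1, .negSucc 0, .ofNat 0, .negSucc 5, .ofNat 0, .ofNat 7, .ofNat 6, .negSucc 5, .ofNat 27,
  .negSucc 20, .negSucc 20, .negSucc 6, .negSucc 6, .negSucc 5, .ofNat 0, .ofNat 14, .ofNat 0, .ofNat 21,
  .negSucc 13, .ofNat 56, .ofNat 21, .ofNat 6, .negSucc 55, .ofNat 57, .negSucc 125, .negSucc 26, .ofNat 0,
  .ofNat 21, .negSucc 34, .ofNat 21, .negSucc 6, .ofNat 48, .ofNat 0, .ofNat 42, .negSucc 41, .negSucc 55,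
  .ofNat 0, .ofNat 0, .negSucc 419, .ofNat 0, .negSucc 363, .ofNat 0, .ofNat 0, .ofNat 56, .ofNat 502,
  .negSucc 13, .ofNat 0, .negSucc 0, .ofNat 0, .ofNat 0, .negSucc 20, .negSucc 223, .ofNat 0, .ofNat 0,
  .ofNat 0, .ofNat 168, .ofNat 162, .negSucc 111, .ofNat 168, .negSucc 377, .negSucc 398, .ofNat 350,
  .negSucc 167, .ofNat 189, .ofNat 0, .ofNat 48, .negSucc 139, .ofNat 0, .negSucc 699, .ofNat 0,
  .negSucc 216, .ofNat 0, .negSucc 363, .negSucc 181, .negSucc 26, .negSucc 181, .ofNat 0, .ofNat 0,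
  .ofNat 0, .ofNat 0, .negSucc 377, .ofNat 351, .ofNat 0, .negSucc 168, .ofNat 252, .ofNat 126, .ofNat 224,
  .negSucc 188, .ofNat 140, .ofNat 0, .negSucc 47, .negSucc 356, .ofNat 0, .ofNat 168, .ofNat 0, .ofNat 0,
  .ofNat 0, .ofNat 0, .negSucc 98, .ofNat 0, .ofNat 0, .ofNat 0, .negSucc 370, .negSucc 83, .ofNat 0,
  .ofNat 126, .ofNat 168, .ofNat 0, .negSucc 167, .ofNat 0, .ofNat 0, .ofNat 182, .ofNat 0, .ofNat 126,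
  .ofNat 0, .ofNat 63, .ofNat 84, .ofNat 0, .ofNat 0, .ofNat 28, .ofNat 0, .negSucc 27, .ofNat 0,
  .negSucc 161, .ofNat 189, .ofNat 0, .ofNat 48, .ofNat 0, .ofNat 0, .ofNat 0, .ofNat 0, .ofNat 225,
  .negSucc 62, .ofNat 0, .ofNat 126, .ofNat 0, .negSucc 356, .negSucc 111, .ofNat 189, .ofNat 0, .ofNat 0,
  .negSucc 26, .ofNat 0, .ofNat 0, .ofNat 399, .ofNat 0, .negSucc 188, .ofNat 433, .negSucc 62, .negSucc 174,
  .ofNat 245, .ofNat 0, .ofNat 69, .ofNat 140, .negSucc 55, .ofNat 49, .negSucc 188, .ofNat 0, .ofNat 63,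
  .negSucc 181, .ofNat 106, .negSucc 209, .negSucc 188, .ofNat 189, .ofNat 133, .ofNat 77, .ofNat 140,
  .ofNat 133, .ofNat 259, .ofNat 133, .ofNat 133]

/-- the values at 9A -/
def col26 : List ℤ :=
  [.ofNat 1, .ofNat 26, .ofNat 59, .ofNat 130, .ofNat 194, .ofNat 266, .ofNat 339, .ofNat 714, .ofNat 729,
  .ofNat 923, .ofNat 351, .ofNat 672, .ofNat 559, .ofNat 398, .ofNat 1325, .negSucc 9, .ofNat 1313,
  .ofNat 1085, .ofNat 726, .ofNat 521, .ofNat 949, .ofNat 1235, .ofNat 792, .ofNat 221, .ofNat 0, .ofNat 729,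
  .ofNat 476, .ofNat 351, .negSucc 50, .negSucc 264, .negSucc 89, .ofNat 395, .negSucc 415, .negSucc 350,
  .ofNat 233, .negSucc 121, .ofNat 68, .negSucc 273, .ofNat 0, .negSucc 371, .negSucc 129, .negSucc 504,
  .negSucc 389, .negSucc 467, .ofNat 30, .negSucc 259, .ofNat 0, .negSucc 1324, .negSucc 19, .ofNat 660,
  .negSucc 728, .negSucc 528, .negSucc 674, .ofNat 351, .ofNat 0, .negSucc 1025, .ofNat 0, .negSucc 220,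
  .ofNat 5, .ofNat 0, .ofNat 432, .ofNat 410, .ofNat 7, .ofNat 0, .ofNat 0, .ofNat 945, .negSucc 74,
  .ofNat 48, .negSucc 659, .negSucc 589, .negSucc 369, .negSucc 359, .negSucc 69, .negSucc 539, .ofNat 0,
  .negSucc 545, .ofNat 957, .negSucc 344, .ofNat 240, .negSucc 215, .ofNat 0, .ofNat 0, .ofNat 512,
  .negSucc 350, .ofNat 0, .ofNat 0, .negSucc 217, .ofNat 729, .ofNat 1985, .negSucc 213, .ofNat 0,
  .negSucc 674, .ofNat 0, .negSucc 671, .ofNat 729, .negSucc 913, .negSucc 728, .ofNat 725, .ofNat 0,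
  .negSucc 399, .negSucc 799, .ofNat 450, .negSucc 359, .negSucc 1299, .negSucc 1010, .ofNat 0, .ofNat 17,
  .ofNat 1256, .negSucc 568, .ofNat 272, .ofNat 170, .negSucc 844, .ofNat 856, .ofNat 0, .negSucc 1328,
  .ofNat 0, .negSucc 1168, .negSucc 203, .negSucc 1025, .negSucc 1225, .ofNat 40, .ofNat 405, .ofNat 729,
  .ofNat 0, .ofNat 0, .negSucc 320, .ofNat 0, .negSucc 899, .ofNat 884, .ofNat 814, .ofNat 1520, .ofNat 0,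
  .ofNat 0, .negSucc 749, .ofNat 0, .ofNat 0, .ofNat 840, .negSucc 749, .ofNat 0, .ofNat 0, .negSucc 69,
  .ofNat 0, .ofNat 40, .ofNat 729, .ofNat 0, .negSucc 359, .ofNat 0, .negSucc 279, .ofNat 0, .ofNat 405,
  .ofNat 405, .ofNat 896, .ofNat 0, .negSucc 934, .negSucc 609, .negSucc 1329, .ofNat 0, .ofNat 0, .ofNat 0,
  .ofNat 401, .negSucc 449, .ofNat 729, .ofNat 0, .ofNat 243, .ofNat 351, .ofNat 756, .negSucc 458,
  .negSucc 188, .ofNat 297, .negSucc 134, .negSucc 539]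

/-- the values at 9B -/
def col27 : List ℤ :=
  [.ofNat 1, .negSucc 0, .ofNat 5, .negSucc 4, .ofNat 5, .negSucc 3, .negSucc 11, .ofNat 12, .ofNat 0,
  .ofNat 5, .ofNat 27, .negSucc 2, .ofNat 19, .ofNat 20, .negSucc 24, .ofNat 44, .negSucc 9, .ofNat 5,
  .negSucc 29, .ofNat 8, .ofNat 4, .ofNat 20, .negSucc 17, .negSucc 48, .ofNat 0, .ofNat 0, .negSucc 9,
  .ofNat 27, .ofNat 57, .negSucc 48, .ofNat 72, .negSucc 9, .negSucc 37, .negSucc 26, .negSucc 9, .ofNat 94,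
  .negSucc 147, .negSucc 57, .ofNat 0, .ofNat 6, .negSucc 21, .negSucc 45, .ofNat 150, .negSucc 62,
  .negSucc 347, .negSucc 43, .ofNat 0, .ofNat 52, .ofNat 142, .ofNat 39, .ofNat 0, .ofNat 38, .ofNat 135,
  .ofNat 189, .ofNat 0, .negSucc 134, .ofNat 0, .ofNat 211, .ofNat 221, .ofNat 0, .negSucc 53, .negSucc 453,
  .negSucc 19, .ofNat 0, .ofNat 0, .ofNat 135, .negSucc 101, .ofNat 480, .negSucc 281, .ofNat 220,
  .ofNat 278, .negSucc 35, .ofNat 470, .ofNat 189, .ofNat 0, .negSucc 32, .negSucc 149, .negSucc 128,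
  .negSucc 110, .ofNat 108, .ofNat 0, .ofNat 0, .negSucc 351, .ofNat 297, .ofNat 0, .ofNat 0, .negSucc 1,
  .ofNat 0, .ofNat 14, .ofNat 110, .ofNat 0, .negSucc 107, .ofNat 0, .negSucc 239, .ofNat 0, .ofNat 4,
  .ofNat 0, .negSucc 192, .ofNat 0, .negSucc 183, .negSucc 367, .ofNat 45, .negSucc 197, .negSucc 219,
  .negSucc 65, .ofNat 0, .ofNat 152, .ofNat 176, .negSucc 109, .ofNat 272, .ofNat 62, .ofNat 127, .negSucc 7,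
  .ofNat 0, .ofNat 156, .ofNat 0, .ofNat 154, .ofNat 66, .ofNat 108, .negSucc 10, .negSucc 67, .ofNat 162,
  .ofNat 0, .ofNat 0, .ofNat 0, .ofNat 111, .ofNat 0, .negSucc 170, .ofNat 74, .negSucc 130, .ofNat 116,
  .ofNat 0, .ofNat 0, .ofNat 195, .ofNat 0, .ofNat 0, .negSucc 104, .negSucc 209, .ofNat 0, .ofNat 0,
  .ofNat 281, .ofNat 0, .negSucc 175, .ofNat 0, .ofNat 0, .negSucc 359, .ofNat 0, .ofNat 125, .ofNat 0,
  .ofNat 405, .ofNat 405, .negSucc 183, .ofNat 0, .negSucc 124, .ofNat 38, .negSucc 87, .ofNat 0, .ofNat 0,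
  .ofNat 0, .ofNat 50, .ofNat 279, .ofNat 0, .ofNat 0, .ofNat 162, .ofNat 189, .negSucc 134, .ofNat 270,
  .ofNat 54, .negSucc 350, .ofNat 27, .ofNat 351]

/-- the values at 10A -/
def col28 : List ℤ :=
  [.ofNat 1, .ofNat 21, .ofNat 34, .ofNat 99, .ofNat 166, .ofNat 120, .ofNat 175, .ofNat 265, .ofNat 484,
  .ofNat 715, .negSucc 54, .negSucc 153, .negSucc 285, .ofNat 945, .ofNat 496, .ofNat 0, .ofNat 560,
  .ofNat 505, .negSucc 364, .ofNat 1925, .negSucc 1484, .ofNat 1365, .ofNat 519, .negSucc 1099, .negSucc 197,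
  .ofNat 1650, .ofNat 3190, .negSucc 1474, .negSucc 3199, .negSucc 2694, .negSucc 999, .ofNat 3565,
  .negSucc 999, .negSucc 1749, .ofNat 3760, .ofNat 462, .ofNat 112, .ofNat 616, .ofNat 378, .negSucc 679,
  .ofNat 0, .negSucc 3499, .ofNat 880, .ofNat 715, .ofNat 0, .ofNat 0, .ofNat 3850, .negSucc 4674, .ofNat 0,
  .ofNat 6336, .negSucc 594, .ofNat 2100, .negSucc 4719, .ofNat 1904, .ofNat 230, .negSucc 3024, .ofNat 6270,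
  .ofNat 1155, .ofNat 0, .ofNat 0, .ofNat 560, .ofNat 0, .negSucc 3024, .negSucc 559, .negSucc 789,
  .ofNat 3575, .ofNat 1870, .ofNat 0, .ofNat 0, .ofNat 0, .ofNat 0, .ofNat 1386, .negSucc 3499, .ofNat 3500,
  .negSucc 4849, .negSucc 1749, .ofNat 5390, .negSucc 229, .negSucc 439, .negSucc 999, .ofNat 1890,
  .negSucc 3134, .ofNat 0, .negSucc 1924, .negSucc 3959, .negSucc 4157, .ofNat 924, .ofNat 275, .ofNat 0,
  .ofNat 5544, .ofNat 2079, .ofNat 0, .negSucc 1023, .ofNat 3640, .negSucc 2848, .ofNat 1000, .ofNat 1000,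
  .negSucc 2639, .ofNat 0, .ofNat 2816, .negSucc 5631, .ofNat 2464, .ofNat 0, .ofNat 0, .negSucc 999,
  .negSucc 4114, .ofNat 385, .ofNat 384, .ofNat 1750, .ofNat 1232, .negSucc 5599, .ofNat 0, .ofNat 3200,
  .ofNat 1420, .ofNat 176, .negSucc 2694, .ofNat 6600, .negSucc 3199, .ofNat 5720, .ofNat 3465, .ofNat 0,
  .negSucc 2694, .negSucc 6774, .negSucc 659, .negSucc 3794, .negSucc 439, .negSucc 174, .ofNat 0,
  .ofNat 1176, .ofNat 2080, .ofNat 0, .ofNat 2871, .ofNat 3575, .ofNat 0, .ofNat 2871, .negSucc 3365,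
  .ofNat 0, .ofNat 4675, .ofNat 90, .ofNat 936, .ofNat 0, .negSucc 3344, .ofNat 384, .negSucc 1519,
  .ofNat 3024, .ofNat 3200, .negSucc 1385, .ofNat 0, .negSucc 3399, .ofNat 231, .negSucc 1000, .negSucc 3583,
  .ofNat 0, .ofNat 0, .ofNat 1100, .ofNat 0, .ofNat 2640, .negSucc 2429, .ofNat 175, .ofNat 1750, .ofNat 0,
  .negSucc 1749, .negSucc 1274, .negSucc 153, .ofNat 3234, .negSucc 769, .ofNat 770, .ofNat 770,
  .negSucc 329, .ofNat 2640, .ofNat 770]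

/-- the values at 10B -/
def col29 : List ℤ :=
  [.ofNat 1, .ofNat 5, .negSucc 13, .ofNat 19, .ofNat 54, .negSucc 39, .ofNat 15, .negSucc 54, .ofNat 116,
  .negSucc 4, .ofNat 201, .negSucc 105, .negSucc 109, .ofNat 145, .ofNat 16, .ofNat 0, .negSucc 175,
  .ofNat 105, .ofNat 275, .ofNat 325, .ofNat 195, .negSucc 474, .ofNat 135, .negSucc 219, .ofNat 90,
  .ofNat 50, .ofNat 230, .negSucc 274, .ofNat 0, .ofNat 249, .ofNat 504, .ofNat 445, .ofNat 600,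
  .negSucc 549, .negSucc 239, .negSucc 369, .ofNat 240, .negSucc 343, .negSucc 101, .ofNat 280, .ofNat 128,
  .ofNat 500, .negSucc 783, .ofNat 91, .ofNat 0, .ofNat 0, .ofNat 154, .negSucc 274, .ofNat 0, .negSucc 255,
  .ofNat 285, .ofNat 100, .ofNat 240, .negSucc 239, .ofNat 630, .negSucc 224, .negSucc 129, .negSucc 44,
  .ofNat 0, .ofNat 0, .negSucc 79, .ofNat 0, .ofNat 335, .ofNat 240, .negSucc 389, .ofNat 375, .negSucc 289,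
  .negSucc 511, .ofNat 0, .ofNat 0, .ofNat 0, .negSucc 485, .ofNat 500, .negSucc 499, .negSucc 49,
  .negSucc 549, .negSucc 353, .negSucc 629, .ofNat 40, .ofNat 600, .negSucc 221, .ofNat 321, .ofNat 0,
  .negSucc 324, .ofNat 360, .ofNat 450, .negSucc 19, .ofNat 995, .ofNat 0, .negSucc 535, .ofNat 399,
  .ofNat 0, .ofNat 320, .ofNat 440, .negSucc 320, .negSucc 599, .negSucc 599, .ofNat 80, .ofNat 0, .ofNat 0,
  .ofNat 0, .ofNat 416, .ofNat 0, .ofNat 0, .ofNat 600, .ofNat 285, .negSucc 94, .ofNat 0, .ofNat 550,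
  .ofNat 592, .ofNat 416, .ofNat 0, .ofNat 0, .negSucc 803, .ofNat 80, .negSucc 518, .ofNat 600,
  .negSucc 255, .negSucc 359, .negSucc 438, .ofNat 0, .ofNat 489, .negSucc 374, .ofNat 60, .ofNat 381,
  .ofNat 136, .ofNat 225, .ofNat 0, .ofNat 600, .ofNat 160, .negSucc 1023, .negSucc 8, .ofNat 375, .ofNat 0,
  .negSucc 8, .negSucc 629, .ofNat 0, .ofNat 275, .negSucc 533, .ofNat 360, .ofNat 0, .negSucc 304, .ofNat 0,
  .negSucc 79, .negSucc 143, .ofNat 0, .ofNat 486, .ofNat 0, .negSucc 599, .negSucc 184, .ofNat 455,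
  .ofNat 0, .ofNat 0, .ofNat 0, .negSucc 99, .ofNat 0, .negSucc 335, .negSucc 269, .negSucc 224, .ofNat 550,
  .ofNat 0, .negSucc 549, .ofNat 325, .negSucc 425, .ofNat 66, .negSucc 369, .negSucc 29, .negSucc 29,
  .negSucc 249, .ofNat 800, .negSucc 29]

/-- the values at 10C -/
def col30 : List ℤ :=
  [.ofNat 1, .negSucc 3, .ofNat 9, .negSucc 0, .ofNat 16, .negSucc 4, .negSucc 24, .negSucc 9, .ofNat 34,
  .negSucc 9, .ofNat 20, .ofNat 46, .negSucc 10, .negSucc 54, .negSucc 3, .ofNat 0, .negSucc 39, .ofNat 80,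
  .negSucc 114, .ofNat 0, .negSucc 9, .ofNat 90, .negSucc 105, .negSucc 99, .negSucc 47, .ofNat 0, .ofNat 40,
  .ofNat 0, .ofNat 0, .ofNat 130, .ofNat 150, .ofNat 190, .ofNat 0, .ofNat 0, .negSucc 14, .negSucc 137,
  .negSucc 287, .ofNat 216, .ofNat 278, .ofNat 120, .ofNat 50, .ofNat 0, .ofNat 80, .negSucc 184, .ofNat 0,
  .ofNat 0, .negSucc 399, .ofNat 0, .ofNat 500, .negSucc 313, .ofNat 105, .ofNat 0, .negSucc 419, .ofNat 154,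
  .ofNat 30, .ofNat 0, .ofNat 220, .negSucc 294, .ofNat 0, .ofNat 0, .ofNat 460, .ofNat 0, .ofNat 250,
  .negSucc 134, .negSucc 164, .ofNat 0, .ofNat 520, .ofNat 0, .ofNat 0, .ofNat 0, .ofNat 375, .ofNat 61,
  .ofNat 0, .ofNat 0, .ofNat 0, .ofNat 0, .negSucc 359, .negSucc 804, .ofNat 485, .ofNat 0, .negSucc 459,
  .ofNat 240, .ofNat 0, .ofNat 0, .ofNat 240, .ofNat 192, .negSucc 350, .negSucc 124, .ofNat 0, .negSucc 55,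
  .negSucc 620, .ofNat 0, .negSucc 598, .ofNat 165, .negSucc 423, .ofNat 0, .ofNat 0, .ofNat 610,
  .negSucc 374, .negSucc 383, .ofNat 768, .negSucc 635, .ofNat 0, .ofNat 0, .ofNat 0, .negSucc 389,
  .ofNat 285, .ofNat 384, .ofNat 0, .negSucc 1167, .ofNat 1000, .negSucc 249, .ofNat 0, .ofNat 270,
  .negSucc 23, .negSucc 119, .ofNat 0, .ofNat 400, .ofNat 520, .ofNat 215, .ofNat 0, .ofNat 80, .ofNat 0,
  .negSucc 584, .negSucc 344, .ofNat 485, .ofNat 0, .ofNat 0, .ofNat 576, .ofNat 580, .ofNat 0, .ofNat 621,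
  .ofNat 0, .ofNat 0, .ofNat 246, .negSucc 215, .ofNat 0, .ofNat 0, .negSucc 284, .ofNat 336, .ofNat 0,
  .negSucc 469, .ofNat 384, .negSucc 69, .negSucc 325, .ofNat 0, .negSucc 860, .ofNat 0, .ofNat 0, .ofNat 6,
  .negSucc 125, .negSucc 383, .ofNat 500, .ofNat 0, .ofNat 0, .ofNat 0, .ofNat 90, .ofNat 120, .ofNat 0,
  .ofNat 0, .ofNat 0, .ofNat 0, .ofNat 0, .ofNat 246, .ofNat 84, .ofNat 155, .ofNat 70, .ofNat 70,
  .negSucc 204, .ofNat 140, .ofNat 70]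

/-- the values at 10D -/
def col31 : List ℤ :=
  [.ofNat 1, .ofNat 20, .ofNat 41, .ofNat 79, .ofNat 104, .ofNat 155, .ofNat 175, .ofNat 350, .ofNat 306,
  .ofNat 350, .ofNat 156, .ofNat 294, .ofNat 245, .ofNat 65, .ofNat 476, .ofNat 0, .ofNat 384, .ofNat 280,
  .ofNat 245, .ofNat 0, .ofNat 350, .ofNat 170, .ofNat 70, .ofNat 20, .ofNat 0, .ofNat 0, .negSucc 239,
  .ofNat 0, .ofNat 0, .ofNat 154, .ofNat 14, .negSucc 209, .ofNat 0, .ofNat 0, .negSucc 454, .ofNat 70,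
  .ofNat 0, .negSucc 103, .negSucc 41, .negSucc 279, .ofNat 98, .ofNat 0, .ofNat 96, .negSucc 328, .ofNat 0,
  .ofNat 0, .negSucc 335, .ofNat 0, .ofNat 100, .negSucc 225, .ofNat 105, .ofNat 0, .ofNat 300, .negSucc 349,
  .negSucc 89, .ofNat 0, .negSucc 179, .negSucc 14, .ofNat 0, .ofNat 0, .negSucc 139, .ofNat 0, .negSucc 69,
  .ofNat 225, .ofNat 315, .ofNat 0, .ofNat 280, .ofNat 128, .ofNat 0, .ofNat 0, .ofNat 175, .ofNat 189,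
  .ofNat 0, .ofNat 0, .ofNat 0, .ofNat 0, .negSucc 223, .ofNat 315, .ofNat 245, .ofNat 0, .negSucc 251,
  .ofNat 216, .ofNat 0, .ofNat 0, .ofNat 0, .ofNat 0, .ofNat 105, .ofNat 195, .ofNat 0, .ofNat 504,
  .negSucc 20, .ofNat 0, .ofNat 225, .ofNat 245, .negSucc 335, .ofNat 0, .ofNat 0, .negSucc 69, .ofNat 225,
  .ofNat 0, .ofNat 0, .ofNat 196, .ofNat 0, .ofNat 0, .ofNat 0, .negSucc 629, .negSucc 34, .ofNat 0,
  .ofNat 0, .ofNat 112, .ofNat 56, .ofNat 350, .ofNat 0, .ofNat 126, .ofNat 280, .negSucc 503, .ofNat 0,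
  .negSucc 175, .ofNat 120, .ofNat 511, .ofNat 0, .negSucc 335, .ofNat 0, .ofNat 135, .ofNat 351, .ofNat 301,
  .ofNat 0, .ofNat 0, .ofNat 0, .negSucc 139, .negSucc 383, .negSucc 98, .ofNat 0, .ofNat 0, .ofNat 126,
  .ofNat 0, .ofNat 0, .ofNat 0, .negSucc 188, .ofNat 0, .ofNat 0, .ofNat 90, .ofNat 0, .ofNat 210,
  .negSucc 293, .ofNat 0, .negSucc 188, .ofNat 0, .ofNat 0, .negSucc 209, .ofNat 210, .ofNat 0, .negSucc 299,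
  .ofNat 0, .ofNat 0, .ofNat 0, .ofNat 594, .ofNat 0, .ofNat 0, .ofNat 0, .ofNat 0, .ofNat 0, .ofNat 0,
  .negSucc 105, .negSucc 43, .negSucc 84, .negSucc 49, .negSucc 49, .ofNat 195, .negSucc 259, .negSucc 49]

/-- the values at 10E -/
def col32 : List ℤ :=
  [.ofNat 1, .ofNat 0, .ofNat 1, .negSucc 0, .ofNat 4, .negSucc 4, .negSucc 4, .ofNat 10, .negSucc 13,
  .ofNat 10, .ofNat 16, .negSucc 5, .ofNat 5, .ofNat 5, .negSucc 3, .ofNat 0, .ofNat 4, .negSucc 19,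
  .negSucc 14, .ofNat 0, .ofNat 10, .ofNat 10, .negSucc 9, .ofNat 0, .ofNat 120, .ofNat 0, .ofNat 20,
  .ofNat 0, .ofNat 0, .ofNat 14, .ofNat 34, .ofNat 30, .ofNat 0, .ofNat 0, .negSucc 34, .negSucc 49,
  .negSucc 79, .negSucc 23, .negSucc 121, .ofNat 0, .ofNat 138, .ofNat 0, .ofNat 56, .ofNat 31, .ofNat 0,
  .ofNat 0, .negSucc 15, .ofNat 0, .negSucc 99, .ofNat 34, .negSucc 54, .ofNat 0, .ofNat 20, .ofNat 30,
  .negSucc 29, .ofNat 0, .ofNat 20, .ofNat 45, .ofNat 0, .ofNat 0, .ofNat 40, .ofNat 0, .negSucc 29,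
  .ofNat 45, .ofNat 75, .ofNat 0, .negSucc 79, .negSucc 191, .ofNat 0, .ofNat 0, .ofNat 75, .negSucc 10,
  .ofNat 0, .ofNat 0, .ofNat 0, .ofNat 0, .ofNat 36, .negSucc 44, .ofNat 5, .ofNat 0, .ofNat 188, .ofNat 156,
  .ofNat 0, .ofNat 0, .negSucc 119, .ofNat 0, .ofNat 5, .negSucc 4, .ofNat 0, .negSucc 15, .ofNat 39,
  .ofNat 0, .negSucc 114, .ofNat 5, .negSucc 115, .ofNat 0, .ofNat 0, .ofNat 30, .negSucc 74, .ofNat 0,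
  .ofNat 0, .negSucc 43, .ofNat 0, .ofNat 0, .ofNat 0, .ofNat 90, .negSucc 114, .ofNat 0, .ofNat 0,
  .negSucc 47, .negSucc 63, .ofNat 50, .ofNat 0, .negSucc 113, .ofNat 80, .negSucc 23, .ofNat 0, .negSucc 15,
  .ofNat 80, .ofNat 11, .ofNat 0, .ofNat 64, .ofNat 0, .ofNat 135, .ofNat 291, .negSucc 118, .ofNat 0,
  .ofNat 0, .ofNat 0, .ofNat 60, .ofNat 96, .ofNat 21, .ofNat 0, .ofNat 0, .negSucc 53, .ofNat 60, .ofNat 0,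
  .ofNat 0, .ofNat 51, .negSucc 119, .ofNat 0, .negSucc 69, .ofNat 0, .negSucc 9, .negSucc 93, .ofNat 0,
  .negSucc 188, .ofNat 0, .ofNat 0, .ofNat 90, .negSucc 29, .ofNat 0, .ofNat 100, .ofNat 0, .ofNat 0,
  .ofNat 0, .ofNat 54, .negSucc 59, .ofNat 0, .ofNat 0, .ofNat 0, .ofNat 0, .ofNat 0, .negSucc 65, .ofNat 36,
  .ofNat 35, .ofNat 10, .ofNat 10, .ofNat 35, .ofNat 20, .ofNat 10]

/-- the values at 11A -/
def col33 : List ℤ :=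
  [.ofNat 1, .ofNat 16, .ofNat 29, .ofNat 53, .ofNat 66, .ofNat 91, .ofNat 99, .ofNat 176, .ofNat 145,
  .ofNat 173, .ofNat 55, .ofNat 110, .ofNat 55, .ofNat 61, .ofNat 176, .ofNat 0, .ofNat 136, .ofNat 99,
  .ofNat 22, .ofNat 25, .negSucc 16, .ofNat 66, .negSucc 21, .ofNat 0, .ofNat 0, .negSucc 54, .ofNat 55,
  .negSucc 65, .negSucc 118, .negSucc 127, .negSucc 98, .ofNat 29, .negSucc 68, .negSucc 175, .ofNat 22,
  .ofNat 0, .negSucc 21, .negSucc 109, .negSucc 29, .negSucc 21, .ofNat 0, .ofNat 22, .ofNat 0, .ofNat 0,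
  .ofNat 0, .ofNat 0, .ofNat 110, .negSucc 54, .ofNat 0, .ofNat 0, .negSucc 128, .negSucc 0, .negSucc 175,
  .ofNat 176, .ofNat 99, .ofNat 55, .ofNat 75, .ofNat 0, .negSucc 54, .negSucc 89, .negSucc 103, .ofNat 0,
  .ofNat 120, .ofNat 9, .negSucc 134, .ofNat 0, .ofNat 0, .ofNat 0, .ofNat 0, .ofNat 0, .ofNat 55, .ofNat 0,
  .ofNat 32, .ofNat 38, .ofNat 66, .ofNat 189, .ofNat 0, .negSucc 98, .negSucc 69, .ofNat 176, .negSucc 131,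
  .ofNat 0, .ofNat 0, .ofNat 0, .ofNat 0, .ofNat 0, .ofNat 0, .ofNat 0, .negSucc 54, .negSucc 127, .ofNat 0,
  .negSucc 54, .negSucc 65, .negSucc 65, .ofNat 55, .ofNat 74, .ofNat 99, .ofNat 0, .ofNat 0, .ofNat 0,
  .ofNat 0, .ofNat 0, .ofNat 0, .ofNat 0, .ofNat 66, .ofNat 144, .ofNat 0, .negSucc 175, .ofNat 66,
  .negSucc 109, .negSucc 65, .ofNat 0, .negSucc 175, .negSucc 98, .ofNat 0, .ofNat 0, .ofNat 0, .ofNat 176,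
  .ofNat 0, .ofNat 0, .ofNat 120, .ofNat 0, .negSucc 98, .ofNat 0, .ofNat 0, .ofNat 0, .ofNat 176, .ofNat 0,
  .negSucc 175, .negSucc 135, .negSucc 7, .ofNat 0, .ofNat 0, .negSucc 69, .ofNat 0, .ofNat 0, .ofNat 0,
  .ofNat 0, .negSucc 89, .ofNat 54, .ofNat 0, .ofNat 99, .ofNat 16, .negSucc 29, .negSucc 173, .ofNat 16,
  .ofNat 0, .ofNat 0, .ofNat 99, .ofNat 0, .ofNat 0, .negSucc 159, .ofNat 0, .ofNat 190, .ofNat 0, .ofNat 0,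
  .ofNat 0, .ofNat 54, .ofNat 144, .negSucc 98, .ofNat 0, .negSucc 45, .negSucc 23, .ofNat 0, .negSucc 109,
  .ofNat 0, .ofNat 110, .ofNat 0, .ofNat 0, .ofNat 0, .ofNat 0]

/-- the values at 12A -/
def col34 : List ℤ :=
  [.ofNat 1, .ofNat 14, .ofNat 17, .ofNat 40, .ofNat 50, .ofNat 74, .ofNat 14, .ofNat 79, .ofNat 138,
  .ofNat 134, .negSucc 135, .negSucc 1, .ofNat 269, .ofNat 101, .ofNat 56, .ofNat 10, .negSucc 86,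
  .negSucc 259, .ofNat 79, .ofNat 314, .ofNat 115, .ofNat 41, .negSucc 66, .negSucc 915, .ofNat 0,
  .ofNat 660, .negSucc 287, .ofNat 125, .ofNat 155, .ofNat 1096, .negSucc 916, .ofNat 1158, .negSucc 466,
  .ofNat 721, .negSucc 535, .ofNat 142, .negSucc 255, .ofNat 512, .ofNat 0, .ofNat 0, .ofNat 302, .ofNat 262,
  .negSucc 511, .negSucc 70, .ofNat 310, .ofNat 140, .negSucc 557, .negSucc 939, .negSucc 639, .ofNat 1240,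
  .ofNat 1284, .ofNat 339, .ofNat 1504, .negSucc 69, .negSucc 1484, .negSucc 1119, .ofNat 351, .ofNat 773,
  .ofNat 185, .negSucc 809, .ofNat 554, .negSucc 69, .ofNat 725, .negSucc 620, .ofNat 1674, .negSucc 385,
  .ofNat 692, .ofNat 0, .ofNat 190, .ofNat 170, .ofNat 830, .ofNat 243, .ofNat 272, .ofNat 398, .ofNat 1665,
  .negSucc 2378, .ofNat 1803, .negSucc 185, .ofNat 696, .negSucc 1791, .ofNat 0, .ofNat 243, .ofNat 0,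
  .ofNat 1441, .ofNat 0, .ofNat 0, .ofNat 2631, .negSucc 446, .ofNat 1530, .negSucc 1279, .ofNat 0,
  .negSucc 454, .ofNat 1656, .ofNat 324, .ofNat 1425, .ofNat 512, .negSucc 2522, .ofNat 176, .ofNat 0,
  .ofNat 0, .ofNat 0, .negSucc 1407, .ofNat 120, .ofNat 400, .ofNat 248, .negSucc 620, .negSucc 82, .ofNat 0,
  .ofNat 869, .negSucc 1279, .ofNat 768, .negSucc 684, .ofNat 0, .negSucc 620, .ofNat 96, .negSucc 431,
  .negSucc 700, .ofNat 0, .ofNat 1280, .ofNat 751, .ofNat 0, .ofNat 1030, .negSucc 1058, .ofNat 243,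
  .negSucc 242, .ofNat 408, .ofNat 2160, .ofNat 1100, .negSucc 1791, .negSucc 1407, .ofNat 0, .ofNat 0,
  .ofNat 1674, .negSucc 1399, .ofNat 0, .ofNat 0, .ofNat 555, .negSucc 834, .negSucc 1052, .ofNat 0,
  .negSucc 849, .negSucc 350, .ofNat 0, .negSucc 1175, .ofNat 0, .ofNat 0, .ofNat 0, .negSucc 704,
  .ofNat 621, .negSucc 514, .negSucc 514, .ofNat 0, .ofNat 0, .ofNat 690, .negSucc 113, .ofNat 370,
  .negSucc 2105, .ofNat 0, .ofNat 1485, .negSucc 1200, .ofNat 1615, .ofNat 1326, .negSucc 350, .ofNat 129,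
  .ofNat 1964, .negSucc 1124, .ofNat 2396, .ofNat 121, .ofNat 1115, .ofNat 1128, .ofNat 716]

/-- the values at 12B -/
def col35 : List ℤ :=
  [.ofNat 1, .ofNat 5, .negSucc 9, .negSucc 4, .ofNat 14, .ofNat 20, .negSucc 30, .negSucc 28, .ofNat 66,
  .negSucc 54, .negSucc 0, .ofNat 70, .ofNat 80, .ofNat 101, .negSucc 15, .negSucc 79, .ofNat 30,
  .negSucc 178, .negSucc 109, .ofNat 170, .ofNat 16, .negSucc 30, .ofNat 284, .ofNat 65, .ofNat 0,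
  .negSucc 59, .negSucc 179, .negSucc 144, .ofNat 245, .ofNat 34, .negSucc 169, .ofNat 285, .negSucc 79,
  .ofNat 100, .ofNat 76, .negSucc 73, .negSucc 255, .negSucc 639, .ofNat 162, .ofNat 0, .ofNat 716,
  .ofNat 190, .ofNat 640, .ofNat 334, .ofNat 130, .negSucc 399, .negSucc 233, .negSucc 444, .negSucc 351,
  .negSucc 415, .ofNat 141, .ofNat 465, .negSucc 223, .negSucc 213, .ofNat 0, .ofNat 275, .ofNat 594,
  .negSucc 90, .negSucc 444, .ofNat 0, .ofNat 41, .negSucc 69, .negSucc 210, .ofNat 0, .ofNat 0,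
  .negSucc 574, .ofNat 350, .ofNat 0, .ofNat 550, .ofNat 800, .ofNat 101, .ofNat 0, .negSucc 159, .ofNat 110,
  .negSucc 359, .ofNat 240, .negSucc 509, .ofNat 84, .ofNat 12, .negSucc 639, .negSucc 647, .ofNat 0,
  .ofNat 0, .ofNat 280, .ofNat 0, .ofNat 0, .negSucc 32, .ofNat 534, .ofNat 450, .negSucc 1279, .negSucc 80,
  .ofNat 1075, .negSucc 125, .ofNat 81, .ofNat 300, .negSucc 639, .ofNat 60, .ofNat 1112, .ofNat 0, .ofNat 0,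
  .ofNat 0, .negSucc 255, .negSucc 239, .ofNat 400, .ofNat 140, .ofNat 0, .negSucc 208, .ofNat 0,
  .negSucc 984, .ofNat 1024, .negSucc 383, .ofNat 1070, .ofNat 0, .ofNat 0, .negSucc 479, .ofNat 0,
  .ofNat 10, .ofNat 0, .ofNat 1280, .negSucc 184, .ofNat 0, .negSucc 382, .negSucc 239, .ofNat 0, .ofNat 0,
  .negSucc 131, .ofNat 135, .negSucc 429, .negSucc 639, .negSucc 255, .ofNat 0, .ofNat 0, .ofNat 0,
  .ofNat 40, .ofNat 0, .ofNat 0, .ofNat 645, .negSucc 564, .ofNat 0, .ofNat 0, .negSucc 129, .ofNat 54,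
  .ofNat 0, .ofNat 696, .ofNat 729, .ofNat 0, .ofNat 0, .ofNat 465, .ofNat 0, .negSucc 19, .negSucc 19,
  .ofNat 0, .negSucc 323, .negSucc 389, .ofNat 570, .negSucc 799, .ofNat 0, .ofNat 0, .ofNat 0, .ofNat 230,
  .negSucc 319, .negSucc 1094, .ofNat 540, .ofNat 1254, .ofNat 578, .ofNat 90, .ofNat 614, .ofNat 364,
  .ofNat 584, .ofNat 948, .ofNat 554]

/-- the values at 12C -/
def col36 : List ℤ :=
  [.ofNat 1, .ofNat 6, .negSucc 6, .ofNat 8, .ofNat 42, .negSucc 13, .ofNat 14, .negSucc 48, .ofNat 34,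
  .ofNat 14, .ofNat 56, .negSucc 41, .negSucc 82, .ofNat 141, .ofNat 56, .negSucc 69, .negSucc 54, .ofNat 76,
  .negSucc 48, .ofNat 98, .ofNat 35, .negSucc 238, .ofNat 85, .negSucc 35, .ofNat 0, .ofNat 76, .negSucc 47,
  .ofNat 77, .negSucc 76, .negSucc 183, .ofNat 211, .ofNat 510, .ofNat 245, .negSucc 166, .ofNat 56,
  .ofNat 238, .ofNat 0, .ofNat 0, .ofNat 0, .ofNat 0, .negSucc 417, .ofNat 78, .ofNat 0, .negSucc 350,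
  .negSucc 249, .negSucc 419, .ofNat 378, .negSucc 139, .ofNat 0, .negSucc 551, .negSucc 123, .negSucc 148,
  .ofNat 608, .negSucc 237, .ofNat 27, .ofNat 336, .ofNat 279, .negSucc 34, .ofNat 505, .negSucc 809,
  .ofNat 714, .ofNat 170, .ofNat 253, .negSucc 188, .ofNat 594, .ofNat 134, .negSucc 139, .ofNat 0,
  .negSucc 209, .ofNat 490, .ofNat 630, .ofNat 203, .negSucc 111, .ofNat 22, .negSucc 62, .negSucc 266,
  .negSucc 132, .ofNat 14, .negSucc 503, .ofNat 0, .ofNat 0, .negSucc 404, .ofNat 0, .negSucc 502, .ofNat 0,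
  .ofNat 0, .ofNat 399, .ofNat 601, .ofNat 50, .ofNat 0, .ofNat 0, .ofNat 785, .negSucc 503, .ofNat 84,
  .ofNat 385, .ofNat 0, .ofNat 365, .negSucc 783, .ofNat 0, .negSucc 1023, .ofNat 0, .ofNat 0, .negSucc 279,
  .negSucc 559, .ofNat 120, .negSucc 188, .ofNat 133, .negSucc 511, .negSucc 202, .ofNat 0, .ofNat 0,
  .negSucc 244, .ofNat 512, .negSucc 188, .negSucc 607, .ofNat 432, .negSucc 356, .ofNat 0, .ofNat 0,
  .ofNat 511, .ofNat 0, .negSucc 657, .ofNat 349, .negSucc 404, .ofNat 405, .negSucc 279, .ofNat 672,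
  .negSucc 419, .ofNat 0, .ofNat 0, .ofNat 0, .ofNat 0, .ofNat 594, .ofNat 840, .ofNat 0, .ofNat 0,
  .negSucc 524, .negSucc 34, .negSucc 404, .ofNat 0, .negSucc 1049, .negSucc 278, .negSucc 511, .ofNat 232,
  .ofNat 0, .ofNat 512, .ofNat 0, .negSucc 384, .ofNat 189, .ofNat 581, .ofNat 77, .ofNat 0, .ofNat 0,
  .ofNat 490, .ofNat 6, .ofNat 490, .negSucc 161, .ofNat 0, .negSucc 26, .ofNat 7, .negSucc 224, .ofNat 238,
  .negSucc 278, .ofNat 729, .ofNat 260, .ofNat 1003, .negSucc 75, .ofNat 849, .ofNat 483, .ofNat 624,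
  .ofNat 484]

/-- the values at 12D -/
def col37 : List ℤ :=
  [.ofNat 1, .negSucc 0, .ofNat 8, .negSucc 7, .ofNat 8, .negSucc 6, .ofNat 20, .negSucc 19, .ofNat 0,
  .ofNat 8, .ofNat 8, .ofNat 55, .ofNat 35, .ofNat 56, .negSucc 63, .negSucc 13, .negSucc 35, .ofNat 28,
  .ofNat 34, .negSucc 33, .negSucc 40, .ofNat 56, .ofNat 14, .ofNat 71, .negSucc 53, .ofNat 0, .negSucc 35,
  .ofNat 8, .negSucc 117, .ofNat 91, .negSucc 76, .negSucc 35, .ofNat 160, .negSucc 7, .negSucc 19,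
  .ofNat 70, .negSucc 111, .ofNat 104, .ofNat 0, .ofNat 216, .negSucc 69, .ofNat 160, .ofNat 112,
  .negSucc 97, .ofNat 100, .ofNat 14, .ofNat 0, .negSucc 132, .ofNat 128, .ofNat 64, .ofNat 0, .negSucc 125,
  .ofNat 64, .ofNat 140, .ofNat 72, .negSucc 63, .ofNat 0, .ofNat 98, .negSucc 27, .ofNat 0, .ofNat 140,
  .ofNat 2, .negSucc 195, .negSucc 71, .ofNat 72, .ofNat 64, .ofNat 113, .ofNat 0, .negSucc 181,
  .negSucc 111, .negSucc 132, .ofNat 0, .negSucc 69, .ofNat 125, .ofNat 0, .ofNat 141, .negSucc 251,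
  .ofNat 48, .negSucc 47, .ofNat 56, .ofNat 0, .ofNat 0, .ofNat 0, .negSucc 124, .negSucc 53, .ofNat 54,
  .ofNat 126, .ofNat 0, .ofNat 27, .negSucc 55, .ofNat 0, .negSucc 55, .ofNat 0, .ofNat 0, .ofNat 0,
  .ofNat 104, .ofNat 0, .negSucc 63, .ofNat 27, .ofNat 0, .ofNat 0, .negSucc 63, .ofNat 105, .ofNat 112,
  .negSucc 111, .ofNat 225, .negSucc 139, .ofNat 0, .ofNat 56, .ofNat 112, .ofNat 0, .ofNat 35, .ofNat 0,
  .ofNat 225, .ofNat 0, .negSucc 224, .negSucc 154, .ofNat 0, .ofNat 56, .negSucc 34, .ofNat 0, .ofNat 7,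
  .ofNat 0, .ofNat 0, .ofNat 0, .ofNat 48, .ofNat 0, .negSucc 27, .ofNat 56, .negSucc 63, .ofNat 0,
  .ofNat 27, .ofNat 153, .ofNat 64, .negSucc 26, .negSucc 215, .ofNat 84, .negSucc 33, .ofNat 0,
  .negSucc 215, .negSucc 27, .ofNat 0, .ofNat 0, .ofNat 0, .ofNat 0, .ofNat 0, .ofNat 0, .ofNat 21,
  .ofNat 153, .negSucc 13, .negSucc 13, .ofNat 0, .ofNat 0, .negSucc 20, .negSucc 125, .ofNat 49, .ofNat 0,
  .ofNat 216, .negSucc 152, .ofNat 77, .negSucc 133, .ofNat 0, .ofNat 0, .negSucc 83, .ofNat 14, .negSucc 35,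
  .ofNat 119, .negSucc 13, .negSucc 48, .ofNat 162, .ofNat 14]

/-- the values at 12E -/
def col38 : List ℤ :=
  [.ofNat 1, .negSucc 1, .ofNat 1, .ofNat 8, .ofNat 2, .negSucc 5, .negSucc 17, .ofNat 15, .negSucc 5,
  .negSucc 9, .negSucc 7, .ofNat 14, .ofNat 13, .ofNat 21, .negSucc 7, .ofNat 42, .ofNat 9, .ofNat 28,
  .ofNat 15, .ofNat 42, .negSucc 44, .negSucc 38, .negSucc 50, .ofNat 44, .ofNat 0, .ofNat 36, .ofNat 0,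
  .ofNat 29, .ofNat 11, .negSucc 87, .ofNat 27, .ofNat 54, .negSucc 2, .ofNat 97, .negSucc 119, .ofNat 206,
  .ofNat 0, .ofNat 0, .ofNat 0, .ofNat 0, .negSucc 49, .ofNat 54, .ofNat 0, .ofNat 73, .ofNat 150,
  .negSucc 83, .negSucc 29, .negSucc 11, .negSucc 127, .negSucc 39, .negSucc 59, .ofNat 3, .negSucc 31,
  .ofNat 106, .ofNat 99, .negSucc 63, .ofNat 15, .negSucc 138, .ofNat 25, .negSucc 233, .negSucc 53,
  .ofNat 26, .negSucc 26, .negSucc 44, .ofNat 90, .ofNat 14, .ofNat 84, .ofNat 0, .negSucc 225, .ofNat 42,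
  .ofNat 174, .negSucc 188, .ofNat 16, .ofNat 62, .ofNat 33, .negSucc 106, .ofNat 75, .ofNat 86, .negSucc 39,
  .ofNat 0, .ofNat 0, .ofNat 99, .ofNat 0, .negSucc 46, .ofNat 0, .ofNat 0, .negSucc 200, .negSucc 14,
  .negSucc 53, .ofNat 0, .ofNat 0, .ofNat 9, .ofNat 24, .negSucc 59, .negSucc 110, .ofNat 0, .ofNat 117,
  .negSucc 15, .ofNat 0, .ofNat 0, .ofNat 0, .ofNat 128, .negSucc 39, .ofNat 336, .ofNat 120, .negSucc 44,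
  .ofNat 93, .ofNat 0, .negSucc 122, .ofNat 0, .ofNat 0, .negSucc 124, .ofNat 0, .negSucc 44, .ofNat 96,
  .ofNat 144, .negSucc 140, .ofNat 0, .ofNat 0, .negSucc 16, .ofNat 0, .ofNat 150, .negSucc 2, .ofNat 99,
  .negSucc 98, .ofNat 56, .negSucc 47, .ofNat 140, .ofNat 0, .negSucc 127, .ofNat 0, .ofNat 0, .ofNat 90,
  .ofNat 8, .ofNat 0, .ofNat 0, .negSucc 36, .ofNat 93, .negSucc 44, .ofNat 0, .negSucc 97, .negSucc 14,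
  .ofNat 0, .ofNat 168, .ofNat 0, .ofNat 0, .ofNat 0, .negSucc 0, .ofNat 45, .negSucc 18, .negSucc 130,
  .ofNat 0, .ofNat 0, .ofNat 2, .negSucc 1, .negSucc 125, .ofNat 54, .ofNat 0, .negSucc 98, .ofNat 191,
  .negSucc 112, .ofNat 78, .negSucc 14, .ofNat 17, .ofNat 124, .negSucc 100, .ofNat 140, .ofNat 9, .ofNat 43,
  .negSucc 7, .ofNat 28]

/-- the values at 12F -/
def col39 : List ℤ :=
  [.ofNat 1, .ofNat 5, .negSucc 5, .ofNat 15, .ofNat 30, .negSucc 19, .ofNat 5, .negSucc 28, .ofNat 54,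
  .ofNat 21, .ofNat 51, .negSucc 69, .negSucc 55, .ofNat 69, .ofNat 0, .ofNat 0, .negSucc 45, .ofNat 49,
  .ofNat 70, .ofNat 134, .ofNat 0, .negSucc 98, .ofNat 56, .negSucc 14, .ofNat 0, .ofNat 36, .ofNat 56,
  .negSucc 140, .negSucc 34, .ofNat 70, .ofNat 130, .ofNat 41, .ofNat 120, .negSucc 83, .negSucc 55,
  .ofNat 70, .ofNat 0, .ofNat 0, .ofNat 42, .ofNat 0, .ofNat 28, .ofNat 42, .ofNat 0, .negSucc 69,
  .negSucc 69, .ofNat 0, .ofNat 30, .ofNat 79, .ofNat 0, .ofNat 0, .ofNat 105, .ofNat 49, .ofNat 0,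
  .negSucc 69, .ofNat 0, .negSucc 104, .ofNat 54, .ofNat 41, .negSucc 84, .ofNat 0, .negSucc 90, .negSucc 29,
  .negSucc 34, .ofNat 0, .ofNat 0, .negSucc 14, .negSucc 13, .ofNat 0, .ofNat 70, .ofNat 0, .negSucc 34,
  .ofNat 56, .ofNat 112, .ofNat 98, .negSucc 35, .ofNat 56, .negSucc 13, .ofNat 0, .ofNat 84, .ofNat 0,
  .ofNat 0, .ofNat 0, .ofNat 0, .ofNat 76, .ofNat 0, .ofNat 0, .negSucc 104, .negSucc 89, .ofNat 70,
  .ofNat 0, .ofNat 111, .negSucc 104, .negSucc 125, .ofNat 21, .ofNat 84, .ofNat 0, .ofNat 0, .ofNat 0,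
  .ofNat 0, .ofNat 0, .ofNat 0, .ofNat 0, .ofNat 0, .ofNat 0, .negSucc 119, .ofNat 0, .ofNat 119, .ofNat 0,
  .negSucc 20, .ofNat 0, .ofNat 0, .ofNat 70, .ofNat 0, .ofNat 0, .ofNat 0, .ofNat 0, .negSucc 69, .ofNat 0,
  .ofNat 0, .ofNat 119, .ofNat 0, .ofNat 105, .ofNat 0, .ofNat 0, .ofNat 0, .negSucc 83, .ofNat 15,
  .ofNat 70, .ofNat 0, .ofNat 0, .ofNat 0, .ofNat 0, .ofNat 0, .ofNat 0, .ofNat 0, .ofNat 0, .negSucc 34,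
  .negSucc 48, .ofNat 0, .ofNat 0, .negSucc 69, .ofNat 90, .ofNat 0, .ofNat 0, .ofNat 105, .ofNat 0,
  .ofNat 0, .negSucc 54, .ofNat 0, .ofNat 0, .ofNat 0, .ofNat 0, .ofNat 120, .ofNat 70, .negSucc 13,
  .ofNat 0, .ofNat 0, .ofNat 0, .ofNat 0, .ofNat 14, .negSucc 139, .ofNat 21, .negSucc 35, .ofNat 22,
  .negSucc 73, .negSucc 33, .negSucc 33, .negSucc 83, .ofNat 36, .negSucc 103, .negSucc 33]

/-- the values at 12G -/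
def col40 : List ℤ :=
  [.ofNat 1, .negSucc 2, .ofNat 2, .negSucc 0, .ofNat 6, .ofNat 4, .ofNat 5, .negSucc 12, .negSucc 1,
  .ofNat 5, .ofNat 11, .negSucc 5, .ofNat 16, .negSucc 2, .negSucc 15, .negSucc 15, .ofNat 26, .negSucc 22,
  .ofNat 14, .negSucc 9, .ofNat 8, .ofNat 13, .negSucc 31, .ofNat 9, .ofNat 0, .ofNat 4, .ofNat 24,
  .negSucc 12, .ofNat 13, .negSucc 57, .negSucc 13, .ofNat 33, .ofNat 56, .ofNat 4, .negSucc 15,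
  .negSucc 121, .ofNat 0, .ofNat 0, .negSucc 53, .ofNat 0, .negSucc 3, .negSucc 29, .ofNat 0, .negSucc 53,
  .ofNat 74, .ofNat 48, .ofNat 54, .ofNat 31, .ofNat 0, .negSucc 47, .negSucc 6, .ofNat 49, .ofNat 32,
  .ofNat 50, .ofNat 0, .negSucc 32, .negSucc 17, .ofNat 73, .ofNat 19, .ofNat 0, .ofNat 21, .ofNat 242,
  .ofNat 37, .ofNat 0, .ofNat 0, .negSucc 54, .ofNat 58, .ofNat 0, .negSucc 137, .negSucc 31, .ofNat 117,
  .ofNat 104, .ofNat 32, .negSucc 13, .negSucc 35, .negSucc 95, .negSucc 69, .ofNat 32, .ofNat 36, .ofNat 0,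
  .ofNat 0, .ofNat 0, .ofNat 0, .negSucc 43, .ofNat 0, .ofNat 0, .negSucc 104, .negSucc 1, .ofNat 14,
  .ofNat 0, .ofNat 135, .ofNat 119, .ofNat 90, .negSucc 122, .ofNat 52, .ofNat 0, .ofNat 32, .ofNat 80,
  .ofNat 0, .ofNat 128, .ofNat 0, .ofNat 0, .ofNat 8, .ofNat 16, .negSucc 23, .ofNat 0, .negSucc 64,
  .ofNat 64, .negSucc 4, .ofNat 0, .ofNat 0, .ofNat 70, .negSucc 63, .ofNat 0, .negSucc 31, .ofNat 0,
  .negSucc 5, .ofNat 0, .ofNat 0, .ofNat 79, .ofNat 0, .ofNat 17, .ofNat 16, .ofNat 0, .ofNat 0, .ofNat 44,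
  .ofNat 15, .negSucc 113, .ofNat 0, .ofNat 0, .ofNat 0, .ofNat 0, .ofNat 0, .negSucc 95, .ofNat 0, .ofNat 0,
  .negSucc 74, .ofNat 55, .ofNat 0, .ofNat 0, .ofNat 66, .ofNat 18, .ofNat 64, .negSucc 127, .ofNat 81,
  .negSucc 63, .ofNat 0, .negSucc 6, .ofNat 0, .ofNat 32, .negSucc 39, .ofNat 0, .ofNat 0, .ofNat 94,
  .negSucc 29, .negSucc 31, .ofNat 0, .ofNat 0, .ofNat 0, .negSucc 1, .negSucc 35, .ofNat 85, .negSucc 35,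
  .negSucc 17, .negSucc 9, .ofNat 22, .negSucc 57, .ofNat 84, .negSucc 83, .ofNat 48, .negSucc 1]

/-- the values at 12H -/
def col41 : List ℤ :=
  [.ofNat 1, .ofNat 13, .ofNat 22, .ofNat 35, .ofNat 38, .ofNat 60, .ofNat 57, .ofNat 99, .ofNat 66,
  .ofNat 65, .ofNat 31, .ofNat 62, .ofNat 40, .negSucc 2, .ofNat 64, .ofNat 0, .ofNat 30, .ofNat 13,
  .ofNat 18, .negSucc 29, .ofNat 24, .negSucc 38, .negSucc 35, .negSucc 6, .ofNat 0, .negSucc 59,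
  .negSucc 59, .negSucc 24, .ofNat 5, .ofNat 26, .negSucc 17, .negSucc 2, .ofNat 0, .negSucc 19, .negSucc 83,
  .negSucc 9, .ofNat 0, .ofNat 0, .ofNat 18, .ofNat 0, .negSucc 19, .ofNat 30, .ofNat 0, .negSucc 25,
  .negSucc 29, .ofNat 0, .negSucc 17, .ofNat 75, .negSucc 31, .negSucc 15, .ofNat 21, .negSucc 14, .ofNat 64,
  .negSucc 13, .ofNat 0, .ofNat 35, .ofNat 66, .negSucc 18, .negSucc 4, .ofNat 0, .ofNat 81, .negSucc 69,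
  .ofNat 21, .ofNat 0, .ofNat 0, .negSucc 54, .ofNat 30, .ofNat 0, .negSucc 9, .ofNat 0, .negSucc 50,
  .ofNat 0, .negSucc 79, .negSucc 9, .ofNat 0, .ofNat 40, .ofNat 90, .ofNat 44, .negSucc 51, .ofNat 0,
  .ofNat 72, .ofNat 0, .ofNat 0, .ofNat 40, .ofNat 0, .ofNat 0, .ofNat 15, .negSucc 65, .negSucc 29,
  .ofNat 0, .negSucc 8, .ofNat 75, .negSucc 53, .negSucc 38, .ofNat 60, .ofNat 0, .negSucc 59, .negSucc 39,
  .ofNat 0, .ofNat 0, .ofNat 0, .negSucc 63, .negSucc 39, .ofNat 0, .negSucc 59, .ofNat 0, .ofNat 39,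
  .ofNat 0, .ofNat 15, .ofNat 0, .ofNat 0, .negSucc 49, .ofNat 0, .ofNat 0, .ofNat 0, .ofNat 0, .ofNat 90,
  .ofNat 0, .ofNat 0, .negSucc 64, .ofNat 0, .ofNat 105, .ofNat 0, .ofNat 0, .ofNat 0, .negSucc 3,
  .negSucc 104, .ofNat 50, .ofNat 0, .ofNat 64, .ofNat 0, .ofNat 0, .ofNat 0, .negSucc 39, .ofNat 0,
  .ofNat 0, .negSucc 114, .ofNat 75, .ofNat 0, .ofNat 0, .negSucc 49, .ofNat 6, .ofNat 0, .negSucc 23,
  .ofNat 81, .ofNat 0, .ofNat 0, .ofNat 65, .ofNat 0, .ofNat 20, .negSucc 19, .ofNat 0, .negSucc 35,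
  .negSucc 69, .ofNat 10, .ofNat 0, .ofNat 0, .ofNat 0, .ofNat 0, .negSucc 9, .negSucc 79, .negSucc 14,
  .ofNat 60, .ofNat 14, .ofNat 58, .ofNat 10, .ofNat 14, .ofNat 84, .negSucc 55, .ofNat 148, .ofNat 34]

/-- the values at 12I -/
def col42 : List ℤ :=
  [.ofNat 1, .ofNat 1, .negSucc 1, .negSucc 0, .ofNat 2, .ofNat 0, .negSucc 2, .ofNat 3, .negSucc 5,
  .ofNat 5, .ofNat 7, .ofNat 2, .ofNat 4, .ofNat 9, .negSucc 7, .negSucc 23, .ofNat 6, .negSucc 10,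
  .negSucc 5, .ofNat 6, .ofNat 12, .negSucc 2, .negSucc 11, .ofNat 5, .ofNat 0, .negSucc 11, .ofNat 24,
  .ofNat 11, .negSucc 18, .ofNat 14, .ofNat 18, .ofNat 21, .negSucc 23, .ofNat 16, .negSucc 11, .negSucc 9,
  .ofNat 0, .ofNat 0, .ofNat 90, .ofNat 0, .ofNat 28, .ofNat 6, .ofNat 0, .ofNat 10, .negSucc 29,
  .negSucc 23, .negSucc 5, .negSucc 8, .ofNat 64, .ofNat 8, .negSucc 14, .negSucc 14, .ofNat 16, .negSucc 25,
  .ofNat 0, .ofNat 35, .ofNat 18, .negSucc 6, .ofNat 55, .ofNat 0, .ofNat 45, .negSucc 21, .negSucc 38,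
  .ofNat 0, .ofNat 0, .ofNat 29, .negSucc 41, .ofNat 0, .ofNat 62, .ofNat 48, .negSucc 14, .ofNat 0,
  .negSucc 103, .negSucc 45, .ofNat 12, .ofNat 52, .ofNat 6, .negSucc 15, .ofNat 44, .ofNat 0, .ofNat 0,
  .ofNat 0, .ofNat 0, .negSucc 7, .ofNat 0, .ofNat 0, .negSucc 56, .ofNat 18, .negSucc 5, .ofNat 0,
  .ofNat 27, .ofNat 15, .ofNat 30, .negSucc 26, .negSucc 11, .ofNat 0, .negSucc 47, .ofNat 8, .ofNat 0,
  .ofNat 0, .ofNat 0, .ofNat 32, .negSucc 3, .ofNat 24, .negSucc 23, .ofNat 0, .ofNat 3, .ofNat 0, .ofNat 27,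
  .ofNat 0, .ofNat 0, .negSucc 1, .ofNat 0, .ofNat 0, .ofNat 48, .ofNat 0, .negSucc 29, .ofNat 0, .ofNat 0,
  .negSucc 4, .ofNat 0, .negSucc 2, .negSucc 23, .ofNat 0, .ofNat 0, .ofNat 44, .ofNat 63, .negSucc 21,
  .ofNat 0, .negSucc 31, .ofNat 0, .ofNat 0, .ofNat 0, .negSucc 15, .ofNat 0, .ofNat 0, .negSucc 30,
  .ofNat 3, .ofNat 0, .ofNat 0, .negSucc 1, .ofNat 54, .ofNat 0, .ofNat 0, .ofNat 45, .ofNat 0, .ofNat 0,
  .ofNat 41, .ofNat 0, .ofNat 32, .negSucc 43, .ofNat 0, .ofNat 36, .ofNat 2, .negSucc 13, .ofNat 0,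
  .ofNat 0, .ofNat 0, .ofNat 0, .ofNat 14, .ofNat 16, .negSucc 26, .negSucc 35, .ofNat 2, .ofNat 46,
  .ofNat 58, .ofNat 50, .ofNat 24, .ofNat 16, .negSucc 19, .ofNat 22]

/-- the values at 12J -/
def col43 : List ℤ :=
  [.ofNat 1, .negSucc 0, .ofNat 0, .ofNat 0, .ofNat 0, .ofNat 1, .negSucc 3, .ofNat 4, .ofNat 0, .ofNat 0,
  .ofNat 0, .negSucc 0, .negSucc 4, .ofNat 0, .ofNat 0, .negSucc 29, .negSucc 3, .ofNat 4, .ofNat 10,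
  .negSucc 9, .negSucc 8, .ofNat 0, .ofNat 14, .negSucc 8, .negSucc 5, .ofNat 0, .negSucc 3, .ofNat 0,
  .ofNat 10, .negSucc 4, .negSucc 4, .negSucc 3, .ofNat 0, .ofNat 0, .ofNat 4, .ofNat 22, .ofNat 0, .ofNat 0,
  .ofNat 0, .ofNat 0, .ofNat 10, .ofNat 0, .ofNat 0, .negSucc 9, .ofNat 20, .ofNat 30, .ofNat 0, .negSucc 4,
  .ofNat 0, .ofNat 0, .ofNat 0, .ofNat 10, .ofNat 0, .negSucc 3, .ofNat 24, .ofNat 0, .ofNat 0, .ofNat 26,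
  .ofNat 20, .ofNat 0, .negSucc 3, .negSucc 29, .ofNat 4, .negSucc 23, .ofNat 24, .ofNat 0, .ofNat 1,
  .ofNat 0, .ofNat 10, .ofNat 0, .ofNat 19, .negSucc 15, .ofNat 10, .ofNat 5, .ofNat 0, .ofNat 5, .ofNat 4,
  .ofNat 0, .ofNat 0, .ofNat 0, .ofNat 0, .ofNat 0, .ofNat 0, .negSucc 4, .negSucc 5, .ofNat 6, .ofNat 6,
  .ofNat 0, .negSucc 4, .ofNat 0, .ofNat 0, .ofNat 0, .ofNat 0, .ofNat 0, .ofNat 0, .ofNat 0, .ofNat 0,
  .ofNat 0, .ofNat 51, .ofNat 0, .ofNat 0, .ofNat 0, .negSucc 14, .ofNat 0, .ofNat 0, .ofNat 9, .ofNat 20,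
  .ofNat 0, .ofNat 0, .ofNat 0, .ofNat 0, .negSucc 4, .ofNat 0, .ofNat 9, .ofNat 0, .negSucc 8, .ofNat 5,
  .ofNat 0, .ofNat 0, .ofNat 5, .ofNat 0, .ofNat 15, .ofNat 0, .ofNat 0, .ofNat 0, .ofNat 0, .ofNat 0,
  .negSucc 19, .ofNat 0, .ofNat 0, .ofNat 0, .ofNat 51, .negSucc 14, .ofNat 0, .negSucc 50, .ofNat 0,
  .negSucc 19, .negSucc 9, .ofNat 0, .ofNat 0, .ofNat 20, .ofNat 0, .ofNat 0, .ofNat 0, .ofNat 0, .ofNat 0,
  .ofNat 0, .ofNat 5, .negSucc 14, .negSucc 29, .negSucc 29, .ofNat 0, .ofNat 0, .negSucc 4, .ofNat 10,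
  .negSucc 14, .ofNat 0, .ofNat 0, .ofNat 15, .ofNat 5, .ofNat 10, .ofNat 0, .ofNat 0, .ofNat 4, .negSucc 1,
  .ofNat 44, .negSucc 0, .negSucc 5, .ofNat 39, .ofNat 34, .ofNat 14]

/-- the values at 13A -/
def col44 : List ℤ :=
  [.ofNat 1, .ofNat 11, .ofNat 16, .ofNat 26, .ofNat 28, .ofNat 39, .ofNat 32, .ofNat 52, .ofNat 39,
  .ofNat 43, .negSucc 0, .ofNat 13, .ofNat 13, .ofNat 12, .ofNat 26, .ofNat 2, .ofNat 0, .negSucc 12,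
  .negSucc 10, .ofNat 13, .negSucc 25, .ofNat 0, .negSucc 30, .negSucc 51, .ofNat 0, .ofNat 15, .ofNat 0,
  .negSucc 12, .negSucc 31, .ofNat 0, .negSucc 38, .ofNat 0, .ofNat 0, .ofNat 16, .ofNat 0, .ofNat 0,
  .ofNat 0, .ofNat 0, .ofNat 0, .ofNat 4, .ofNat 0, .negSucc 15, .negSucc 31, .ofNat 13, .ofNat 0, .ofNat 22,
  .ofNat 0, .negSucc 38, .ofNat 0, .ofNat 52, .ofNat 39, .ofNat 39, .ofNat 26, .ofNat 0, .negSucc 25,
  .ofNat 28, .ofNat 0, .ofNat 0, .ofNat 13, .ofNat 30, .ofNat 0, .ofNat 0, .ofNat 0, .negSucc 12, .ofNat 28,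
  .ofNat 26, .ofNat 0, .negSucc 31, .ofNat 34, .ofNat 32, .negSucc 11, .ofNat 0, .ofNat 32, .ofNat 0,
  .ofNat 15, .negSucc 43, .negSucc 51, .negSucc 25, .ofNat 0, .ofNat 12, .ofNat 0, .ofNat 0, .ofNat 0,
  .ofNat 0, .ofNat 0, .ofNat 0, .negSucc 38, .ofNat 0, .ofNat 0, .ofNat 4, .ofNat 0, .ofNat 0, .ofNat 0,
  .ofNat 13, .negSucc 38, .ofNat 12, .ofNat 0, .ofNat 0, .negSucc 26, .ofNat 26, .ofNat 52, .ofNat 0,
  .ofNat 11, .ofNat 52, .ofNat 0, .ofNat 5, .ofNat 0, .negSucc 14, .negSucc 42, .ofNat 0, .ofNat 0, .ofNat 0,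
  .ofNat 11, .ofNat 32, .negSucc 25, .ofNat 52, .ofNat 0, .negSucc 51, .ofNat 0, .ofNat 0, .negSucc 15,
  .ofNat 0, .ofNat 39, .ofNat 0, .ofNat 0, .ofNat 0, .ofNat 0, .ofNat 0, .ofNat 0, .ofNat 0, .ofNat 0,
  .ofNat 0, .negSucc 25, .ofNat 26, .negSucc 26, .ofNat 0, .ofNat 0, .ofNat 0, .ofNat 39, .ofNat 0,
  .ofNat 28, .ofNat 0, .negSucc 38, .ofNat 0, .ofNat 0, .negSucc 12, .ofNat 27, .ofNat 0, .ofNat 13,
  .ofNat 0, .ofNat 0, .negSucc 27, .ofNat 27, .ofNat 0, .ofNat 0, .ofNat 39, .negSucc 38, .ofNat 0,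
  .negSucc 27, .ofNat 0, .ofNat 0, .negSucc 14, .ofNat 0, .ofNat 3, .negSucc 12, .negSucc 12, .negSucc 25,
  .negSucc 12, .negSucc 12, .negSucc 12, .negSucc 28]

/-- the values at 13B -/
def col45 : List ℤ :=
  [.ofNat 1, .negSucc 1, .ofNat 3, .ofNat 0, .ofNat 2, .ofNat 0, .negSucc 6, .ofNat 0, .ofNat 0, .ofNat 4,
  .ofNat 12, .ofNat 0, .ofNat 0, .negSucc 0, .ofNat 0, .negSucc 23, .ofNat 0, .ofNat 0, .negSucc 10,
  .ofNat 0, .ofNat 0, .ofNat 0, .negSucc 17, .ofNat 0, .ofNat 0, .ofNat 15, .ofNat 0, .ofNat 0, .ofNat 20,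
  .ofNat 0, .ofNat 0, .ofNat 0, .ofNat 0, .negSucc 9, .ofNat 0, .ofNat 0, .ofNat 0, .ofNat 0, .ofNat 26,
  .ofNat 4, .ofNat 0, .negSucc 2, .ofNat 46, .ofNat 0, .ofNat 0, .ofNat 48, .ofNat 0, .ofNat 0, .ofNat 0,
  .ofNat 0, .ofNat 0, .ofNat 0, .ofNat 0, .ofNat 0, .ofNat 0, .negSucc 10, .ofNat 0, .ofNat 0, .ofNat 0,
  .negSucc 47, .ofNat 0, .ofNat 0, .ofNat 0, .ofNat 0, .negSucc 23, .ofNat 0, .ofNat 0, .ofNat 20, .ofNat 86,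
  .negSucc 71, .ofNat 14, .ofNat 0, .ofNat 6, .ofNat 0, .ofNat 28, .negSucc 30, .ofNat 0, .ofNat 0, .ofNat 0,
  .ofNat 38, .negSucc 51, .ofNat 0, .ofNat 0, .ofNat 0, .ofNat 0, .ofNat 0, .ofNat 0, .ofNat 0, .ofNat 0,
  .ofNat 30, .ofNat 0, .ofNat 0, .ofNat 0, .ofNat 0, .ofNat 0, .ofNat 64, .negSucc 25, .ofNat 0, .ofNat 51,
  .ofNat 0, .ofNat 0, .ofNat 0, .ofNat 24, .ofNat 0, .ofNat 0, .ofNat 57, .ofNat 0, .ofNat 24, .negSucc 81,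
  .ofNat 0, .ofNat 0, .ofNat 0, .ofNat 24, .negSucc 32, .ofNat 0, .ofNat 0, .ofNat 0, .ofNat 0, .ofNat 0,
  .ofNat 0, .negSucc 67, .ofNat 0, .ofNat 0, .ofNat 0, .ofNat 0, .ofNat 0, .ofNat 0, .ofNat 0, .ofNat 0,
  .ofNat 0, .ofNat 0, .ofNat 0, .ofNat 0, .ofNat 0, .ofNat 51, .ofNat 0, .ofNat 0, .ofNat 13, .ofNat 0,
  .ofNat 0, .negSucc 23, .ofNat 0, .ofNat 0, .ofNat 0, .ofNat 0, .ofNat 0, .negSucc 11, .ofNat 0, .ofNat 0,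
  .ofNat 0, .ofNat 0, .ofNat 24, .ofNat 1, .ofNat 0, .ofNat 0, .ofNat 0, .ofNat 0, .ofNat 0, .ofNat 24,
  .ofNat 0, .ofNat 0, .negSucc 40, .ofNat 0, .negSucc 22, .ofNat 0, .ofNat 0, .ofNat 0, .ofNat 39, .ofNat 0,
  .ofNat 0, .negSucc 15]

/-- the values at 14A -/
def col46 : List ℤ :=
  [.ofNat 1, .ofNat 10, .ofNat 9, .ofNat 26, .ofNat 38, .ofNat 16, .ofNat 20, .ofNat 9, .ofNat 51, .ofNat 81,
  .negSucc 28, .negSucc 69, .negSucc 63, .ofNat 120, .ofNat 9, .ofNat 0, .ofNat 10, .ofNat 21, .negSucc 55,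
  .ofNat 135, .negSucc 195, .ofNat 80, .ofNat 26, .negSucc 65, .ofNat 18, .ofNat 123, .ofNat 188,
  .negSucc 107, .negSucc 195, .negSucc 69, .negSucc 18, .ofNat 147, .negSucc 78, .negSucc 54, .ofNat 171,
  .ofNat 0, .ofNat 0, .ofNat 40, .ofNat 0, .negSucc 55, .ofNat 70, .negSucc 144, .ofNat 128, .ofNat 21,
  .negSucc 19, .ofNat 0, .ofNat 110, .negSucc 28, .negSucc 39, .ofNat 51, .ofNat 70, .negSucc 69,
  .negSucc 81, .ofNat 0, .ofNat 4, .negSucc 80, .ofNat 8, .ofNat 0, .ofNat 5, .ofNat 60, .ofNat 0,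
  .negSucc 109, .negSucc 20, .ofNat 110, .ofNat 136, .negSucc 36, .ofNat 56, .ofNat 0, .ofNat 0, .ofNat 0,
  .ofNat 0, .ofNat 0, .ofNat 0, .negSucc 144, .negSucc 53, .ofNat 55, .ofNat 0, .ofNat 196, .ofNat 56,
  .negSucc 143, .ofNat 0, .negSucc 23, .ofNat 0, .negSucc 54, .ofNat 162, .ofNat 180, .ofNat 0, .negSucc 97,
  .negSucc 144, .ofNat 0, .negSucc 44, .ofNat 60, .ofNat 288, .ofNat 0, .ofNat 0, .negSucc 55, .negSucc 50,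
  .negSucc 55, .ofNat 45, .negSucc 127, .ofNat 256, .negSucc 139, .ofNat 0, .ofNat 0, .ofNat 116, .ofNat 56,
  .ofNat 0, .ofNat 64, .ofNat 0, .ofNat 0, .ofNat 0, .ofNat 90, .negSucc 63, .negSucc 195, .ofNat 26,
  .negSucc 109, .negSucc 80, .ofNat 144, .negSucc 143, .ofNat 0, .ofNat 0, .ofNat 0, .ofNat 21, .ofNat 48,
  .ofNat 24, .ofNat 196, .negSucc 154, .ofNat 90, .ofNat 0, .ofNat 196, .ofNat 0, .negSucc 53, .negSucc 16,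
  .ofNat 225, .negSucc 8, .ofNat 81, .negSucc 114, .negSucc 195, .negSucc 20, .negSucc 71, .negSucc 89,
  .ofNat 46, .ofNat 64, .negSucc 20, .ofNat 0, .negSucc 63, .ofNat 0, .ofNat 0, .negSucc 37, .ofNat 0,
  .ofNat 0, .ofNat 0, .ofNat 0, .ofNat 0, .ofNat 21, .ofNat 0, .ofNat 51, .ofNat 9, .negSucc 84, .ofNat 0,
  .ofNat 15, .ofNat 0, .ofNat 19, .ofNat 30, .ofNat 30, .negSucc 24, .ofNat 30, .ofNat 60, .ofNat 4,
  .ofNat 111, .ofNat 30]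

/-- the values at 14B -/
def col47 : List ℤ :=
  [.ofNat 1, .ofNat 2, .negSucc 6, .ofNat 10, .ofNat 14, .negSucc 15, .ofNat 4, .negSucc 6, .ofNat 27,
  .negSucc 6, .ofNat 43, .negSucc 21, .ofNat 0, .ofNat 8, .negSucc 6, .ofNat 0, .negSucc 37, .ofNat 21,
  .ofNat 56, .ofNat 47, .ofNat 28, .negSucc 39, .negSucc 13, .negSucc 9, .negSucc 13, .negSucc 20, .ofNat 52,
  .negSucc 43, .ofNat 28, .ofNat 42, .ofNat 5, .negSucc 4, .ofNat 25, .negSucc 6, .negSucc 20, .ofNat 0,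
  .ofNat 0, .negSucc 39, .ofNat 0, .ofNat 56, .negSucc 41, .ofNat 7, .negSucc 63, .ofNat 21, .negSucc 3,
  .ofNat 0, .negSucc 17, .negSucc 20, .negSucc 7, .ofNat 51, .negSucc 41, .ofNat 42, .negSucc 57, .ofNat 0,
  .ofNat 36, .ofNat 7, .negSucc 71, .ofNat 0, .ofNat 45, .negSucc 83, .ofNat 0, .ofNat 34, .negSucc 20,
  .ofNat 78, .ofNat 0, .negSucc 12, .negSucc 55, .ofNat 0, .ofNat 0, .ofNat 0, .ofNat 0, .ofNat 0, .ofNat 0,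
  .ofNat 7, .ofNat 66, .ofNat 7, .ofNat 0, .negSucc 27, .negSucc 55, .ofNat 16, .ofNat 0, .ofNat 0, .ofNat 0,
  .ofNat 17, .negSucc 13, .negSucc 27, .ofNat 0, .negSucc 41, .ofNat 7, .ofNat 0, .negSucc 68, .ofNat 92,
  .ofNat 72, .ofNat 0, .ofNat 0, .ofNat 56, .negSucc 26, .ofNat 56, .ofNat 5, .ofNat 0, .ofNat 0,
  .negSucc 27, .ofNat 0, .ofNat 0, .negSucc 11, .negSucc 55, .ofNat 0, .ofNat 0, .ofNat 0, .ofNat 0,
  .ofNat 0, .negSucc 13, .ofNat 0, .ofNat 28, .negSucc 13, .negSucc 69, .ofNat 7, .negSucc 15, .ofNat 16,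
  .ofNat 0, .ofNat 64, .ofNat 0, .ofNat 21, .negSucc 23, .negSucc 23, .negSucc 27, .negSucc 50, .negSucc 13,
  .ofNat 0, .negSucc 27, .ofNat 64, .ofNat 2, .ofNat 7, .ofNat 97, .ofNat 7, .ofNat 49, .ofNat 13, .ofNat 28,
  .negSucc 20, .negSucc 55, .ofNat 14, .ofNat 6, .ofNat 0, .negSucc 20, .ofNat 0, .ofNat 0, .ofNat 0,
  .ofNat 0, .negSucc 13, .ofNat 0, .ofNat 0, .ofNat 0, .ofNat 0, .ofNat 0, .ofNat 21, .ofNat 0, .ofNat 27,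
  .negSucc 6, .ofNat 35, .ofNat 0, .negSucc 16, .ofNat 0, .negSucc 44, .ofNat 22, .ofNat 22, .ofNat 15,
  .ofNat 22, .ofNat 44, .ofNat 36, .ofNat 15, .ofNat 22]

/-- the values at 14C -/
def col48 : List ℤ :=
  [.ofNat 1, .ofNat 9, .ofNat 14, .ofNat 17, .ofNat 14, .ofNat 26, .ofNat 25, .ofNat 35, .ofNat 13, .ofNat 0,
  .ofNat 22, .ofNat 20, .ofNat 0, .negSucc 12, .ofNat 0, .ofNat 0, .ofNat 4, .ofNat 0, .ofNat 0, .negSucc 29,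
  .ofNat 0, .negSucc 32, .ofNat 0, .ofNat 39, .ofNat 0, .negSucc 34, .negSucc 31, .negSucc 29, .ofNat 0,
  .ofNat 0, .ofNat 40, .negSucc 4, .negSucc 9, .ofNat 0, .ofNat 0, .ofNat 0, .ofNat 0, .ofNat 16, .ofNat 0,
  .ofNat 0, .ofNat 0, .ofNat 0, .ofNat 48, .ofNat 0, .ofNat 10, .ofNat 0, .ofNat 10, .ofNat 35, .negSucc 7,
  .negSucc 11, .ofNat 0, .ofNat 0, .negSucc 15, .ofNat 0, .ofNat 36, .ofNat 0, .negSucc 22, .ofNat 14,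
  .ofNat 10, .ofNat 0, .ofNat 0, .ofNat 20, .ofNat 0, .ofNat 36, .ofNat 0, .ofNat 15, .ofNat 0, .negSucc 27,
  .ofNat 0, .ofNat 0, .ofNat 0, .ofNat 0, .ofNat 0, .ofNat 0, .negSucc 24, .ofNat 0, .ofNat 0, .ofNat 0,
  .ofNat 0, .negSucc 39, .ofNat 0, .negSucc 20, .ofNat 0, .negSucc 24, .ofNat 0, .ofNat 0, .ofNat 0,
  .ofNat 14, .ofNat 0, .ofNat 0, .ofNat 15, .negSucc 19, .ofNat 16, .ofNat 0, .ofNat 0, .ofNat 0,
  .negSucc 19, .ofNat 0, .negSucc 8, .ofNat 0, .ofNat 0, .ofNat 0, .ofNat 0, .ofNat 0, .ofNat 30, .ofNat 0,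
  .ofNat 0, .ofNat 0, .ofNat 0, .ofNat 0, .ofNat 0, .ofNat 0, .ofNat 0, .ofNat 0, .ofNat 0, .ofNat 0,
  .ofNat 0, .negSucc 15, .ofNat 16, .ofNat 0, .negSucc 19, .ofNat 0, .ofNat 0, .negSucc 2, .negSucc 23,
  .ofNat 0, .ofNat 5, .ofNat 0, .ofNat 0, .ofNat 0, .ofNat 36, .ofNat 9, .ofNat 0, .ofNat 20, .ofNat 0,
  .ofNat 0, .ofNat 20, .ofNat 0, .ofNat 0, .ofNat 0, .ofNat 0, .negSucc 0, .ofNat 0, .ofNat 0, .ofNat 0,
  .ofNat 0, .ofNat 0, .negSucc 34, .ofNat 0, .ofNat 0, .ofNat 0, .ofNat 0, .ofNat 21, .ofNat 0, .ofNat 0,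
  .ofNat 0, .negSucc 35, .ofNat 0, .ofNat 0, .ofNat 0, .ofNat 25, .ofNat 0, .negSucc 9, .negSucc 5, .ofNat 8,
  .negSucc 5, .negSucc 5, .negSucc 25, .negSucc 5, .negSucc 5, .negSucc 5]

/-- the values at 15A -/
def col49 : List ℤ :=
  [.ofNat 1, .ofNat 7, .ofNat 14, .ofNat 12, .ofNat 8, .ofNat 7, .ofNat 35, .ofNat 23, .negSucc 0,
  .negSucc 20, .ofNat 43, .ofNat 47, .negSucc 48, .ofNat 49, .negSucc 62, .ofNat 0, .ofNat 70, .ofNat 48,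
  .negSucc 40, .negSucc 40, .negSucc 63, .negSucc 26, .ofNat 98, .ofNat 175, .ofNat 0, .negSucc 147,
  .ofNat 34, .negSucc 67, .ofNat 104, .ofNat 93, .negSucc 68, .ofNat 246, .negSucc 189, .negSucc 174,
  .ofNat 91, .negSucc 13, .ofNat 28, .ofNat 118, .ofNat 0, .ofNat 148, .negSucc 29, .ofNat 210, .ofNat 42,
  .negSucc 84, .ofNat 0, .ofNat 0, .ofNat 78, .ofNat 36, .ofNat 0, .ofNat 84, .negSucc 148, .negSucc 256,
  .ofNat 147, .ofNat 280, .ofNat 216, .negSucc 111, .negSucc 62, .ofNat 14, .ofNat 0, .ofNat 0, .ofNat 203,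
  .ofNat 0, .ofNat 260, .ofNat 27, .negSucc 188, .negSucc 188, .negSucc 77, .ofNat 112, .ofNat 0, .ofNat 0,
  .ofNat 0, .negSucc 41, .ofNat 210, .negSucc 209, .ofNat 252, .negSucc 174, .ofNat 294, .ofNat 99,
  .ofNat 321, .negSucc 189, .ofNat 0, .ofNat 162, .negSucc 255, .ofNat 41, .ofNat 0, .ofNat 0, .negSucc 6,
  .negSucc 264, .ofNat 0, .negSucc 55, .ofNat 0, .ofNat 0, .ofNat 153, .ofNat 91, .negSucc 27, .ofNat 190,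
  .ofNat 190, .negSucc 26, .ofNat 0, .negSucc 47, .negSucc 95, .negSucc 5, .ofNat 0, .ofNat 0, .negSucc 189,
  .ofNat 27, .ofNat 14, .negSucc 55, .ofNat 175, .ofNat 56, .ofNat 42, .ofNat 0, .negSucc 103, .ofNat 27,
  .negSucc 202, .ofNat 54, .negSucc 76, .negSucc 355, .ofNat 308, .negSucc 6, .ofNat 0, .negSucc 167,
  .ofNat 293, .ofNat 162, .negSucc 161, .negSucc 201, .ofNat 216, .ofNat 0, .ofNat 98, .ofNat 134,
  .negSucc 455, .ofNat 0, .negSucc 188, .ofNat 0, .ofNat 0, .ofNat 0, .ofNat 0, .negSucc 35, .ofNat 162,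
  .ofNat 0, .ofNat 0, .ofNat 63, .negSucc 119, .negSucc 12, .ofNat 0, .negSucc 167, .ofNat 0, .ofNat 0,
  .negSucc 26, .ofNat 84, .ofNat 84, .negSucc 223, .ofNat 0, .ofNat 0, .ofNat 153, .ofNat 0, .ofNat 243,
  .ofNat 0, .negSucc 215, .ofNat 175, .ofNat 0, .negSucc 174, .ofNat 63, .ofNat 111, .ofNat 76, .ofNat 160,
  .ofNat 97, .ofNat 97, .ofNat 272, .ofNat 27, .ofNat 33]

/-- the values at 15B -/
def col50 : List ℤ :=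
  [.ofNat 1, .negSucc 1, .ofNat 5, .negSucc 5, .ofNat 8, .negSucc 1, .ofNat 8, .negSucc 12, .negSucc 0,
  .ofNat 15, .ofNat 7, .ofNat 20, .ofNat 23, .ofNat 13, .negSucc 35, .ofNat 0, .negSucc 10, .ofNat 3,
  .ofNat 22, .negSucc 4, .negSucc 9, .ofNat 27, .negSucc 18, .ofNat 22, .ofNat 0, .ofNat 5, .negSucc 28,
  .negSucc 4, .negSucc 39, .negSucc 5, .negSucc 5, .negSucc 14, .ofNat 80, .ofNat 5, .ofNat 19, .ofNat 4,
  .ofNat 64, .ofNat 10, .negSucc 53, .ofNat 58, .ofNat 42, .ofNat 30, .ofNat 60, .negSucc 21, .ofNat 0,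
  .ofNat 0, .negSucc 11, .negSucc 44, .ofNat 0, .ofNat 12, .negSucc 31, .negSucc 4, .ofNat 48, .ofNat 10,
  .ofNat 0, .negSucc 39, .negSucc 8, .negSucc 48, .ofNat 0, .ofNat 0, .ofNat 23, .ofNat 0, .ofNat 8,
  .ofNat 0, .ofNat 0, .ofNat 0, .ofNat 39, .ofNat 76, .ofNat 0, .ofNat 0, .ofNat 0, .negSucc 32, .ofNat 30,
  .negSucc 29, .negSucc 44, .ofNat 5, .negSucc 2, .ofNat 18, .ofNat 15, .ofNat 80, .ofNat 108, .ofNat 0,
  .negSucc 111, .ofNat 5, .ofNat 0, .ofNat 0, .ofNat 20, .negSucc 57, .ofNat 0, .negSucc 37, .negSucc 26,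
  .ofNat 0, .negSucc 8, .negSucc 34, .negSucc 0, .negSucc 79, .negSucc 79, .ofNat 54, .ofNat 0, .ofNat 24,
  .ofNat 48, .ofNat 30, .ofNat 0, .ofNat 0, .ofNat 80, .ofNat 0, .ofNat 77, .ofNat 16, .negSucc 4,
  .negSucc 51, .ofNat 6, .ofNat 0, .ofNat 40, .ofNat 0, .ofNat 22, .ofNat 0, .ofNat 40, .ofNat 4,
  .negSucc 33, .ofNat 29, .ofNat 0, .negSucc 77, .negSucc 39, .ofNat 0, .ofNat 0, .negSucc 48, .ofNat 0,
  .ofNat 0, .negSucc 63, .ofNat 26, .ofNat 12, .ofNat 0, .ofNat 0, .ofNat 0, .ofNat 0, .ofNat 0, .ofNat 0,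
  .ofNat 45, .ofNat 0, .ofNat 0, .ofNat 0, .ofNat 36, .negSucc 47, .negSucc 21, .ofNat 0, .negSucc 23,
  .ofNat 0, .ofNat 0, .ofNat 0, .ofNat 12, .ofNat 12, .negSucc 7, .ofNat 0, .ofNat 0, .ofNat 45, .ofNat 0,
  .ofNat 0, .ofNat 0, .ofNat 0, .negSucc 4, .ofNat 0, .ofNat 5, .negSucc 44, .ofNat 30, .ofNat 31, .ofNat 43,
  .ofNat 7, .ofNat 7, .ofNat 29, .negSucc 26, .negSucc 56]

/-- the values at 15C -/
def col51 : List ℤ :=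
  [.ofNat 1, .ofNat 8, .ofNat 10, .ofNat 14, .ofNat 13, .ofNat 18, .ofNat 13, .ofNat 17, .ofNat 9, .ofNat 10,
  .negSucc 2, .ofNat 0, .negSucc 1, .ofNat 3, .negSucc 0, .ofNat 0, .negSucc 5, .negSucc 6, .negSucc 7,
  .ofNat 0, .negSucc 14, .negSucc 2, .negSucc 8, .negSucc 7, .ofNat 0, .ofNat 0, .ofNat 6, .ofNat 0,
  .ofNat 0, .negSucc 0, .negSucc 5, .ofNat 0, .ofNat 0, .ofNat 0, .ofNat 9, .ofNat 4, .ofNat 4, .ofNat 0,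
  .ofNat 6, .ofNat 8, .negSucc 7, .ofNat 0, .negSucc 9, .ofNat 13, .ofNat 0, .ofNat 0, .ofNat 3, .ofNat 0,
  .ofNat 10, .negSucc 2, .ofNat 3, .ofNat 0, .ofNat 3, .ofNat 5, .ofNat 0, .ofNat 0, .negSucc 8, .ofNat 1,
  .ofNat 0, .ofNat 0, .negSucc 6, .ofNat 0, .ofNat 3, .ofNat 0, .ofNat 0, .ofNat 0, .negSucc 5, .ofNat 16,
  .ofNat 0, .ofNat 0, .ofNat 5, .ofNat 2, .ofNat 0, .ofNat 0, .ofNat 0, .ofNat 0, .negSucc 7, .ofNat 3,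
  .ofNat 10, .ofNat 0, .ofNat 18, .ofNat 0, .negSucc 31, .ofNat 0, .ofNat 0, .ofNat 0, .ofNat 10, .negSucc 2,
  .ofNat 0, .negSucc 17, .ofNat 3, .ofNat 0, .negSucc 8, .negSucc 4, .negSucc 5, .ofNat 0, .ofNat 0,
  .ofNat 4, .ofNat 0, .negSucc 15, .negSucc 31, .ofNat 5, .ofNat 0, .ofNat 0, .ofNat 0, .ofNat 0,
  .negSucc 12, .ofNat 16, .ofNat 0, .ofNat 8, .ofNat 6, .negSucc 9, .ofNat 0, .ofNat 0, .ofNat 12, .ofNat 0,
  .ofNat 0, .ofNat 14, .ofNat 6, .ofNat 14, .ofNat 0, .negSucc 7, .ofNat 0, .ofNat 0, .ofNat 0, .negSucc 18,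
  .ofNat 0, .ofNat 0, .ofNat 16, .ofNat 1, .negSucc 7, .ofNat 0, .ofNat 0, .ofNat 0, .ofNat 0, .ofNat 0,
  .ofNat 0, .ofNat 0, .ofNat 0, .ofNat 0, .ofNat 0, .negSucc 8, .ofNat 32, .ofNat 3, .ofNat 15, .ofNat 16,
  .ofNat 0, .ofNat 0, .ofNat 0, .negSucc 7, .negSucc 7, .ofNat 32, .negSucc 14, .ofNat 0, .ofNat 0, .ofNat 0,
  .ofNat 0, .ofNat 0, .ofNat 0, .ofNat 0, .ofNat 0, .ofNat 0, .ofNat 0, .negSucc 4, .negSucc 3, .negSucc 1,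
  .negSucc 2, .negSucc 2, .negSucc 0, .negSucc 21, .ofNat 13]

/-- the values at 15D -/
def col52 : List ℤ :=
  [.ofNat 1, .negSucc 0, .negSucc 1, .ofNat 2, .negSucc 1, .ofNat 3, .ofNat 1, .negSucc 0, .ofNat 0,
  .negSucc 1, .ofNat 0, .ofNat 3, .negSucc 1, .ofNat 6, .negSucc 3, .ofNat 0, .negSucc 2, .ofNat 5,
  .negSucc 1, .ofNat 0, .ofNat 3, .ofNat 6, .negSucc 2, .negSucc 4, .ofNat 24, .ofNat 0, .negSucc 2,
  .ofNat 0, .ofNat 0, .ofNat 2, .ofNat 6, .negSucc 2, .ofNat 0, .ofNat 0, .negSucc 2, .negSucc 25, .ofNat 16,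
  .negSucc 5, .ofNat 0, .negSucc 9, .ofNat 4, .ofNat 0, .ofNat 8, .ofNat 10, .ofNat 0, .ofNat 0, .ofNat 0,
  .ofNat 0, .negSucc 19, .ofNat 6, .ofNat 0, .ofNat 0, .ofNat 0, .negSucc 6, .ofNat 9, .ofNat 0, .ofNat 0,
  .negSucc 10, .ofNat 0, .ofNat 0, .negSucc 6, .ofNat 0, .ofNat 15, .negSucc 8, .ofNat 9, .ofNat 0,
  .negSucc 14, .ofNat 4, .ofNat 0, .ofNat 0, .ofNat 5, .ofNat 11, .ofNat 0, .ofNat 0, .ofNat 0, .ofNat 0,
  .ofNat 13, .ofNat 0, .negSucc 1, .ofNat 0, .ofNat 0, .ofNat 0, .ofNat 16, .ofNat 0, .ofNat 24, .negSucc 23,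
  .negSucc 10, .ofNat 0, .ofNat 0, .ofNat 0, .ofNat 0, .ofNat 0, .ofNat 0, .negSucc 1, .ofNat 0, .ofNat 0,
  .ofNat 0, .ofNat 4, .ofNat 15, .ofNat 8, .ofNat 16, .ofNat 2, .ofNat 0, .ofNat 0, .ofNat 0, .ofNat 9,
  .ofNat 2, .negSucc 7, .ofNat 0, .negSucc 3, .ofNat 6, .negSucc 9, .ofNat 0, .ofNat 9, .negSucc 5,
  .negSucc 8, .ofNat 0, .negSucc 3, .ofNat 0, .ofNat 2, .ofNat 0, .negSucc 7, .ofNat 0, .ofNat 0, .ofNat 0,
  .ofNat 2, .ofNat 0, .ofNat 0, .negSucc 7, .ofNat 10, .negSucc 7, .ofNat 15, .ofNat 0, .ofNat 0,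
  .negSucc 14, .negSucc 23, .ofNat 0, .ofNat 0, .ofNat 0, .negSucc 23, .ofNat 0, .ofNat 0, .ofNat 8,
  .ofNat 0, .ofNat 0, .ofNat 16, .ofNat 0, .ofNat 0, .ofNat 0, .ofNat 16, .ofNat 16, .ofNat 8, .ofNat 0,
  .ofNat 0, .ofNat 0, .ofNat 0, .ofNat 0, .ofNat 24, .ofNat 0, .ofNat 0, .ofNat 0, .ofNat 0, .ofNat 0,
  .ofNat 7, .ofNat 8, .negSucc 16, .negSucc 2, .negSucc 2, .negSucc 12, .negSucc 18, .ofNat 13]

/-- the values at 16A -/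
def col53 : List ℤ :=
  [.ofNat 1, .ofNat 3, .negSucc 3, .ofNat 6, .ofNat 12, .negSucc 8, .ofNat 2, .negSucc 9, .ofNat 15,
  .ofNat 3, .ofNat 15, .negSucc 14, .negSucc 10, .ofNat 14, .ofNat 0, .negSucc 1, .negSucc 7, .ofNat 9,
  .ofNat 14, .ofNat 12, .ofNat 5, .negSucc 21, .ofNat 8, .negSucc 2, .negSucc 5, .ofNat 5, .ofNat 0,
  .negSucc 10, .ofNat 1, .ofNat 9, .ofNat 13, .ofNat 0, .ofNat 8, .negSucc 9, .negSucc 5, .negSucc 7,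
  .ofNat 0, .ofNat 0, .negSucc 11, .ofNat 0, .negSucc 3, .ofNat 0, .ofNat 0, .negSucc 3, .ofNat 14,
  .negSucc 5, .ofNat 0, .ofNat 3, .ofNat 0, .ofNat 0, .ofNat 3, .negSucc 7, .ofNat 0, .ofNat 0, .negSucc 7,
  .ofNat 12, .negSucc 1, .ofNat 8, .ofNat 4, .ofNat 22, .ofNat 1, .negSucc 1, .ofNat 8, .negSucc 18,
  .ofNat 0, .ofNat 0, .ofNat 12, .ofNat 0, .negSucc 3, .ofNat 8, .ofNat 3, .negSucc 7, .negSucc 35,
  .negSucc 17, .ofNat 1, .negSucc 1, .ofNat 8, .ofNat 0, .ofNat 0, .ofNat 0, .ofNat 6, .negSucc 4, .ofNat 0,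
  .negSucc 12, .negSucc 11, .negSucc 17, .negSucc 7, .negSucc 12, .ofNat 12, .ofNat 0, .ofNat 0, .negSucc 12,
  .ofNat 0, .negSucc 11, .negSucc 7, .ofNat 0, .ofNat 8, .ofNat 0, .ofNat 9, .ofNat 0, .ofNat 0, .ofNat 0,
  .negSucc 2, .negSucc 11, .ofNat 0, .ofNat 2, .negSucc 3, .ofNat 0, .negSucc 7, .ofNat 0, .ofNat 0,
  .ofNat 10, .ofNat 0, .ofNat 2, .ofNat 0, .ofNat 15, .ofNat 4, .ofNat 0, .ofNat 0, .negSucc 3, .ofNat 0,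
  .negSucc 11, .negSucc 7, .ofNat 10, .ofNat 5, .ofNat 0, .ofNat 0, .negSucc 11, .ofNat 0, .ofNat 0,
  .ofNat 0, .ofNat 9, .negSucc 2, .ofNat 0, .ofNat 18, .ofNat 12, .ofNat 7, .negSucc 7, .ofNat 1, .ofNat 0,
  .ofNat 0, .negSucc 18, .ofNat 0, .ofNat 0, .negSucc 20, .ofNat 0, .ofNat 15, .ofNat 5, .ofNat 13,
  .negSucc 6, .negSucc 22, .ofNat 0, .negSucc 14, .negSucc 11, .ofNat 12, .ofNat 9, .ofNat 3, .ofNat 12,
  .negSucc 0, .negSucc 1, .ofNat 14, .ofNat 2, .negSucc 0, .negSucc 2, .negSucc 6, .negSucc 14, .ofNat 8,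
  .negSucc 2, .negSucc 28, .negSucc 6, .negSucc 6]

/-- the values at 16B -/
def col54 : List ℤ :=
  [.ofNat 1, .negSucc 0, .ofNat 0, .ofNat 2, .ofNat 0, .negSucc 0, .negSucc 1, .ofNat 2, .negSucc 4,
  .ofNat 3, .ofNat 3, .ofNat 1, .ofNat 1, .ofNat 2, .ofNat 0, .negSucc 1, .ofNat 0, .negSucc 2, .negSucc 5,
  .ofNat 8, .ofNat 5, .negSucc 1, .negSucc 7, .ofNat 9, .negSucc 13, .ofNat 5, .ofNat 0, .negSucc 2,
  .negSucc 2, .ofNat 5, .ofNat 1, .ofNat 0, .ofNat 0, .ofNat 2, .negSucc 1, .negSucc 7, .ofNat 0, .ofNat 0,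
  .negSucc 19, .ofNat 0, .negSucc 11, .ofNat 0, .ofNat 0, .ofNat 8, .ofNat 22, .ofNat 2, .ofNat 0,
  .negSucc 0, .ofNat 0, .ofNat 0, .negSucc 4, .negSucc 15, .ofNat 0, .ofNat 0, .ofNat 0, .ofNat 8, .ofNat 10,
  .ofNat 16, .negSucc 7, .negSucc 9, .ofNat 1, .negSucc 17, .negSucc 7, .ofNat 5, .ofNat 0, .ofNat 0,
  .negSucc 3, .ofNat 0, .ofNat 4, .ofNat 0, .ofNat 7, .ofNat 0, .negSucc 11, .negSucc 5, .ofNat 5,
  .negSucc 5, .ofNat 0, .ofNat 0, .ofNat 0, .ofNat 0, .ofNat 22, .negSucc 0, .ofNat 0, .ofNat 7, .ofNat 28,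
  .ofNat 14, .negSucc 15, .ofNat 11, .ofNat 4, .ofNat 0, .ofNat 0, .ofNat 3, .ofNat 0, .negSucc 7,
  .negSucc 15, .ofNat 0, .ofNat 0, .ofNat 0, .ofNat 13, .ofNat 0, .ofNat 0, .ofNat 0, .ofNat 21, .negSucc 3,
  .ofNat 0, .negSucc 1, .ofNat 8, .ofNat 0, .ofNat 8, .ofNat 0, .ofNat 0, .ofNat 6, .ofNat 0, .ofNat 14,
  .ofNat 0, .ofNat 7, .ofNat 12, .ofNat 0, .ofNat 0, .ofNat 4, .ofNat 0, .ofNat 12, .negSucc 15, .negSucc 9,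
  .negSucc 10, .ofNat 0, .ofNat 0, .ofNat 0, .ofNat 0, .ofNat 0, .ofNat 0, .negSucc 14, .negSucc 6, .ofNat 0,
  .negSucc 1, .ofNat 0, .ofNat 3, .negSucc 15, .ofNat 5, .ofNat 0, .ofNat 0, .negSucc 10, .ofNat 0, .ofNat 0,
  .negSucc 0, .ofNat 0, .negSucc 4, .negSucc 14, .ofNat 9, .ofNat 9, .ofNat 13, .ofNat 0, .negSucc 10,
  .ofNat 4, .ofNat 8, .ofNat 1, .negSucc 4, .ofNat 0, .ofNat 7, .negSucc 5, .negSucc 13, .ofNat 6, .ofNat 11,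
  .ofNat 5, .ofNat 13, .ofNat 21, .ofNat 12, .ofNat 13, .ofNat 27, .ofNat 13, .ofNat 13]

/-- the values at 16C -/
def col55 : List ℤ :=
  [.ofNat 1, .ofNat 7, .ofNat 8, .ofNat 10, .ofNat 8, .ofNat 15, .ofNat 6, .ofNat 10, .ofNat 3, .ofNat 3,
  .negSucc 4, .ofNat 1, .ofNat 9, .negSucc 5, .ofNat 0, .negSucc 1, .negSucc 15, .negSucc 10, .ofNat 2,
  .ofNat 0, .ofNat 5, .negSucc 9, .negSucc 7, .negSucc 14, .ofNat 2, .ofNat 5, .ofNat 0, .ofNat 13, .ofNat 5,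
  .ofNat 13, .negSucc 6, .ofNat 0, .ofNat 16, .ofNat 10, .negSucc 9, .negSucc 7, .ofNat 0, .ofNat 0,
  .negSucc 3, .ofNat 0, .ofNat 4, .ofNat 0, .ofNat 0, .ofNat 0, .ofNat 6, .negSucc 13, .ofNat 0, .ofNat 7,
  .ofNat 0, .ofNat 0, .ofNat 11, .ofNat 0, .ofNat 0, .ofNat 0, .negSucc 15, .ofNat 0, .ofNat 18, .ofNat 0,
  .ofNat 0, .negSucc 9, .ofNat 1, .ofNat 14, .negSucc 7, .negSucc 10, .ofNat 0, .ofNat 0, .negSucc 3,
  .ofNat 0, .negSucc 11, .negSucc 15, .negSucc 0, .negSucc 15, .ofNat 4, .ofNat 2, .negSucc 2, .ofNat 2,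
  .ofNat 16, .ofNat 0, .ofNat 0, .ofNat 0, .negSucc 9, .negSucc 8, .ofNat 0, .negSucc 0, .ofNat 12,
  .ofNat 14, .ofNat 0, .negSucc 4, .negSucc 11, .ofNat 0, .ofNat 0, .ofNat 3, .ofNat 0, .ofNat 0, .ofNat 0,
  .ofNat 0, .ofNat 16, .ofNat 0, .ofNat 5, .ofNat 0, .ofNat 0, .ofNat 0, .ofNat 5, .negSucc 19, .ofNat 0,
  .ofNat 6, .ofNat 0, .ofNat 0, .ofNat 8, .ofNat 0, .ofNat 0, .ofNat 14, .ofNat 0, .negSucc 9, .ofNat 0,
  .negSucc 8, .negSucc 3, .ofNat 0, .ofNat 0, .negSucc 11, .ofNat 0, .negSucc 3, .ofNat 0, .negSucc 1,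
  .negSucc 10, .ofNat 0, .ofNat 0, .negSucc 7, .ofNat 0, .ofNat 0, .ofNat 0, .ofNat 1, .ofNat 1, .ofNat 0,
  .ofNat 6, .ofNat 8, .ofNat 11, .ofNat 0, .negSucc 2, .ofNat 0, .ofNat 0, .ofNat 5, .ofNat 0, .ofNat 0,
  .negSucc 8, .ofNat 0, .ofNat 3, .negSucc 6, .negSucc 14, .ofNat 9, .ofNat 5, .ofNat 0, .ofNat 13, .ofNat 4,
  .ofNat 0, .negSucc 14, .ofNat 11, .ofNat 8, .negSucc 8, .ofNat 2, .ofNat 10, .negSucc 1, .negSucc 12,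
  .ofNat 5, .ofNat 5, .ofNat 13, .ofNat 4, .negSucc 2, .ofNat 11, .ofNat 5, .ofNat 5]

/-- the values at 17A -/
def col56 : List ℤ :=
  [.ofNat 1, .ofNat 6, .ofNat 7, .ofNat 8, .ofNat 6, .ofNat 8, .ofNat 7, .ofNat 6, .ofNat 0, .ofNat 0,
  .ofNat 0, .ofNat 0, .negSucc 7, .ofNat 1, .negSucc 5, .ofNat 0, .ofNat 0, .ofNat 0, .negSucc 5, .negSucc 0,
  .negSucc 6, .ofNat 0, .ofNat 0, .ofNat 6, .ofNat 0, .negSucc 7, .ofNat 6, .ofNat 0, .ofNat 7, .negSucc 5,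
  .ofNat 0, .ofNat 0, .ofNat 0, .negSucc 6, .ofNat 8, .ofNat 0, .ofNat 0, .ofNat 0, .ofNat 0, .ofNat 8,
  .ofNat 6, .ofNat 6, .negSucc 5, .ofNat 7, .ofNat 2, .ofNat 0, .ofNat 0, .ofNat 0, .ofNat 0, .negSucc 5,
  .negSucc 7, .ofNat 1, .ofNat 0, .ofNat 0, .ofNat 0, .ofNat 0, .ofNat 0, .ofNat 0, .ofNat 0, .ofNat 2,
  .ofNat 0, .ofNat 0, .ofNat 0, .negSucc 7, .negSucc 6, .negSucc 6, .negSucc 0, .ofNat 0, .ofNat 0, .ofNat 0,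
  .ofNat 0, .ofNat 0, .ofNat 0, .ofNat 6, .ofNat 0, .ofNat 0, .ofNat 0, .ofNat 0, .negSucc 0, .ofNat 0,
  .ofNat 0, .ofNat 8, .ofNat 16, .ofNat 8, .ofNat 0, .ofNat 0, .ofNat 0, .ofNat 0, .ofNat 6, .ofNat 0,
  .negSucc 5, .ofNat 0, .ofNat 0, .ofNat 0, .ofNat 0, .negSucc 5, .ofNat 0, .negSucc 5, .ofNat 6, .ofNat 6,
  .ofNat 12, .ofNat 0, .ofNat 0, .ofNat 0, .negSucc 5, .negSucc 7, .ofNat 0, .ofNat 1, .ofNat 0, .ofNat 0,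
  .ofNat 0, .ofNat 8, .ofNat 7, .ofNat 7, .ofNat 0, .ofNat 0, .negSucc 6, .ofNat 0, .negSucc 7, .ofNat 0,
  .negSucc 7, .ofNat 0, .negSucc 6, .negSucc 0, .ofNat 7, .ofNat 7, .ofNat 1, .ofNat 1, .ofNat 0, .ofNat 0,
  .ofNat 0, .ofNat 0, .ofNat 8, .ofNat 0, .ofNat 6, .ofNat 0, .ofNat 0, .ofNat 0, .ofNat 0, .negSucc 5,
  .negSucc 0, .ofNat 0, .negSucc 6, .ofNat 0, .ofNat 0, .negSucc 0, .ofNat 0, .ofNat 0, .negSucc 6, .ofNat 0,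
  .ofNat 0, .ofNat 0, .ofNat 0, .ofNat 0, .ofNat 0, .ofNat 0, .ofNat 1, .negSucc 5, .ofNat 0, .ofNat 0,
  .ofNat 6, .ofNat 7, .ofNat 0, .ofNat 0, .ofNat 0, .ofNat 0, .ofNat 0, .ofNat 0, .ofNat 0, .ofNat 0,
  .ofNat 0]

/-- the values at 18A -/
def col57 : List ℤ :=
  [.ofNat 1, .negSucc 2, .ofNat 3, .ofNat 1, .ofNat 5, .ofNat 2, .negSucc 5, .negSucc 5, .ofNat 0, .ofNat 1,
  .ofNat 9, .ofNat 3, .negSucc 2, .negSucc 9, .ofNat 1, .ofNat 16, .ofNat 6, .ofNat 5, .ofNat 0, .negSucc 5,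
  .negSucc 3, .ofNat 6, .negSucc 5, .negSucc 16, .ofNat 0, .ofNat 0, .ofNat 2, .negSucc 8, .ofNat 9,
  .ofNat 1, .negSucc 11, .ofNat 22, .ofNat 4, .ofNat 9, .ofNat 4, .ofNat 26, .ofNat 32, .ofNat 2, .ofNat 0,
  .ofNat 6, .negSucc 9, .ofNat 12, .ofNat 30, .negSucc 2, .negSucc 11, .negSucc 47, .ofNat 0, .ofNat 6,
  .ofNat 58, .negSucc 2, .ofNat 0, .negSucc 5, .negSucc 8, .negSucc 26, .ofNat 0, .ofNat 9, .ofNat 0,
  .ofNat 35, .ofNat 23, .ofNat 0, .negSucc 17, .ofNat 26, .ofNat 14, .ofNat 0, .ofNat 0, .ofNat 9,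
  .negSucc 29, .ofNat 0, .negSucc 29, .ofNat 48, .ofNat 28, .negSucc 11, .negSucc 5, .ofNat 9, .ofNat 0,
  .ofNat 3, .negSucc 5, .negSucc 8, .ofNat 27, .ofNat 18, .ofNat 0, .ofNat 0, .ofNat 0, .negSucc 26,
  .ofNat 0, .ofNat 0, .ofNat 2, .ofNat 0, .negSucc 1, .ofNat 12, .ofNat 0, .ofNat 18, .ofNat 0, .negSucc 11,
  .ofNat 0, .negSucc 7, .ofNat 0, .negSucc 0, .ofNat 0, .ofNat 8, .negSucc 15, .negSucc 38, .ofNat 6,
  .ofNat 16, .negSucc 29, .ofNat 0, .ofNat 0, .ofNat 16, .negSucc 7, .ofNat 20, .negSucc 5, .negSucc 6,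
  .ofNat 24, .ofNat 0, .ofNat 12, .ofNat 0, .negSucc 11, .ofNat 6, .negSucc 17, .negSucc 26, .ofNat 0,
  .ofNat 0, .ofNat 0, .ofNat 0, .ofNat 0, .negSucc 8, .ofNat 0, .ofNat 33, .negSucc 47, .ofNat 23, .ofNat 0,
  .ofNat 0, .ofNat 0, .negSucc 26, .ofNat 0, .ofNat 0, .ofNat 15, .ofNat 0, .ofNat 0, .ofNat 0, .ofNat 7,
  .ofNat 0, .ofNat 16, .ofNat 0, .ofNat 0, .ofNat 24, .ofNat 0, .negSucc 22, .ofNat 0, .negSucc 26,
  .ofNat 27, .negSucc 39, .ofNat 0, .negSucc 30, .ofNat 12, .ofNat 16, .ofNat 0, .ofNat 0, .ofNat 0,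
  .ofNat 20, .ofNat 3, .ofNat 0, .ofNat 0, .negSucc 17, .negSucc 26, .negSucc 26, .negSucc 17, .ofNat 18,
  .ofNat 9, .negSucc 8, .negSucc 8]

/-- the values at 18B -/
def col58 : List ℤ :=
  [.ofNat 1, .ofNat 6, .ofNat 3, .ofNat 10, .ofNat 14, .ofNat 2, .ofNat 3, .negSucc 5, .ofNat 9, .ofNat 19,
  .negSucc 8, .negSucc 23, .negSucc 20, .ofNat 26, .ofNat 1, .negSucc 1, .negSucc 2, .ofNat 5, .negSucc 17,
  .ofNat 21, .negSucc 30, .ofNat 15, .ofNat 12, .ofNat 1, .ofNat 0, .ofNat 9, .ofNat 20, .negSucc 8,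
  .negSucc 26, .negSucc 16, .ofNat 6, .negSucc 4, .ofNat 4, .ofNat 9, .ofNat 13, .negSucc 9, .negSucc 3,
  .ofNat 2, .ofNat 0, .negSucc 11, .negSucc 9, .ofNat 3, .ofNat 30, .negSucc 11, .ofNat 6, .negSucc 11,
  .ofNat 0, .ofNat 15, .ofNat 4, .negSucc 11, .negSucc 8, .ofNat 3, .ofNat 9, .negSucc 8, .ofNat 0,
  .ofNat 18, .ofNat 0, .negSucc 0, .ofNat 5, .ofNat 0, .ofNat 0, .ofNat 26, .negSucc 12, .ofNat 0, .ofNat 0,
  .negSucc 26, .negSucc 2, .ofNat 0, .negSucc 11, .negSucc 5, .ofNat 10, .negSucc 11, .negSucc 5, .ofNat 0,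
  .ofNat 0, .negSucc 5, .negSucc 14, .negSucc 8, .ofNat 0, .ofNat 0, .ofNat 0, .ofNat 0, .ofNat 0, .ofNat 9,
  .ofNat 0, .ofNat 0, .ofNat 2, .ofNat 9, .negSucc 10, .ofNat 30, .ofNat 0, .ofNat 9, .ofNat 0, .ofNat 24,
  .ofNat 9, .ofNat 10, .negSucc 8, .ofNat 17, .ofNat 0, .ofNat 8, .negSucc 15, .ofNat 6, .negSucc 11,
  .negSucc 19, .negSucc 2, .ofNat 0, .ofNat 9, .negSucc 19, .ofNat 19, .negSucc 15, .ofNat 30, .negSucc 24,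
  .negSucc 11, .ofNat 0, .ofNat 3, .ofNat 0, .ofNat 15, .negSucc 11, .ofNat 18, .negSucc 17, .ofNat 0,
  .ofNat 9, .ofNat 9, .ofNat 0, .ofNat 0, .negSucc 8, .ofNat 0, .negSucc 11, .negSucc 11, .negSucc 21,
  .ofNat 0, .ofNat 0, .ofNat 0, .negSucc 17, .ofNat 0, .ofNat 0, .ofNat 24, .ofNat 18, .ofNat 0, .ofNat 0,
  .negSucc 1, .ofNat 0, .negSucc 19, .ofNat 9, .ofNat 0, .negSucc 11, .ofNat 0, .ofNat 4, .ofNat 0, .ofNat 9,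
  .ofNat 9, .ofNat 32, .ofNat 0, .negSucc 30, .negSucc 5, .negSucc 1, .ofNat 0, .ofNat 0, .ofNat 0,
  .negSucc 6, .negSucc 5, .ofNat 9, .ofNat 0, .negSucc 8, .negSucc 8, .ofNat 0, .ofNat 9, .negSucc 8,
  .ofNat 9, .ofNat 9, .ofNat 0]

/-- the values at 18C -/
def col59 : List ℤ :=
  [.ofNat 1, .ofNat 2, .negSucc 4, .ofNat 2, .ofNat 10, .negSucc 5, .ofNat 3, .negSucc 5, .ofNat 9,
  .negSucc 4, .ofNat 15, .ofNat 0, .negSucc 8, .ofNat 6, .ofNat 5, .ofNat 6, .negSucc 6, .negSucc 2,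
  .ofNat 6, .ofNat 1, .ofNat 13, .negSucc 20, .ofNat 0, .negSucc 10, .ofNat 0, .ofNat 9, .negSucc 3,
  .ofNat 15, .negSucc 2, .negSucc 8, .ofNat 6, .ofNat 11, .ofNat 8, .negSucc 14, .ofNat 1, .ofNat 6,
  .negSucc 11, .negSucc 9, .ofNat 0, .ofNat 12, .negSucc 17, .negSucc 0, .ofNat 2, .ofNat 12, .ofNat 14,
  .ofNat 12, .ofNat 0, .negSucc 20, .negSucc 3, .negSucc 11, .negSucc 8, .negSucc 8, .ofNat 21, .ofNat 15,
  .ofNat 0, .ofNat 6, .ofNat 0, .negSucc 4, .negSucc 10, .ofNat 0, .ofNat 0, .negSucc 5, .ofNat 15, .ofNat 0,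
  .ofNat 0, .ofNat 9, .negSucc 10, .ofNat 16, .negSucc 3, .negSucc 29, .negSucc 25, .ofNat 0, .ofNat 26,
  .ofNat 12, .ofNat 0, .ofNat 6, .negSucc 10, .negSucc 8, .ofNat 16, .negSucc 23, .ofNat 0, .ofNat 0,
  .ofNat 0, .negSucc 14, .ofNat 0, .ofNat 0, .negSucc 17, .ofNat 9, .negSucc 6, .ofNat 18, .ofNat 0,
  .ofNat 21, .ofNat 0, .ofNat 16, .ofNat 9, .ofNat 6, .negSucc 8, .negSucc 18, .ofNat 0, .ofNat 0, .ofNat 0,
  .negSucc 5, .ofNat 0, .ofNat 12, .ofNat 13, .ofNat 0, .ofNat 1, .ofNat 0, .ofNat 15, .negSucc 15,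
  .negSucc 13, .negSucc 4, .ofNat 0, .ofNat 0, .ofNat 23, .ofNat 0, .negSucc 0, .ofNat 4, .ofNat 6, .ofNat 6,
  .negSucc 7, .negSucc 2, .ofNat 9, .ofNat 0, .ofNat 0, .negSucc 0, .ofNat 0, .ofNat 12, .negSucc 11,
  .ofNat 6, .ofNat 16, .ofNat 0, .ofNat 0, .negSucc 21, .ofNat 0, .ofNat 0, .ofNat 8, .negSucc 13, .ofNat 0,
  .ofNat 0, .ofNat 18, .ofNat 0, .ofNat 0, .ofNat 9, .ofNat 0, .ofNat 0, .ofNat 0, .ofNat 16, .ofNat 0,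
  .negSucc 2, .negSucc 2, .ofNat 0, .ofNat 0, .negSucc 6, .ofNat 6, .negSucc 17, .ofNat 0, .ofNat 0,
  .ofNat 0, .negSucc 14, .ofNat 6, .ofNat 9, .ofNat 0, .ofNat 27, .ofNat 15, .ofNat 12, .negSucc 2,
  .ofNat 27, .ofNat 9, .ofNat 9, .ofNat 12]

/-- the values at 18D -/
def col60 : List ℤ :=
  [.ofNat 1, .negSucc 0, .ofNat 1, .negSucc 0, .ofNat 1, .ofNat 0, .ofNat 0, .ofNat 0, .ofNat 0, .ofNat 1,
  .ofNat 3, .negSucc 2, .ofNat 3, .ofNat 0, .negSucc 0, .ofNat 12, .ofNat 2, .negSucc 2, .negSucc 5,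
  .ofNat 4, .ofNat 4, .ofNat 0, .negSucc 5, .ofNat 7, .ofNat 0, .ofNat 0, .ofNat 2, .ofNat 3, .negSucc 2,
  .ofNat 3, .ofNat 0, .ofNat 2, .ofNat 2, .negSucc 2, .negSucc 1, .negSucc 17, .ofNat 12, .ofNat 2, .ofNat 0,
  .negSucc 5, .negSucc 5, .ofNat 2, .ofNat 2, .ofNat 9, .negSucc 3, .negSucc 11, .ofNat 0, .ofNat 0,
  .negSucc 9, .ofNat 3, .ofNat 0, .negSucc 5, .ofNat 3, .negSucc 2, .ofNat 0, .negSucc 2, .ofNat 0,
  .negSucc 4, .ofNat 1, .ofNat 0, .ofNat 6, .negSucc 5, .ofNat 0, .ofNat 0, .ofNat 0, .ofNat 3, .negSucc 1,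
  .ofNat 16, .negSucc 9, .ofNat 12, .negSucc 1, .ofNat 12, .ofNat 14, .ofNat 9, .ofNat 0, .ofNat 3,
  .negSucc 1, .negSucc 8, .ofNat 1, .ofNat 0, .ofNat 0, .ofNat 0, .ofNat 0, .ofNat 9, .ofNat 0, .ofNat 0,
  .negSucc 5, .ofNat 0, .ofNat 2, .ofNat 6, .ofNat 0, .ofNat 0, .ofNat 0, .negSucc 7, .ofNat 0, .ofNat 12,
  .ofNat 0, .negSucc 0, .ofNat 0, .ofNat 0, .ofNat 0, .ofNat 9, .negSucc 5, .negSucc 11, .ofNat 10, .ofNat 0,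
  .negSucc 7, .ofNat 0, .negSucc 5, .ofNat 8, .ofNat 10, .ofNat 7, .ofNat 0, .ofNat 0, .negSucc 3, .ofNat 0,
  .ofNat 2, .negSucc 1, .ofNat 0, .negSucc 2, .ofNat 4, .negSucc 5, .ofNat 0, .ofNat 0, .ofNat 0, .negSucc 0,
  .ofNat 0, .ofNat 9, .negSucc 5, .ofNat 9, .ofNat 4, .ofNat 0, .ofNat 0, .negSucc 0, .ofNat 0, .ofNat 0,
  .negSucc 0, .negSucc 1, .ofNat 0, .ofNat 0, .negSucc 2, .ofNat 0, .ofNat 0, .ofNat 0, .ofNat 0, .ofNat 0,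
  .ofNat 0, .ofNat 1, .ofNat 0, .negSucc 14, .negSucc 14, .ofNat 0, .ofNat 0, .negSucc 0, .negSucc 5,
  .ofNat 0, .ofNat 0, .ofNat 0, .ofNat 0, .ofNat 6, .ofNat 3, .ofNat 0, .ofNat 0, .negSucc 5, .negSucc 2,
  .ofNat 9, .ofNat 6, .negSucc 5, .ofNat 9, .ofNat 15, .ofNat 3]

/-- the values at 18E -/
def col61 : List ℤ :=
  [.ofNat 1, .ofNat 5, .ofNat 7, .ofNat 5, .ofNat 1, .ofNat 6, .ofNat 6, .ofNat 6, .ofNat 0, .negSucc 10,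
  .ofNat 9, .ofNat 3, .negSucc 2, .negSucc 5, .negSucc 6, .ofNat 0, .ofNat 2, .negSucc 2, .ofNat 0,
  .negSucc 1, .ofNat 4, .negSucc 5, .ofNat 6, .ofNat 7, .ofNat 0, .ofNat 0, .negSucc 9, .negSucc 8,
  .negSucc 2, .negSucc 2, .ofNat 12, .ofNat 2, .negSucc 3, .ofNat 9, .ofNat 4, .negSucc 5, .ofNat 0,
  .ofNat 14, .ofNat 0, .negSucc 5, .ofNat 6, .negSucc 3, .ofNat 2, .negSucc 2, .negSucc 3, .ofNat 0,
  .ofNat 0, .negSucc 5, .ofNat 2, .ofNat 9, .ofNat 0, .ofNat 6, .ofNat 3, .negSucc 2, .ofNat 0, .negSucc 2,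
  .ofNat 0, .negSucc 4, .negSucc 4, .ofNat 0, .negSucc 5, .negSucc 5, .negSucc 5, .ofNat 0, .ofNat 0,
  .negSucc 2, .negSucc 1, .ofNat 16, .ofNat 2, .ofNat 0, .ofNat 4, .negSucc 11, .ofNat 2, .negSucc 2,
  .ofNat 0, .negSucc 8, .negSucc 1, .negSucc 8, .negSucc 4, .ofNat 6, .ofNat 0, .ofNat 0, .ofNat 0,
  .negSucc 2, .ofNat 0, .ofNat 0, .ofNat 6, .ofNat 0, .ofNat 2, .ofNat 12, .ofNat 0, .ofNat 6, .ofNat 0,
  .ofNat 4, .ofNat 0, .ofNat 0, .ofNat 0, .negSucc 0, .ofNat 0, .ofNat 0, .ofNat 0, .negSucc 2, .ofNat 6,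
  .ofNat 0, .negSucc 1, .ofNat 0, .negSucc 7, .ofNat 0, .ofNat 0, .negSucc 3, .negSucc 1, .ofNat 1, .ofNat 0,
  .ofNat 0, .negSucc 3, .ofNat 0, .negSucc 3, .ofNat 10, .negSucc 5, .negSucc 2, .ofNat 16, .ofNat 0,
  .ofNat 0, .ofNat 0, .ofNat 0, .negSucc 0, .ofNat 0, .negSucc 2, .ofNat 0, .ofNat 3, .negSucc 7, .ofNat 0,
  .ofNat 0, .negSucc 6, .ofNat 0, .ofNat 0, .negSucc 0, .negSucc 7, .ofNat 0, .ofNat 0, .ofNat 3, .ofNat 0,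
  .ofNat 0, .ofNat 0, .ofNat 0, .ofNat 0, .ofNat 0, .ofNat 13, .ofNat 0, .ofNat 9, .negSucc 8, .ofNat 0,
  .ofNat 0, .ofNat 5, .ofNat 0, .ofNat 0, .ofNat 0, .ofNat 0, .ofNat 0, .ofNat 0, .negSucc 8, .ofNat 0,
  .ofNat 0, .ofNat 6, .negSucc 2, .negSucc 2, .ofNat 6, .ofNat 6, .ofNat 9, .ofNat 3, .ofNat 3]

/-- the values at 19A -/
def col62 : List ℤ :=
  [.ofNat 1, .ofNat 5, .ofNat 4, .ofNat 5, .ofNat 4, .ofNat 6, .ofNat 0, .ofNat 0, .ofNat 0, .ofNat 1,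
  .negSucc 4, .negSucc 3, .ofNat 4, .ofNat 0, .negSucc 0, .ofNat 0, .negSucc 5, .negSucc 3, .ofNat 0,
  .ofNat 0, .ofNat 0, .ofNat 0, .ofNat 0, .negSucc 4, .negSucc 1, .ofNat 6, .ofNat 0, .ofNat 4, .ofNat 1,
  .ofNat 5, .ofNat 0, .ofNat 0, .ofNat 0, .ofNat 5, .ofNat 0, .ofNat 2, .ofNat 0, .ofNat 0, .ofNat 0,
  .negSucc 0, .ofNat 0, .negSucc 0, .ofNat 0, .ofNat 0, .ofNat 0, .ofNat 0, .ofNat 0, .ofNat 0, .ofNat 0,
  .ofNat 0, .ofNat 0, .negSucc 4, .ofNat 1, .ofNat 0, .ofNat 5, .negSucc 3, .negSucc 5, .ofNat 0, .negSucc 4,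
  .ofNat 0, .ofNat 0, .ofNat 0, .ofNat 0, .ofNat 4, .negSucc 0, .ofNat 1, .ofNat 0, .ofNat 0, .ofNat 0,
  .ofNat 0, .ofNat 0, .ofNat 5, .negSucc 5, .negSucc 3, .ofNat 0, .ofNat 0, .ofNat 0, .ofNat 0, .ofNat 0,
  .ofNat 0, .ofNat 0, .ofNat 0, .ofNat 8, .negSucc 4, .negSucc 7, .negSucc 9, .ofNat 0, .ofNat 0, .ofNat 0,
  .ofNat 0, .ofNat 0, .ofNat 0, .ofNat 0, .ofNat 0, .ofNat 6, .ofNat 0, .ofNat 0, .ofNat 1, .ofNat 0,
  .ofNat 0, .ofNat 0, .ofNat 6, .ofNat 0, .ofNat 0, .ofNat 0, .ofNat 0, .ofNat 4, .negSucc 0, .ofNat 0,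
  .ofNat 0, .ofNat 0, .ofNat 0, .negSucc 0, .ofNat 0, .ofNat 0, .ofNat 0, .ofNat 0, .ofNat 5, .ofNat 0,
  .ofNat 0, .ofNat 0, .ofNat 0, .ofNat 0, .ofNat 0, .ofNat 0, .ofNat 0, .ofNat 0, .ofNat 0, .ofNat 0,
  .ofNat 1, .ofNat 0, .ofNat 0, .ofNat 1, .ofNat 0, .ofNat 0, .negSucc 3, .ofNat 0, .ofNat 0, .ofNat 0,
  .negSucc 0, .ofNat 0, .ofNat 0, .negSucc 4, .ofNat 0, .ofNat 0, .negSucc 4, .negSucc 5, .ofNat 0, .ofNat 4,
  .ofNat 0, .ofNat 0, .negSucc 5, .ofNat 0, .ofNat 0, .ofNat 4, .ofNat 0, .ofNat 0, .negSucc 4, .ofNat 5,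
  .ofNat 5, .ofNat 0, .ofNat 0, .ofNat 6, .ofNat 0, .negSucc 3, .ofNat 0, .ofNat 0, .ofNat 0, .ofNat 0,
  .ofNat 0, .ofNat 4]

/-- the values at 20A -/
def col63 : List ℤ :=
  [.ofNat 1, .ofNat 5, .ofNat 2, .ofNat 3, .ofNat 6, .ofNat 8, .negSucc 0, .negSucc 6, .negSucc 11,
  .ofNat 11, .negSucc 6, .ofNat 6, .ofNat 2, .ofNat 1, .ofNat 16, .ofNat 0, .negSucc 31, .ofNat 9,
  .negSucc 12, .ofNat 5, .ofNat 3, .negSucc 10, .ofNat 7, .ofNat 20, .negSucc 5, .negSucc 29, .ofNat 38,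
  .ofNat 45, .ofNat 0, .negSucc 22, .negSucc 23, .ofNat 13, .ofNat 40, .ofNat 10, .negSucc 15, .ofNat 14,
  .ofNat 16, .negSucc 39, .negSucc 5, .negSucc 23, .ofNat 32, .ofNat 20, .ofNat 16, .negSucc 36, .ofNat 0,
  .ofNat 0, .ofNat 26, .ofNat 45, .ofNat 0, .ofNat 0, .negSucc 18, .ofNat 20, .negSucc 15, .ofNat 0,
  .ofNat 6, .ofNat 15, .ofNat 46, .ofNat 19, .ofNat 0, .ofNat 0, .ofNat 32, .ofNat 0, .ofNat 15, .negSucc 15,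
  .negSucc 21, .negSucc 24, .negSucc 33, .ofNat 0, .ofNat 0, .ofNat 0, .ofNat 0, .ofNat 10, .ofNat 20,
  .negSucc 19, .ofNat 30, .ofNat 10, .negSucc 1, .negSucc 21, .negSucc 7, .ofNat 40, .negSucc 29,
  .negSucc 46, .ofNat 0, .negSucc 4, .negSucc 23, .negSucc 29, .ofNat 28, .negSucc 44, .ofNat 0, .ofNat 24,
  .ofNat 15, .ofNat 0, .ofNat 16, .ofNat 56, .negSucc 32, .negSucc 39, .negSucc 39, .ofNat 16, .ofNat 0,
  .ofNat 0, .ofNat 0, .ofNat 32, .ofNat 0, .ofNat 0, .ofNat 40, .negSucc 18, .negSucc 30, .ofNat 0,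
  .negSucc 9, .ofNat 48, .negSucc 31, .ofNat 0, .ofNat 0, .ofNat 44, .ofNat 16, .ofNat 25, .negSucc 39,
  .ofNat 0, .negSucc 23, .ofNat 25, .ofNat 0, .ofNat 9, .ofNat 25, .ofNat 28, .negSucc 18, .negSucc 7,
  .negSucc 14, .ofNat 0, .ofNat 40, .ofNat 32, .ofNat 0, .negSucc 8, .negSucc 24, .ofNat 0, .negSucc 8,
  .negSucc 5, .ofNat 0, .negSucc 44, .negSucc 21, .ofNat 24, .ofNat 0, .negSucc 0, .ofNat 0, .negSucc 15,
  .ofNat 0, .ofNat 0, .negSucc 41, .ofNat 0, .ofNat 40, .negSucc 8, .negSucc 8, .ofNat 0, .ofNat 0, .ofNat 0,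
  .negSucc 19, .ofNat 0, .negSucc 15, .ofNat 18, .ofNat 15, .negSucc 9, .ofNat 0, .ofNat 10, .ofNat 5,
  .ofNat 38, .ofNat 82, .negSucc 17, .ofNat 34, .ofNat 34, .ofNat 54, .ofNat 48, .ofNat 34]

/-- the values at 20B -/
def col64 : List ℤ :=
  [.ofNat 1, .ofNat 1, .negSucc 1, .ofNat 7, .ofNat 2, .negSucc 7, .negSucc 0, .ofNat 1, .ofNat 8,
  .negSucc 0, .ofNat 1, .negSucc 5, .ofNat 6, .ofNat 1, .negSucc 7, .ofNat 0, .ofNat 0, .ofNat 5, .ofNat 19,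
  .ofNat 21, .negSucc 8, .ofNat 1, .negSucc 8, .ofNat 8, .ofNat 18, .negSucc 21, .ofNat 2, .negSucc 6,
  .ofNat 16, .ofNat 1, .negSucc 7, .ofNat 9, .ofNat 0, .ofNat 30, .negSucc 7, .negSucc 1, .ofNat 0, .ofNat 0,
  .ofNat 18, .ofNat 0, .negSucc 15, .negSucc 19, .ofNat 0, .negSucc 0, .ofNat 0, .ofNat 0, .negSucc 1,
  .ofNat 9, .ofNat 0, .ofNat 16, .ofNat 1, .negSucc 7, .negSucc 23, .negSucc 15, .ofNat 2, .negSucc 12,
  .negSucc 9, .negSucc 8, .ofNat 0, .ofNat 0, .ofNat 8, .ofNat 0, .ofNat 7, .negSucc 7, .negSucc 9,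
  .negSucc 0, .ofNat 18, .ofNat 0, .ofNat 0, .ofNat 0, .ofNat 0, .negSucc 1, .negSucc 19, .ofNat 20,
  .ofNat 38, .ofNat 30, .ofNat 2, .negSucc 9, .negSucc 7, .ofNat 0, .ofNat 18, .ofNat 9, .ofNat 0,
  .negSucc 20, .ofNat 0, .ofNat 18, .ofNat 8, .negSucc 16, .ofNat 0, .ofNat 0, .ofNat 27, .ofNat 0,
  .negSucc 7, .ofNat 8, .negSucc 8, .ofNat 0, .ofNat 0, .negSucc 7, .ofNat 0, .ofNat 32, .ofNat 0, .ofNat 0,
  .ofNat 0, .ofNat 0, .ofNat 0, .ofNat 1, .ofNat 25, .ofNat 16, .negSucc 29, .ofNat 0, .ofNat 0, .ofNat 0,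
  .negSucc 15, .negSucc 7, .ofNat 24, .negSucc 6, .ofNat 12, .ofNat 0, .ofNat 0, .ofNat 1, .ofNat 0,
  .negSucc 42, .ofNat 17, .ofNat 0, .ofNat 9, .ofNat 0, .ofNat 29, .ofNat 0, .ofNat 0, .ofNat 0, .ofNat 0,
  .negSucc 8, .negSucc 0, .ofNat 0, .negSucc 8, .negSucc 17, .ofNat 0, .negSucc 8, .negSucc 17, .ofNat 0,
  .ofNat 0, .negSucc 16, .ofNat 16, .ofNat 24, .ofNat 0, .negSucc 15, .ofNat 18, .ofNat 0, .negSucc 27,
  .ofNat 23, .ofNat 11, .ofNat 0, .ofNat 0, .ofNat 0, .negSucc 7, .ofNat 0, .negSucc 23, .negSucc 17,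
  .negSucc 28, .negSucc 29, .ofNat 0, .ofNat 30, .ofNat 37, .ofNat 26, .ofNat 18, .ofNat 34, .ofNat 26,
  .ofNat 26, .ofNat 34, .ofNat 44, .ofNat 26]

/-- the values at 20C -/
def col65 : List ℤ :=
  [.ofNat 1, .ofNat 0, .negSucc 2, .ofNat 3, .negSucc 3, .ofNat 3, .negSucc 0, .negSucc 1, .negSucc 1,
  .ofNat 6, .ofNat 8, .ofNat 6, .negSucc 2, .ofNat 1, .negSucc 3, .ofNat 0, .negSucc 11, .ofNat 4,
  .negSucc 2, .ofNat 0, .negSucc 1, .ofNat 14, .ofNat 2, .ofNat 0, .ofNat 24, .ofNat 0, .negSucc 11,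
  .ofNat 0, .ofNat 0, .ofNat 2, .ofNat 6, .ofNat 18, .ofNat 0, .ofNat 0, .negSucc 10, .ofNat 14, .ofNat 16,
  .ofNat 0, .ofNat 14, .negSucc 23, .ofNat 2, .ofNat 0, .negSucc 23, .ofNat 23, .ofNat 0, .ofNat 0,
  .ofNat 16, .ofNat 0, .negSucc 19, .negSucc 9, .ofNat 1, .ofNat 0, .ofNat 4, .ofNat 10, .ofNat 6, .ofNat 0,
  .negSucc 3, .ofNat 29, .ofNat 0, .ofNat 0, .negSucc 7, .ofNat 0, .negSucc 9, .ofNat 9, .ofNat 3, .ofNat 0,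
  .negSucc 23, .ofNat 0, .ofNat 0, .ofNat 0, .negSucc 4, .negSucc 14, .ofNat 0, .ofNat 0, .ofNat 0, .ofNat 0,
  .negSucc 11, .ofNat 23, .ofNat 17, .ofNat 0, .ofNat 20, .negSucc 11, .ofNat 0, .ofNat 0, .negSucc 23,
  .ofNat 0, .negSucc 6, .negSucc 24, .ofNat 0, .ofNat 24, .negSucc 24, .ofNat 0, .negSucc 18, .ofNat 1,
  .ofNat 12, .ofNat 0, .ofNat 0, .ofNat 26, .negSucc 14, .ofNat 0, .ofNat 0, .negSucc 27, .ofNat 0, .ofNat 0,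
  .ofNat 0, .ofNat 6, .negSucc 10, .ofNat 0, .ofNat 0, .negSucc 31, .ofNat 8, .ofNat 30, .ofNat 0,
  .negSucc 5, .negSucc 23, .ofNat 0, .ofNat 0, .ofNat 0, .negSucc 23, .ofNat 15, .ofNat 0, .negSucc 15,
  .ofNat 0, .ofNat 3, .negSucc 8, .negSucc 2, .ofNat 0, .ofNat 0, .ofNat 0, .negSucc 27, .ofNat 0, .ofNat 21,
  .ofNat 0, .ofNat 0, .ofNat 6, .negSucc 35, .ofNat 0, .ofNat 0, .ofNat 3, .ofNat 24, .ofNat 0, .ofNat 14,
  .ofNat 0, .ofNat 34, .negSucc 9, .ofNat 0, .ofNat 3, .ofNat 0, .ofNat 0, .ofNat 6, .ofNat 6, .ofNat 0,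
  .negSucc 19, .ofNat 0, .ofNat 0, .ofNat 0, .negSucc 5, .negSucc 11, .ofNat 0, .ofNat 0, .ofNat 0, .ofNat 0,
  .ofNat 0, .negSucc 21, .ofNat 52, .ofNat 27, .ofNat 14, .ofNat 14, .negSucc 0, .ofNat 28, .ofNat 14]

/-- the values at 20D -/
def col66 : List ℤ :=
  [.ofNat 1, .negSucc 2, .ofNat 2, .ofNat 3, .ofNat 6, .ofNat 0, .negSucc 8, .ofNat 1, .negSucc 3,
  .negSucc 4, .ofNat 1, .ofNat 6, .ofNat 2, .negSucc 6, .ofNat 0, .ofNat 0, .ofNat 8, .ofNat 17, .ofNat 3,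
  .ofNat 5, .negSucc 20, .negSucc 10, .ofNat 7, .negSucc 11, .negSucc 5, .ofNat 10, .negSucc 1, .ofNat 5,
  .ofNat 0, .negSucc 14, .ofNat 0, .ofNat 13, .ofNat 0, .ofNat 10, .negSucc 15, .negSucc 17, .ofNat 0,
  .ofNat 0, .ofNat 26, .ofNat 0, .ofNat 16, .ofNat 20, .ofNat 0, .ofNat 3, .ofNat 0, .ofNat 0, .negSucc 29,
  .ofNat 5, .ofNat 0, .ofNat 0, .negSucc 2, .ofNat 20, .ofNat 0, .ofNat 24, .ofNat 6, .ofNat 15, .negSucc 9,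
  .negSucc 4, .ofNat 0, .ofNat 0, .ofNat 8, .ofNat 0, .negSucc 32, .ofNat 0, .negSucc 5, .ofNat 15,
  .negSucc 25, .ofNat 0, .ofNat 0, .ofNat 0, .ofNat 0, .ofNat 10, .ofNat 20, .negSucc 19, .negSucc 9,
  .ofNat 10, .ofNat 22, .ofNat 18, .ofNat 32, .ofNat 0, .negSucc 29, .ofNat 9, .ofNat 0, .negSucc 4,
  .ofNat 24, .ofNat 18, .ofNat 12, .ofNat 3, .ofNat 0, .ofNat 0, .ofNat 7, .ofNat 0, .ofNat 8, .negSucc 7,
  .negSucc 0, .ofNat 0, .ofNat 0, .ofNat 0, .ofNat 0, .ofNat 0, .ofNat 0, .ofNat 0, .ofNat 0, .ofNat 0,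
  .ofNat 0, .negSucc 2, .ofNat 17, .ofNat 0, .negSucc 9, .ofNat 0, .ofNat 0, .ofNat 0, .ofNat 0, .ofNat 12,
  .ofNat 0, .ofNat 9, .ofNat 0, .ofNat 0, .ofNat 0, .ofNat 17, .ofNat 0, .negSucc 14, .negSucc 14,
  .negSucc 11, .negSucc 2, .negSucc 31, .negSucc 14, .ofNat 0, .ofNat 0, .ofNat 0, .ofNat 0, .negSucc 8,
  .ofNat 15, .ofNat 0, .negSucc 8, .negSucc 5, .ofNat 0, .negSucc 4, .ofNat 18, .ofNat 0, .ofNat 0,
  .negSucc 8, .ofNat 0, .ofNat 0, .negSucc 23, .ofNat 0, .ofNat 6, .ofNat 0, .ofNat 0, .ofNat 15, .negSucc 8,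
  .ofNat 0, .ofNat 0, .ofNat 0, .negSucc 19, .ofNat 0, .ofNat 0, .negSucc 5, .ofNat 15, .negSucc 9, .ofNat 0,
  .ofNat 10, .ofNat 5, .negSucc 9, .negSucc 37, .negSucc 25, .negSucc 13, .negSucc 13, .negSucc 25,
  .ofNat 16, .negSucc 13]

/-- the values at 20E -/
def col67 : List ℤ :=
  [.ofNat 1, .ofNat 2, .negSucc 2, .ofNat 3, .ofNat 6, .negSucc 4, .ofNat 1, .negSucc 3, .ofNat 6, .ofNat 0,
  .ofNat 6, .negSucc 3, .negSucc 2, .ofNat 3, .ofNat 0, .ofNat 0, .negSucc 1, .ofNat 2, .ofNat 3, .ofNat 0,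
  .ofNat 4, .negSucc 5, .ofNat 2, .negSucc 1, .ofNat 4, .ofNat 0, .negSucc 1, .ofNat 0, .ofNat 0, .ofNat 0,
  .ofNat 0, .negSucc 1, .ofNat 0, .ofNat 0, .negSucc 0, .ofNat 2, .ofNat 0, .ofNat 0, .ofNat 6, .ofNat 0,
  .ofNat 6, .ofNat 0, .ofNat 0, .ofNat 3, .ofNat 0, .ofNat 0, .ofNat 0, .ofNat 0, .ofNat 0, .ofNat 0,
  .negSucc 2, .ofNat 0, .ofNat 0, .ofNat 4, .negSucc 3, .ofNat 0, .ofNat 0, .negSucc 4, .ofNat 0, .ofNat 0,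
  .negSucc 1, .ofNat 0, .ofNat 2, .negSucc 4, .negSucc 0, .ofNat 0, .ofNat 4, .ofNat 0, .ofNat 0, .ofNat 0,
  .ofNat 5, .ofNat 5, .ofNat 0, .ofNat 0, .ofNat 0, .ofNat 0, .ofNat 2, .ofNat 3, .negSucc 2, .ofNat 0,
  .ofNat 0, .negSucc 5, .ofNat 0, .ofNat 0, .ofNat 4, .ofNat 8, .ofNat 7, .ofNat 3, .ofNat 0, .ofNat 0,
  .negSucc 2, .ofNat 0, .ofNat 3, .negSucc 2, .negSucc 5, .ofNat 0, .ofNat 0, .ofNat 0, .negSucc 4, .ofNat 0,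
  .ofNat 0, .ofNat 0, .ofNat 0, .ofNat 0, .ofNat 0, .ofNat 2, .negSucc 2, .ofNat 0, .ofNat 0, .ofNat 0,
  .ofNat 0, .ofNat 0, .ofNat 0, .ofNat 2, .ofNat 0, .ofNat 4, .ofNat 0, .ofNat 0, .ofNat 0, .negSucc 2,
  .ofNat 0, .ofNat 0, .ofNat 0, .ofNat 3, .negSucc 2, .ofNat 3, .ofNat 0, .ofNat 0, .ofNat 0, .ofNat 0,
  .ofNat 0, .ofNat 1, .ofNat 0, .ofNat 0, .negSucc 3, .negSucc 5, .ofNat 0, .ofNat 0, .ofNat 3, .ofNat 0,
  .ofNat 0, .ofNat 6, .ofNat 0, .ofNat 0, .ofNat 6, .ofNat 0, .negSucc 8, .ofNat 0, .ofNat 0, .ofNat 0,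
  .ofNat 6, .ofNat 0, .ofNat 0, .ofNat 0, .ofNat 0, .ofNat 0, .ofNat 0, .negSucc 5, .ofNat 0, .ofNat 0,
  .ofNat 0, .ofNat 0, .ofNat 0, .negSucc 9, .negSucc 7, .negSucc 0, .negSucc 3, .negSucc 3, .negSucc 0,
  .negSucc 3, .negSucc 3]

/-- the values at 20F -/
def col68 : List ℤ :=
  [.ofNat 1, .ofNat 4, .ofNat 5, .ofNat 3, .ofNat 0, .ofNat 3, .ofNat 3, .ofNat 2, .negSucc 1, .negSucc 5,
  .ofNat 4, .ofNat 2, .negSucc 2, .negSucc 2, .negSucc 3, .ofNat 0, .ofNat 0, .ofNat 0, .ofNat 1, .ofNat 0,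
  .ofNat 2, .negSucc 1, .ofNat 2, .ofNat 4, .ofNat 0, .ofNat 0, .ofNat 0, .ofNat 0, .ofNat 0, .negSucc 1,
  .ofNat 2, .ofNat 2, .ofNat 0, .ofNat 0, .ofNat 1, .ofNat 6, .ofNat 0, .ofNat 0, .negSucc 1, .ofNat 0,
  .negSucc 5, .ofNat 0, .ofNat 0, .negSucc 0, .ofNat 0, .ofNat 0, .ofNat 0, .ofNat 0, .ofNat 4, .ofNat 2,
  .ofNat 1, .ofNat 0, .negSucc 3, .negSucc 1, .negSucc 5, .ofNat 0, .ofNat 4, .ofNat 1, .ofNat 0, .ofNat 0,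
  .ofNat 4, .ofNat 0, .negSucc 1, .negSucc 2, .ofNat 3, .ofNat 0, .ofNat 0, .ofNat 0, .ofNat 0, .ofNat 0,
  .negSucc 0, .ofNat 9, .ofNat 0, .ofNat 0, .ofNat 0, .ofNat 0, .ofNat 0, .negSucc 0, .ofNat 1, .ofNat 0,
  .negSucc 3, .ofNat 0, .ofNat 0, .ofNat 0, .ofNat 0, .ofNat 0, .negSucc 2, .negSucc 0, .ofNat 0, .ofNat 0,
  .negSucc 4, .ofNat 0, .ofNat 1, .ofNat 1, .ofNat 0, .ofNat 0, .ofNat 0, .ofNat 6, .negSucc 2, .ofNat 0,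
  .ofNat 0, .ofNat 4, .ofNat 0, .ofNat 0, .ofNat 0, .ofNat 6, .ofNat 5, .ofNat 0, .ofNat 0, .ofNat 0,
  .ofNat 0, .negSucc 5, .ofNat 0, .negSucc 5, .ofNat 0, .ofNat 0, .ofNat 0, .ofNat 0, .ofNat 0, .ofNat 3,
  .ofNat 0, .ofNat 0, .ofNat 0, .ofNat 3, .ofNat 3, .ofNat 1, .ofNat 0, .ofNat 0, .ofNat 0, .negSucc 3,
  .ofNat 0, .negSucc 2, .ofNat 0, .ofNat 0, .negSucc 5, .ofNat 0, .ofNat 0, .ofNat 0, .ofNat 3, .ofNat 0,
  .ofNat 0, .negSucc 1, .ofNat 0, .negSucc 1, .negSucc 1, .ofNat 0, .ofNat 3, .ofNat 0, .ofNat 0, .negSucc 5,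
  .ofNat 6, .ofNat 0, .negSucc 3, .ofNat 0, .ofNat 0, .ofNat 0, .ofNat 6, .ofNat 0, .ofNat 0, .ofNat 0,
  .ofNat 0, .ofNat 0, .ofNat 0, .ofNat 2, .ofNat 4, .ofNat 3, .ofNat 2, .ofNat 2, .negSucc 0, .ofNat 4,
  .ofNat 2]

/-- the values at 21A -/
def col69 : List ℤ :=
  [.ofNat 1, .ofNat 5, .ofNat 0, .ofNat 3, .ofNat 6, .ofNat 10, .negSucc 9, .negSucc 7, .ofNat 9, .ofNat 0,
  .negSucc 13, .negSucc 1, .ofNat 35, .ofNat 15, .ofNat 0, .ofNat 0, .negSucc 14, .negSucc 20, .negSucc 13,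
  .ofNat 16, .ofNat 14, .negSucc 8, .ofNat 35, .negSucc 14, .ofNat 0, .ofNat 9, .negSucc 20, .negSucc 7,
  .ofNat 14, .ofNat 42, .negSucc 28, .ofNat 51, .negSucc 25, .ofNat 35, .ofNat 0, .ofNat 0, .ofNat 0,
  .ofNat 4, .ofNat 0, .negSucc 13, .negSucc 41, .ofNat 35, .ofNat 30, .negSucc 20, .negSucc 9, .ofNat 0,
  .ofNat 6, .negSucc 13, .ofNat 20, .ofNat 5, .negSucc 41, .ofNat 42, .ofNat 15, .ofNat 0, .ofNat 19,
  .ofNat 0, .ofNat 15, .ofNat 0, .ofNat 5, .ofNat 30, .ofNat 0, .negSucc 9, .ofNat 21, .ofNat 14,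
  .negSucc 34, .negSucc 44, .ofNat 14, .ofNat 0, .ofNat 0, .ofNat 0, .ofNat 0, .ofNat 0, .ofNat 0, .ofNat 35,
  .ofNat 0, .negSucc 34, .ofNat 0, .negSucc 13, .ofNat 14, .negSucc 15, .ofNat 0, .negSucc 8, .ofNat 16,
  .ofNat 19, .ofNat 0, .ofNat 0, .ofNat 0, .ofNat 21, .ofNat 35, .ofNat 0, .ofNat 0, .negSucc 34, .ofNat 24,
  .ofNat 0, .ofNat 0, .negSucc 13, .negSucc 8, .negSucc 13, .ofNat 0, .ofNat 6, .ofNat 12, .negSucc 3,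
  .ofNat 0, .ofNat 0, .ofNat 19, .ofNat 14, .ofNat 0, .negSucc 34, .ofNat 0, .ofNat 0, .ofNat 0, .ofNat 0,
  .negSucc 28, .ofNat 14, .ofNat 35, .negSucc 1, .ofNat 0, .ofNat 16, .negSucc 39, .ofNat 0, .ofNat 0,
  .ofNat 0, .negSucc 20, .negSucc 8, .ofNat 9, .negSucc 13, .negSucc 5, .ofNat 0, .ofNat 0, .negSucc 13,
  .ofNat 24, .ofNat 0, .negSucc 34, .ofNat 40, .ofNat 0, .ofNat 0, .negSucc 9, .ofNat 14, .ofNat 21,
  .ofNat 0, .ofNat 0, .negSucc 14, .ofNat 29, .ofNat 21, .ofNat 0, .ofNat 35, .ofNat 0, .ofNat 0,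
  .negSucc 13, .ofNat 0, .ofNat 0, .ofNat 0, .ofNat 0, .ofNat 0, .negSucc 20, .ofNat 0, .ofNat 33, .ofNat 0,
  .negSucc 18, .ofNat 0, .negSucc 14, .ofNat 0, .negSucc 14, .negSucc 0, .negSucc 0, .ofNat 34, .negSucc 0,
  .ofNat 14, .negSucc 35, .negSucc 0, .negSucc 16]

/-- the values at 21B -/
def col70 : List ℤ :=
  [.ofNat 1, .negSucc 1, .ofNat 0, .ofNat 3, .negSucc 0, .ofNat 3, .negSucc 2, .negSucc 0, .negSucc 4,
  .ofNat 0, .ofNat 7, .negSucc 1, .ofNat 0, .ofNat 8, .ofNat 0, .ofNat 0, .ofNat 6, .ofNat 0, .ofNat 0,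
  .ofNat 2, .ofNat 0, .negSucc 1, .ofNat 0, .negSucc 7, .ofNat 0, .negSucc 4, .negSucc 6, .ofNat 6, .ofNat 0,
  .ofNat 0, .negSucc 7, .negSucc 11, .ofNat 9, .ofNat 0, .ofNat 0, .ofNat 0, .ofNat 0, .ofNat 11, .ofNat 0,
  .ofNat 0, .ofNat 0, .ofNat 0, .ofNat 2, .ofNat 0, .negSucc 9, .ofNat 0, .ofNat 6, .ofNat 0, .negSucc 21,
  .negSucc 1, .ofNat 0, .ofNat 0, .negSucc 12, .ofNat 0, .ofNat 12, .ofNat 0, .ofNat 1, .ofNat 14, .ofNat 12,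
  .negSucc 11, .ofNat 0, .ofNat 18, .ofNat 0, .ofNat 0, .ofNat 0, .ofNat 18, .ofNat 0, .negSucc 13, .ofNat 0,
  .ofNat 0, .ofNat 0, .ofNat 0, .ofNat 0, .ofNat 0, .ofNat 7, .ofNat 0, .ofNat 0, .ofNat 0, .ofNat 0,
  .negSucc 22, .ofNat 0, .negSucc 8, .negSucc 11, .ofNat 19, .ofNat 0, .ofNat 0, .ofNat 0, .ofNat 0,
  .ofNat 0, .ofNat 0, .ofNat 0, .negSucc 6, .negSucc 3, .ofNat 0, .ofNat 0, .ofNat 0, .negSucc 15, .ofNat 0,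
  .ofNat 0, .ofNat 6, .ofNat 12, .ofNat 10, .ofNat 0, .ofNat 0, .negSucc 1, .ofNat 0, .ofNat 0, .ofNat 0,
  .ofNat 0, .ofNat 0, .ofNat 0, .ofNat 0, .ofNat 6, .ofNat 0, .ofNat 0, .ofNat 12, .ofNat 0, .ofNat 23,
  .ofNat 2, .ofNat 0, .ofNat 7, .ofNat 0, .ofNat 0, .negSucc 8, .ofNat 9, .ofNat 0, .negSucc 5, .ofNat 0,
  .ofNat 0, .ofNat 0, .negSucc 17, .ofNat 0, .ofNat 0, .negSucc 1, .ofNat 0, .ofNat 0, .ofNat 11, .ofNat 0,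
  .ofNat 0, .ofNat 0, .ofNat 0, .negSucc 0, .negSucc 5, .ofNat 0, .ofNat 0, .ofNat 0, .ofNat 0, .ofNat 7,
  .ofNat 0, .ofNat 0, .ofNat 0, .ofNat 0, .ofNat 0, .ofNat 0, .ofNat 0, .ofNat 0, .ofNat 12, .ofNat 0,
  .negSucc 11, .ofNat 0, .negSucc 0, .ofNat 0, .negSucc 0, .ofNat 6, .negSucc 0, .ofNat 6, .ofNat 6,
  .ofNat 21, .ofNat 6, .ofNat 6, .ofNat 4]

/-- the values at 21C -/
def col71 : List ℤ :=
  [.ofNat 1, .negSucc 0, .ofNat 3, .negSucc 2, .ofNat 3, .negSucc 1, .ofNat 5, .negSucc 4, .ofNat 0,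
  .ofNat 3, .ofNat 1, .ofNat 7, .ofNat 8, .ofNat 6, .negSucc 8, .ofNat 0, .negSucc 2, .ofNat 0, .ofNat 7,
  .negSucc 4, .negSucc 6, .ofNat 6, .ofNat 2, .ofNat 3, .ofNat 6, .ofNat 0, .negSucc 2, .ofNat 1, .negSucc 6,
  .ofNat 0, .negSucc 1, .negSucc 2, .ofNat 13, .negSucc 0, .negSucc 2, .ofNat 0, .ofNat 0, .ofNat 7,
  .ofNat 0, .ofNat 7, .ofNat 0, .ofNat 5, .ofNat 6, .ofNat 0, .ofNat 2, .ofNat 0, .ofNat 0, .negSucc 7,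
  .negSucc 9, .negSucc 0, .ofNat 0, .ofNat 0, .ofNat 3, .ofNat 0, .ofNat 4, .negSucc 2, .ofNat 0, .ofNat 0,
  .ofNat 8, .ofNat 0, .ofNat 0, .negSucc 9, .ofNat 0, .negSucc 3, .ofNat 4, .ofNat 3, .negSucc 6, .ofNat 0,
  .ofNat 0, .ofNat 0, .ofNat 0, .ofNat 0, .ofNat 0, .ofNat 5, .ofNat 0, .ofNat 1, .ofNat 0, .ofNat 7,
  .negSucc 6, .ofNat 2, .ofNat 0, .ofNat 0, .ofNat 16, .negSucc 4, .ofNat 6, .negSucc 5, .ofNat 0, .ofNat 0,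
  .ofNat 5, .ofNat 0, .ofNat 0, .negSucc 1, .ofNat 0, .ofNat 0, .ofNat 0, .ofNat 7, .ofNat 0, .ofNat 7,
  .negSucc 8, .ofNat 0, .ofNat 0, .negSucc 0, .ofNat 0, .ofNat 0, .negSucc 7, .negSucc 6, .ofNat 0,
  .negSucc 7, .ofNat 0, .ofNat 0, .ofNat 0, .negSucc 5, .negSucc 7, .negSucc 6, .ofNat 2, .ofNat 7,
  .negSucc 2, .negSucc 1, .ofNat 2, .ofNat 0, .negSucc 5, .ofNat 0, .ofNat 0, .ofNat 0, .ofNat 0, .ofNat 7,
  .ofNat 0, .negSucc 5, .ofNat 0, .ofNat 7, .negSucc 5, .negSucc 8, .negSucc 10, .ofNat 1, .ofNat 9,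
  .ofNat 9, .ofNat 2, .negSucc 6, .ofNat 0, .ofNat 9, .ofNat 6, .ofNat 0, .ofNat 8, .ofNat 0, .ofNat 0,
  .ofNat 8, .ofNat 0, .ofNat 0, .negSucc 10, .ofNat 0, .ofNat 0, .ofNat 0, .ofNat 0, .ofNat 0, .ofNat 0,
  .ofNat 0, .ofNat 0, .negSucc 8, .ofNat 11, .ofNat 0, .negSucc 2, .ofNat 0, .ofNat 0, .ofNat 2, .ofNat 2,
  .ofNat 1, .ofNat 2, .negSucc 3, .ofNat 0, .ofNat 5, .ofNat 10]

/-- the values at 21D -/
def col72 : List ℤ :=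
  [.ofNat 1, .ofNat 4, .ofNat 3, .ofNat 3, .ofNat 2, .ofNat 3, .ofNat 0, .negSucc 0, .negSucc 1, .ofNat 0,
  .negSucc 1, .negSucc 1, .ofNat 0, .negSucc 0, .ofNat 0, .ofNat 0, .negSucc 2, .ofNat 0, .ofNat 0,
  .negSucc 0, .ofNat 0, .ofNat 1, .ofNat 0, .ofNat 1, .ofNat 0, .ofNat 1, .ofNat 2, .ofNat 3, .ofNat 0,
  .ofNat 0, .ofNat 1, .negSucc 2, .ofNat 3, .ofNat 0, .ofNat 0, .ofNat 0, .ofNat 0, .negSucc 3, .ofNat 0,
  .ofNat 0, .ofNat 0, .ofNat 0, .ofNat 2, .ofNat 0, .negSucc 3, .ofNat 0, .ofNat 0, .ofNat 0, .negSucc 3,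
  .negSucc 1, .ofNat 0, .ofNat 0, .negSucc 3, .ofNat 0, .ofNat 0, .ofNat 0, .negSucc 1, .negSucc 0, .ofNat 3,
  .ofNat 0, .ofNat 0, .negSucc 5, .ofNat 0, .ofNat 0, .ofNat 0, .ofNat 3, .ofNat 0, .ofNat 4, .ofNat 0,
  .ofNat 0, .ofNat 0, .ofNat 0, .ofNat 0, .ofNat 0, .ofNat 1, .ofNat 0, .ofNat 0, .ofNat 0, .ofNat 0,
  .negSucc 1, .ofNat 0, .ofNat 0, .ofNat 0, .ofNat 1, .ofNat 0, .ofNat 0, .ofNat 0, .ofNat 3, .ofNat 0,
  .ofNat 0, .ofNat 3, .negSucc 3, .ofNat 2, .ofNat 0, .ofNat 0, .ofNat 0, .ofNat 2, .ofNat 0, .ofNat 0,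
  .ofNat 0, .ofNat 0, .negSucc 7, .ofNat 0, .ofNat 0, .ofNat 1, .ofNat 0, .ofNat 0, .ofNat 0, .ofNat 0,
  .ofNat 0, .ofNat 0, .ofNat 0, .ofNat 0, .ofNat 0, .ofNat 0, .ofNat 0, .ofNat 0, .negSucc 3, .ofNat 2,
  .ofNat 0, .ofNat 4, .ofNat 0, .ofNat 0, .ofNat 0, .ofNat 0, .ofNat 0, .ofNat 3, .ofNat 0, .ofNat 0,
  .ofNat 0, .ofNat 0, .ofNat 0, .ofNat 0, .negSucc 1, .ofNat 0, .ofNat 0, .negSucc 3, .ofNat 0, .ofNat 0,
  .ofNat 0, .ofNat 0, .negSucc 0, .ofNat 0, .ofNat 0, .ofNat 0, .ofNat 0, .ofNat 0, .ofNat 1, .ofNat 0,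
  .ofNat 0, .ofNat 0, .ofNat 0, .negSucc 2, .ofNat 0, .ofNat 0, .ofNat 0, .ofNat 0, .ofNat 0, .ofNat 0,
  .ofNat 0, .negSucc 3, .ofNat 0, .negSucc 0, .negSucc 2, .negSucc 0, .negSucc 2, .negSucc 2, .ofNat 0,
  .negSucc 2, .negSucc 2, .negSucc 10]

/-- the values at 22A -/
def col73 : List ℤ :=
  [.ofNat 1, .ofNat 4, .ofNat 1, .ofNat 5, .ofNat 6, .negSucc 0, .negSucc 0, .negSucc 3, .ofNat 5, .ofNat 5,
  .negSucc 4, .negSucc 9, .negSucc 4, .ofNat 9, .negSucc 3, .ofNat 0, .ofNat 4, .negSucc 0, .negSucc 1,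
  .ofNat 5, .negSucc 4, .ofNat 6, .ofNat 2, .ofNat 0, .ofNat 0, .ofNat 5, .negSucc 4, .negSucc 5, .ofNat 1,
  .ofNat 0, .ofNat 1, .ofNat 1, .negSucc 8, .ofNat 4, .negSucc 1, .ofNat 0, .ofNat 2, .ofNat 10, .negSucc 5,
  .ofNat 2, .ofNat 0, .negSucc 1, .ofNat 0, .ofNat 0, .ofNat 0, .ofNat 0, .negSucc 9, .ofNat 5, .ofNat 0,
  .ofNat 0, .negSucc 0, .negSucc 0, .ofNat 4, .negSucc 3, .negSucc 0, .negSucc 4, .negSucc 4, .ofNat 0,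
  .ofNat 5, .negSucc 9, .ofNat 4, .ofNat 0, .ofNat 0, .ofNat 1, .negSucc 2, .ofNat 0, .ofNat 0, .ofNat 0,
  .ofNat 0, .ofNat 0, .negSucc 4, .ofNat 0, .ofNat 8, .ofNat 2, .ofNat 6, .ofNat 9, .ofNat 0, .ofNat 1,
  .negSucc 9, .negSucc 3, .negSucc 11, .ofNat 0, .ofNat 0, .ofNat 0, .ofNat 0, .ofNat 0, .ofNat 0, .ofNat 0,
  .ofNat 5, .ofNat 0, .ofNat 0, .ofNat 5, .negSucc 5, .negSucc 5, .negSucc 4, .negSucc 5, .negSucc 0,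
  .ofNat 0, .ofNat 0, .ofNat 0, .ofNat 0, .ofNat 0, .ofNat 0, .ofNat 0, .ofNat 6, .ofNat 4, .ofNat 0,
  .ofNat 4, .ofNat 6, .ofNat 10, .negSucc 5, .ofNat 0, .ofNat 4, .ofNat 1, .ofNat 0, .ofNat 0, .ofNat 0,
  .negSucc 3, .ofNat 0, .ofNat 0, .ofNat 0, .ofNat 0, .ofNat 1, .ofNat 0, .ofNat 0, .ofNat 0, .negSucc 3,
  .ofNat 0, .ofNat 4, .negSucc 3, .ofNat 0, .ofNat 0, .ofNat 0, .negSucc 9, .ofNat 0, .ofNat 0, .ofNat 0,
  .ofNat 0, .ofNat 2, .ofNat 6, .ofNat 0, .negSucc 0, .ofNat 4, .negSucc 1, .negSucc 5, .ofNat 4, .ofNat 0,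
  .ofNat 0, .negSucc 0, .ofNat 0, .ofNat 0, .negSucc 7, .ofNat 0, .ofNat 10, .ofNat 0, .ofNat 0, .ofNat 0,
  .ofNat 6, .ofNat 4, .ofNat 1, .ofNat 0, .negSucc 5, .negSucc 3, .ofNat 0, .ofNat 10, .ofNat 0, .negSucc 9,
  .ofNat 0, .ofNat 0, .ofNat 0, .ofNat 0]

/-- the values at 22B -/
def col74 : List ℤ :=
  [.ofNat 1, .ofNat 0, .negSucc 2, .ofNat 5, .ofNat 2, .negSucc 4, .ofNat 3, .ofNat 0, .ofNat 1, .negSucc 2,
  .ofNat 7, .negSucc 1, .ofNat 7, .negSucc 2, .ofNat 0, .ofNat 0, .negSucc 7, .ofNat 3, .ofNat 6, .ofNat 9,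
  .negSucc 0, .ofNat 2, .negSucc 5, .ofNat 0, .ofNat 0, .negSucc 6, .ofNat 7, .negSucc 1, .ofNat 9, .ofNat 0,
  .negSucc 2, .negSucc 2, .negSucc 4, .ofNat 0, .ofNat 6, .ofNat 0, .negSucc 5, .ofNat 2, .ofNat 2,
  .negSucc 5, .ofNat 0, .ofNat 6, .ofNat 0, .ofNat 0, .ofNat 0, .ofNat 0, .negSucc 1, .negSucc 6, .ofNat 0,
  .ofNat 0, .negSucc 0, .negSucc 0, .ofNat 0, .ofNat 0, .ofNat 3, .ofNat 7, .negSucc 4, .ofNat 0, .negSucc 6,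
  .ofNat 6, .ofNat 8, .ofNat 0, .negSucc 7, .ofNat 9, .ofNat 9, .ofNat 0, .ofNat 0, .ofNat 0, .ofNat 0,
  .ofNat 0, .ofNat 7, .ofNat 0, .ofNat 0, .ofNat 6, .ofNat 2, .negSucc 2, .ofNat 0, .negSucc 2, .negSucc 5,
  .ofNat 0, .negSucc 3, .ofNat 0, .ofNat 0, .ofNat 0, .ofNat 0, .ofNat 0, .ofNat 0, .ofNat 0, .negSucc 6,
  .ofNat 0, .ofNat 0, .negSucc 6, .negSucc 1, .negSucc 1, .ofNat 7, .negSucc 5, .ofNat 3, .ofNat 0, .ofNat 0,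
  .ofNat 0, .ofNat 0, .ofNat 0, .ofNat 0, .ofNat 0, .ofNat 2, .ofNat 0, .ofNat 0, .ofNat 0, .ofNat 2,
  .ofNat 2, .negSucc 1, .ofNat 0, .ofNat 0, .negSucc 2, .ofNat 0, .ofNat 0, .ofNat 0, .ofNat 0, .ofNat 0,
  .ofNat 0, .negSucc 7, .ofNat 0, .negSucc 2, .ofNat 0, .ofNat 0, .ofNat 0, .ofNat 0, .ofNat 0, .ofNat 0,
  .ofNat 8, .negSucc 7, .ofNat 0, .ofNat 0, .negSucc 5, .ofNat 0, .ofNat 0, .ofNat 0, .ofNat 0, .ofNat 6,
  .ofNat 6, .ofNat 0, .ofNat 3, .ofNat 0, .ofNat 2, .ofNat 2, .ofNat 0, .ofNat 0, .ofNat 0, .ofNat 3,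
  .ofNat 0, .ofNat 0, .ofNat 0, .ofNat 0, .negSucc 1, .ofNat 0, .ofNat 0, .ofNat 0, .ofNat 6, .ofNat 0,
  .negSucc 2, .ofNat 0, .ofNat 2, .negSucc 7, .ofNat 0, .ofNat 2, .ofNat 0, .negSucc 1, .ofNat 0, .ofNat 0,
  .ofNat 0, .ofNat 0]

/-- the values at 23AB -/
def col75 : List ℤ :=
  [.ofNat 1, .ofNat 3, .ofNat 3, .ofNat 2, .ofNat 0, .ofNat 0, .ofNat 1, .ofNat 0, .negSucc 0, .negSucc 1,
  .ofNat 0, .ofNat 0, .negSucc 2, .ofNat 0, .negSucc 2, .negSucc 0, .ofNat 3, .ofNat 0, .ofNat 0, .ofNat 1,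
  .ofNat 0, .ofNat 2, .ofNat 0, .ofNat 0, .ofNat 0, .ofNat 0, .ofNat 0, .ofNat 0, .ofNat 3, .ofNat 0,
  .ofNat 0, .ofNat 0, .negSucc 0, .negSucc 1, .ofNat 0, .ofNat 0, .negSucc 1, .ofNat 0, .ofNat 0, .ofNat 1,
  .ofNat 0, .ofNat 0, .negSucc 2, .ofNat 0, .ofNat 0, .negSucc 2, .negSucc 0, .negSucc 2, .negSucc 1,
  .ofNat 0, .ofNat 0, .ofNat 0, .ofNat 2, .negSucc 0, .ofNat 0, .ofNat 0, .ofNat 0, .ofNat 0, .ofNat 0,
  .ofNat 0, .ofNat 0, .ofNat 0, .ofNat 1, .ofNat 0, .ofNat 0, .ofNat 0, .ofNat 0, .negSucc 3, .negSucc 0,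
  .negSucc 2, .ofNat 0, .ofNat 0, .ofNat 0, .ofNat 0, .negSucc 0, .ofNat 0, .ofNat 0, .ofNat 3, .ofNat 1,
  .ofNat 1, .ofNat 0, .negSucc 0, .ofNat 0, .ofNat 0, .ofNat 0, .ofNat 0, .ofNat 0, .ofNat 0, .ofNat 0,
  .ofNat 0, .ofNat 3, .ofNat 0, .ofNat 0, .ofNat 0, .ofNat 0, .ofNat 0, .ofNat 0, .ofNat 0, .ofNat 0,
  .ofNat 0, .ofNat 0, .ofNat 0, .ofNat 0, .negSucc 1, .ofNat 0, .ofNat 0, .ofNat 0, .ofNat 0, .negSucc 1,
  .ofNat 0, .negSucc 0, .ofNat 0, .ofNat 0, .ofNat 0, .ofNat 2, .ofNat 0, .ofNat 3, .ofNat 0, .ofNat 0,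
  .ofNat 0, .ofNat 2, .ofNat 0, .ofNat 1, .negSucc 0, .negSucc 1, .ofNat 0, .ofNat 0, .ofNat 0, .negSucc 2,
  .ofNat 0, .ofNat 0, .ofNat 0, .negSucc 2, .ofNat 3, .ofNat 0, .ofNat 0, .ofNat 0, .ofNat 0, .negSucc 2,
  .ofNat 3, .ofNat 0, .ofNat 0, .ofNat 0, .ofNat 0, .ofNat 0, .ofNat 0, .negSucc 2, .ofNat 0, .ofNat 3,
  .ofNat 0, .ofNat 0, .ofNat 0, .ofNat 3, .negSucc 2, .negSucc 2, .ofNat 0, .ofNat 0, .ofNat 3, .ofNat 0,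
  .ofNat 0, .ofNat 0, .ofNat 0, .ofNat 0, .negSucc 0, .ofNat 0, .ofNat 0, .ofNat 1, .ofNat 0, .ofNat 0,
  .ofNat 0, .ofNat 0]

/-- the values at 24A -/
def col76 : List ℤ :=
  [.ofNat 1, .ofNat 2, .negSucc 2, .ofNat 0, .ofNat 6, .negSucc 1, .negSucc 1, .negSucc 0, .ofNat 6,
  .negSucc 5, .ofNat 0, .ofNat 2, .negSucc 2, .ofNat 9, .ofNat 0, .ofNat 2, .ofNat 1, .negSucc 3, .negSucc 0,
  .negSucc 1, .ofNat 11, .negSucc 2, .ofNat 1, .negSucc 3, .ofNat 0, .ofNat 0, .negSucc 7, .negSucc 2,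
  .negSucc 0, .negSucc 7, .negSucc 8, .ofNat 10, .ofNat 9, .negSucc 2, .ofNat 8, .negSucc 17, .ofNat 0,
  .ofNat 0, .ofNat 0, .ofNat 0, .ofNat 6, .negSucc 5, .ofNat 0, .ofNat 13, .negSucc 17, .ofNat 4,
  .negSucc 17, .ofNat 12, .ofNat 0, .ofNat 0, .negSucc 11, .negSucc 0, .ofNat 0, .negSucc 1, .negSucc 0,
  .ofNat 0, .ofNat 3, .ofNat 9, .negSucc 6, .ofNat 6, .ofNat 10, .ofNat 2, .negSucc 6, .negSucc 4,
  .negSucc 9, .ofNat 18, .ofNat 4, .ofNat 0, .ofNat 6, .negSucc 5, .ofNat 10, .negSucc 8, .ofNat 0,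
  .negSucc 5, .ofNat 9, .negSucc 2, .negSucc 12, .ofNat 18, .ofNat 0, .ofNat 0, .ofNat 0, .negSucc 8,
  .ofNat 0, .negSucc 2, .ofNat 0, .ofNat 0, .negSucc 4, .negSucc 2, .ofNat 6, .ofNat 0, .ofNat 0, .negSucc 2,
  .ofNat 0, .ofNat 12, .ofNat 9, .ofNat 0, .ofNat 9, .ofNat 0, .ofNat 0, .ofNat 0, .ofNat 0, .ofNat 0,
  .negSucc 7, .ofNat 0, .ofNat 0, .negSucc 4, .negSucc 6, .ofNat 0, .negSucc 2, .ofNat 0, .ofNat 0,
  .negSucc 8, .ofNat 0, .negSucc 4, .ofNat 0, .negSucc 15, .negSucc 0, .ofNat 0, .ofNat 0, .negSucc 8,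
  .ofNat 0, .ofNat 2, .negSucc 2, .negSucc 8, .ofNat 9, .ofNat 0, .ofNat 0, .ofNat 4, .ofNat 0, .ofNat 0,
  .ofNat 0, .ofNat 0, .negSucc 9, .ofNat 0, .ofNat 0, .ofNat 0, .negSucc 16, .ofNat 13, .ofNat 15, .ofNat 0,
  .ofNat 2, .negSucc 2, .ofNat 0, .ofNat 0, .ofNat 0, .ofNat 0, .ofNat 0, .negSucc 8, .ofNat 5, .negSucc 6,
  .ofNat 5, .ofNat 0, .ofNat 0, .ofNat 6, .ofNat 2, .negSucc 1, .negSucc 5, .ofNat 0, .ofNat 1, .ofNat 3,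
  .negSucc 0, .ofNat 6, .negSucc 2, .ofNat 29, .ofNat 16, .ofNat 11, .ofNat 32, .ofNat 5, .ofNat 23,
  .ofNat 12, .ofNat 16]

/-- the values at 24B -/
def col77 : List ℤ :=
  [.ofNat 1, .ofNat 2, .ofNat 5, .ofNat 0, .negSucc 1, .negSucc 1, .ofNat 6, .negSucc 0, .negSucc 1,
  .negSucc 5, .ofNat 8, .ofNat 10, .negSucc 2, .ofNat 9, .negSucc 7, .ofNat 2, .ofNat 1, .ofNat 4,
  .negSucc 0, .negSucc 1, .negSucc 4, .negSucc 2, .ofNat 9, .ofNat 12, .ofNat 0, .ofNat 0, .ofNat 8,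
  .ofNat 5, .negSucc 0, .ofNat 16, .negSucc 16, .ofNat 10, .negSucc 6, .negSucc 2, .ofNat 0, .negSucc 1,
  .ofNat 0, .ofNat 0, .ofNat 0, .ofNat 0, .ofNat 6, .ofNat 10, .ofNat 0, .negSucc 10, .negSucc 1, .ofNat 4,
  .negSucc 1, .ofNat 12, .ofNat 0, .ofNat 8, .ofNat 4, .negSucc 8, .ofNat 0, .ofNat 14, .negSucc 8,
  .negSucc 7, .ofNat 3, .negSucc 6, .ofNat 1, .ofNat 6, .negSucc 13, .ofNat 2, .ofNat 1, .ofNat 3, .ofNat 6,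
  .ofNat 10, .negSucc 3, .ofNat 0, .ofNat 6, .ofNat 10, .ofNat 2, .negSucc 0, .negSucc 15, .ofNat 2,
  .ofNat 9, .negSucc 2, .negSucc 4, .ofNat 2, .ofNat 0, .ofNat 0, .ofNat 0, .negSucc 8, .ofNat 0, .ofNat 5,
  .ofNat 0, .ofNat 0, .negSucc 4, .ofNat 5, .negSucc 9, .ofNat 0, .ofNat 0, .ofNat 5, .ofNat 0, .ofNat 4,
  .ofNat 1, .ofNat 0, .ofNat 1, .ofNat 0, .ofNat 0, .ofNat 0, .ofNat 0, .ofNat 0, .ofNat 0, .ofNat 0,
  .ofNat 8, .ofNat 3, .ofNat 1, .ofNat 0, .negSucc 2, .ofNat 0, .ofNat 0, .ofNat 7, .ofNat 0, .ofNat 3,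
  .ofNat 0, .ofNat 0, .ofNat 7, .ofNat 0, .ofNat 0, .negSucc 0, .ofNat 0, .ofNat 2, .ofNat 5, .negSucc 8,
  .ofNat 9, .ofNat 0, .negSucc 7, .negSucc 3, .ofNat 0, .ofNat 0, .ofNat 0, .ofNat 0, .ofNat 6, .negSucc 7,
  .ofNat 0, .ofNat 0, .negSucc 0, .ofNat 5, .negSucc 8, .ofNat 0, .ofNat 2, .negSucc 2, .ofNat 0, .ofNat 8,
  .ofNat 0, .ofNat 0, .ofNat 0, .negSucc 0, .negSucc 2, .ofNat 1, .negSucc 2, .ofNat 0, .ofNat 0, .negSucc 1,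
  .ofNat 2, .negSucc 1, .negSucc 5, .ofNat 0, .ofNat 9, .ofNat 3, .negSucc 0, .ofNat 6, .negSucc 2,
  .negSucc 2, .negSucc 7, .negSucc 4, .negSucc 15, .negSucc 10, .negSucc 8, .negSucc 11, .negSucc 7]

/-- the values at 24C -/
def col78 : List ℤ :=
  [.ofNat 1, .negSucc 0, .ofNat 2, .negSucc 2, .ofNat 4, .negSucc 1, .ofNat 3, .negSucc 0, .negSucc 1,
  .ofNat 3, .negSucc 0, .ofNat 4, .ofNat 6, .ofNat 3, .negSucc 7, .negSucc 3, .negSucc 1, .ofNat 1, .ofNat 2,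
  .ofNat 4, .negSucc 1, .ofNat 3, .ofNat 0, .ofNat 3, .ofNat 0, .ofNat 0, .negSucc 9, .ofNat 5, .negSucc 6,
  .ofNat 4, .ofNat 4, .ofNat 1, .ofNat 8, .negSucc 5, .ofNat 0, .negSucc 1, .ofNat 0, .ofNat 0, .ofNat 6,
  .ofNat 0, .ofNat 12, .negSucc 1, .ofNat 0, .ofNat 4, .negSucc 13, .ofNat 4, .ofNat 4, .negSucc 2, .ofNat 0,
  .ofNat 8, .negSucc 4, .negSucc 2, .ofNat 0, .negSucc 3, .ofNat 0, .ofNat 7, .negSucc 5, .ofNat 11,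
  .negSucc 10, .ofNat 0, .negSucc 4, .ofNat 2, .negSucc 4, .ofNat 0, .ofNat 0, .negSucc 4, .ofNat 2,
  .ofNat 0, .negSucc 5, .negSucc 7, .negSucc 0, .negSucc 3, .negSucc 3, .negSucc 3, .negSucc 5, .ofNat 6,
  .ofNat 4, .negSucc 9, .ofNat 0, .ofNat 0, .negSucc 11, .ofNat 0, .ofNat 0, .ofNat 8, .ofNat 0, .ofNat 0,
  .ofNat 7, .negSucc 3, .ofNat 2, .ofNat 0, .negSucc 2, .ofNat 5, .ofNat 12, .negSucc 4, .negSucc 7,
  .ofNat 0, .ofNat 10, .ofNat 0, .ofNat 0, .ofNat 0, .ofNat 0, .ofNat 0, .negSucc 5, .ofNat 12, .ofNat 2,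
  .ofNat 0, .ofNat 1, .ofNat 0, .negSucc 2, .ofNat 0, .ofNat 0, .negSucc 1, .ofNat 0, .ofNat 0, .ofNat 0,
  .ofNat 0, .ofNat 10, .ofNat 0, .ofNat 0, .ofNat 5, .ofNat 0, .ofNat 11, .ofNat 8, .ofNat 0, .ofNat 0,
  .ofNat 0, .ofNat 7, .ofNat 2, .ofNat 0, .ofNat 0, .ofNat 0, .ofNat 0, .ofNat 0, .negSucc 7, .ofNat 0,
  .ofNat 0, .negSucc 0, .negSucc 0, .ofNat 0, .ofNat 0, .negSucc 9, .negSucc 5, .ofNat 0, .ofNat 8, .ofNat 3,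
  .ofNat 0, .ofNat 0, .negSucc 6, .ofNat 0, .negSucc 1, .ofNat 0, .ofNat 0, .ofNat 0, .negSucc 1, .negSucc 9,
  .ofNat 4, .ofNat 0, .ofNat 0, .ofNat 0, .ofNat 6, .ofNat 8, .ofNat 3, .ofNat 0, .ofNat 12, .ofNat 4,
  .ofNat 10, .negSucc 3, .ofNat 10, .ofNat 0, .ofNat 0, .ofNat 4]

/-- the values at 24D -/
def col79 : List ℤ :=
  [.ofNat 1, .negSucc 1, .ofNat 1, .ofNat 0, .ofNat 2, .ofNat 2, .negSucc 1, .negSucc 0, .ofNat 2,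
  .negSucc 1, .ofNat 0, .negSucc 1, .negSucc 2, .negSucc 2, .ofNat 0, .negSucc 5, .ofNat 1, .ofNat 4,
  .negSucc 0, .ofNat 2, .ofNat 3, .ofNat 1, .negSucc 2, .ofNat 4, .ofNat 0, .negSucc 3, .ofNat 0, .ofNat 5,
  .negSucc 4, .ofNat 8, .negSucc 4, .ofNat 6, .negSucc 2, .ofNat 1, .ofNat 0, .negSucc 1, .ofNat 0, .ofNat 0,
  .ofNat 0, .ofNat 0, .negSucc 1, .negSucc 1, .ofNat 0, .ofNat 1, .negSucc 9, .ofNat 12, .ofNat 2,
  .negSucc 3, .ofNat 0, .ofNat 0, .ofNat 4, .negSucc 4, .ofNat 0, .negSucc 5, .ofNat 3, .ofNat 8, .negSucc 0,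
  .negSucc 10, .ofNat 9, .ofNat 6, .negSucc 5, .negSucc 5, .negSucc 2, .ofNat 3, .negSucc 5, .ofNat 6,
  .ofNat 4, .ofNat 0, .negSucc 1, .negSucc 5, .ofNat 6, .ofNat 3, .ofNat 0, .negSucc 1, .negSucc 6,
  .negSucc 2, .negSucc 4, .ofNat 6, .negSucc 7, .ofNat 0, .ofNat 0, .ofNat 3, .ofNat 0, .ofNat 1, .ofNat 0,
  .ofNat 0, .negSucc 0, .negSucc 6, .ofNat 2, .ofNat 0, .ofNat 0, .ofNat 9, .negSucc 7, .ofNat 4, .ofNat 1,
  .ofNat 0, .negSucc 2, .ofNat 0, .ofNat 0, .ofNat 0, .ofNat 0, .ofNat 0, .ofNat 0, .ofNat 0, .ofNat 0,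
  .ofNat 3, .ofNat 5, .ofNat 0, .ofNat 5, .ofNat 0, .ofNat 0, .ofNat 3, .ofNat 0, .ofNat 3, .ofNat 0,
  .ofNat 0, .negSucc 4, .ofNat 0, .ofNat 0, .negSucc 0, .ofNat 0, .ofNat 6, .negSucc 2, .ofNat 3, .negSucc 2,
  .negSucc 7, .ofNat 8, .negSucc 3, .ofNat 0, .ofNat 0, .ofNat 0, .ofNat 0, .negSucc 5, .ofNat 0, .ofNat 0,
  .ofNat 0, .ofNat 3, .negSucc 2, .ofNat 3, .ofNat 0, .negSucc 1, .ofNat 1, .ofNat 0, .ofNat 0, .ofNat 0,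
  .ofNat 0, .ofNat 0, .negSucc 8, .negSucc 2, .negSucc 2, .negSucc 2, .ofNat 0, .ofNat 0, .ofNat 2,
  .negSucc 1, .negSucc 5, .ofNat 6, .ofNat 0, .negSucc 2, .negSucc 0, .ofNat 7, .ofNat 6, .ofNat 1,
  .negSucc 6, .negSucc 3, .negSucc 12, .negSucc 3, .ofNat 1, .negSucc 4, .ofNat 0, .negSucc 3]

/-- the values at 24E -/
def col80 : List ℤ :=
  [.ofNat 1, .negSucc 0, .ofNat 0, .ofNat 0, .ofNat 0, .ofNat 1, .ofNat 4, .negSucc 3, .ofNat 0, .ofNat 0,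
  .ofNat 0, .negSucc 0, .ofNat 3, .ofNat 0, .ofNat 0, .ofNat 2, .ofNat 4, .negSucc 3, .ofNat 2, .negSucc 1,
  .negSucc 0, .ofNat 0, .negSucc 1, .negSucc 0, .negSucc 5, .ofNat 0, .ofNat 4, .ofNat 0, .ofNat 2,
  .negSucc 4, .ofNat 3, .ofNat 4, .ofNat 0, .ofNat 0, .negSucc 3, .ofNat 6, .ofNat 0, .ofNat 0, .ofNat 0,
  .ofNat 0, .negSucc 5, .ofNat 0, .ofNat 0, .negSucc 1, .negSucc 11, .negSucc 1, .ofNat 0, .ofNat 3,
  .ofNat 0, .ofNat 0, .ofNat 0, .ofNat 2, .ofNat 0, .ofNat 4, .ofNat 8, .ofNat 0, .ofNat 0, .negSucc 5,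
  .negSucc 3, .ofNat 0, .ofNat 4, .ofNat 2, .negSucc 3, .negSucc 7, .ofNat 8, .ofNat 0, .ofNat 1, .ofNat 0,
  .negSucc 5, .ofNat 0, .negSucc 4, .ofNat 0, .negSucc 5, .negSucc 2, .ofNat 0, .negSucc 2, .negSucc 3,
  .ofNat 0, .ofNat 0, .ofNat 0, .ofNat 0, .ofNat 0, .ofNat 0, .ofNat 3, .negSucc 5, .ofNat 6, .negSucc 1,
  .ofNat 0, .ofNat 3, .ofNat 0, .ofNat 0, .ofNat 0, .ofNat 0, .ofNat 0, .ofNat 0, .ofNat 0, .ofNat 0,
  .ofNat 0, .ofNat 3, .ofNat 0, .ofNat 0, .ofNat 0, .ofNat 1, .ofNat 0, .ofNat 0, .ofNat 1, .negSucc 3,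
  .ofNat 0, .ofNat 0, .ofNat 0, .ofNat 0, .ofNat 3, .ofNat 0, .ofNat 1, .ofNat 0, .negSucc 0, .ofNat 5,
  .ofNat 0, .ofNat 0, .negSucc 2, .ofNat 0, .negSucc 0, .ofNat 0, .ofNat 0, .ofNat 0, .ofNat 0, .ofNat 0,
  .ofNat 4, .ofNat 0, .ofNat 0, .ofNat 0, .ofNat 3, .negSucc 6, .ofNat 0, .negSucc 2, .ofNat 0, .ofNat 4,
  .negSucc 1, .ofNat 0, .ofNat 0, .negSucc 3, .ofNat 0, .ofNat 0, .ofNat 0, .ofNat 0, .ofNat 0, .ofNat 0,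
  .negSucc 2, .negSucc 6, .ofNat 2, .ofNat 2, .ofNat 0, .ofNat 0, .ofNat 3, .ofNat 2, .ofNat 1, .ofNat 0,
  .ofNat 0, .ofNat 7, .negSucc 2, .ofNat 2, .ofNat 0, .ofNat 0, .negSucc 3, .negSucc 1, .negSucc 3,
  .negSucc 0, .ofNat 2, .negSucc 0, .negSucc 5, .negSucc 1]

/-- the values at 24F -/
def col81 : List ℤ :=
  [.ofNat 1, .negSucc 0, .ofNat 0, .ofNat 3, .ofNat 0, .negSucc 1, .negSucc 2, .ofNat 3, .ofNat 0,
  .negSucc 2, .negSucc 2, .ofNat 2, .ofNat 2, .ofNat 3, .ofNat 0, .negSucc 3, .ofNat 0, .ofNat 3, .ofNat 4,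
  .ofNat 2, .negSucc 5, .negSucc 2, .negSucc 1, .ofNat 3, .ofNat 0, .ofNat 0, .ofNat 0, .ofNat 3, .ofNat 1,
  .negSucc 5, .ofNat 2, .ofNat 3, .ofNat 0, .ofNat 6, .negSucc 5, .negSucc 1, .ofNat 0, .ofNat 0, .negSucc 5,
  .ofNat 0, .negSucc 3, .ofNat 0, .ofNat 0, .ofNat 2, .negSucc 1, .ofNat 4, .ofNat 0, .negSucc 0, .ofNat 0,
  .ofNat 0, .negSucc 2, .ofNat 1, .ofNat 0, .ofNat 0, .ofNat 0, .negSucc 2, .ofNat 0, .ofNat 5, .negSucc 2,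
  .ofNat 0, .negSucc 2, .negSucc 9, .ofNat 3, .ofNat 0, .ofNat 0, .ofNat 3, .ofNat 4, .ofNat 0, .ofNat 2,
  .ofNat 0, .negSucc 0, .ofNat 0, .negSucc 3, .negSucc 1, .ofNat 0, .negSucc 1, .ofNat 0, .ofNat 0, .ofNat 0,
  .ofNat 0, .ofNat 0, .ofNat 0, .ofNat 0, .ofNat 2, .ofNat 0, .ofNat 0, .negSucc 0, .ofNat 0, .negSucc 3,
  .ofNat 0, .negSucc 2, .ofNat 3, .ofNat 0, .negSucc 2, .ofNat 0, .ofNat 0, .ofNat 0, .ofNat 0, .ofNat 0,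
  .ofNat 0, .ofNat 0, .ofNat 0, .negSucc 1, .negSucc 11, .ofNat 0, .ofNat 0, .negSucc 2, .ofNat 0, .ofNat 3,
  .ofNat 0, .ofNat 0, .ofNat 2, .ofNat 0, .ofNat 0, .ofNat 0, .ofNat 0, .negSucc 5, .ofNat 0, .ofNat 0,
  .ofNat 1, .ofNat 0, .negSucc 0, .ofNat 0, .ofNat 0, .ofNat 0, .ofNat 0, .ofNat 3, .ofNat 0, .ofNat 0,
  .ofNat 0, .ofNat 0, .ofNat 0, .ofNat 0, .ofNat 0, .ofNat 0, .ofNat 0, .ofNat 3, .ofNat 5, .ofNat 0,
  .ofNat 0, .ofNat 0, .ofNat 0, .ofNat 0, .ofNat 0, .ofNat 3, .ofNat 0, .ofNat 0, .ofNat 1, .ofNat 0,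
  .negSucc 3, .ofNat 2, .ofNat 0, .ofNat 6, .negSucc 3, .negSucc 1, .ofNat 4, .ofNat 0, .ofNat 0, .ofNat 0,
  .negSucc 1, .negSucc 1, .negSucc 2, .ofNat 0, .ofNat 0, .negSucc 1, .negSucc 3, .negSucc 3, .negSucc 1,
  .negSucc 1, .negSucc 1, .negSucc 1]

/-- the values at 24G -/
def col82 : List ℤ :=
  [.ofNat 1, .negSucc 0, .ofNat 0, .negSucc 0, .ofNat 0, .ofNat 2, .ofNat 1, .negSucc 0, .ofNat 0, .ofNat 1,
  .ofNat 1, .negSucc 1, .negSucc 1, .negSucc 0, .ofNat 0, .ofNat 4, .ofNat 0, .negSucc 0, .ofNat 4,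
  .negSucc 1, .negSucc 1, .ofNat 1, .ofNat 2, .negSucc 0, .ofNat 0, .ofNat 0, .ofNat 0, .negSucc 0, .ofNat 5,
  .negSucc 1, .negSucc 1, .ofNat 3, .ofNat 0, .ofNat 2, .negSucc 1, .negSucc 9, .ofNat 0, .ofNat 0,
  .negSucc 5, .ofNat 0, .ofNat 4, .ofNat 0, .ofNat 0, .negSucc 1, .negSucc 1, .negSucc 3, .ofNat 0,
  .negSucc 0, .ofNat 0, .ofNat 0, .negSucc 2, .ofNat 1, .ofNat 0, .ofNat 0, .ofNat 0, .ofNat 1, .ofNat 0,
  .negSucc 2, .ofNat 1, .ofNat 0, .negSucc 2, .ofNat 6, .negSucc 0, .ofNat 0, .ofNat 0, .ofNat 3, .ofNat 4,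
  .ofNat 0, .ofNat 2, .ofNat 0, .negSucc 4, .ofNat 0, .ofNat 4, .ofNat 2, .ofNat 0, .ofNat 2, .ofNat 0,
  .ofNat 0, .ofNat 0, .ofNat 0, .ofNat 0, .ofNat 0, .ofNat 0, .negSucc 1, .ofNat 0, .ofNat 0, .negSucc 0,
  .ofNat 0, .negSucc 3, .ofNat 0, .negSucc 2, .negSucc 0, .ofNat 0, .ofNat 1, .ofNat 0, .ofNat 0, .ofNat 0,
  .ofNat 0, .ofNat 0, .ofNat 0, .ofNat 0, .ofNat 0, .ofNat 2, .negSucc 3, .ofNat 0, .ofNat 0, .ofNat 1,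
  .negSucc 7, .negSucc 0, .ofNat 0, .ofNat 0, .negSucc 1, .ofNat 8, .ofNat 0, .ofNat 0, .ofNat 0, .negSucc 1,
  .ofNat 0, .ofNat 0, .ofNat 5, .ofNat 0, .ofNat 7, .ofNat 0, .ofNat 0, .ofNat 0, .ofNat 0, .ofNat 3,
  .ofNat 0, .ofNat 0, .ofNat 0, .ofNat 0, .ofNat 0, .ofNat 0, .ofNat 0, .ofNat 0, .ofNat 0, .negSucc 0,
  .negSucc 2, .ofNat 0, .ofNat 0, .ofNat 0, .ofNat 0, .ofNat 8, .ofNat 0, .ofNat 3, .negSucc 7, .ofNat 0,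
  .negSucc 2, .ofNat 0, .ofNat 4, .negSucc 1, .ofNat 0, .negSucc 5, .negSucc 3, .ofNat 2, .ofNat 4, .ofNat 0,
  .ofNat 0, .ofNat 0, .ofNat 2, .ofNat 2, .negSucc 2, .ofNat 0, .ofNat 0, .ofNat 2, .ofNat 4, .ofNat 4,
  .ofNat 2, .ofNat 2, .ofNat 2, .ofNat 2]

/-- the values at 24H -/
def col83 : List ℤ :=
  [.ofNat 1, .ofNat 1, .negSucc 1, .ofNat 3, .ofNat 2, .negSucc 3, .ofNat 1, .negSucc 0, .ofNat 2, .ofNat 1,
  .ofNat 3, .negSucc 1, .ofNat 0, .negSucc 2, .ofNat 0, .ofNat 0, .negSucc 1, .ofNat 1, .ofNat 2, .ofNat 2,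
  .ofNat 0, .ofNat 1, .ofNat 0, .ofNat 1, .ofNat 0, .negSucc 3, .ofNat 0, .negSucc 0, .ofNat 1, .ofNat 2,
  .negSucc 1, .negSucc 2, .ofNat 0, .ofNat 4, .ofNat 0, .negSucc 1, .ofNat 0, .ofNat 0, .negSucc 5, .ofNat 0,
  .ofNat 4, .negSucc 1, .ofNat 0, .negSucc 1, .ofNat 2, .ofNat 0, .ofNat 2, .negSucc 0, .ofNat 0, .ofNat 0,
  .ofNat 1, .ofNat 1, .ofNat 0, .ofNat 6, .ofNat 0, .negSucc 0, .ofNat 2, .ofNat 1, .ofNat 3, .ofNat 0,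
  .negSucc 2, .negSucc 5, .negSucc 2, .ofNat 0, .ofNat 0, .negSucc 2, .negSucc 1, .ofNat 0, .negSucc 1,
  .ofNat 0, .negSucc 2, .ofNat 0, .ofNat 0, .negSucc 1, .negSucc 3, .ofNat 0, .negSucc 1, .ofNat 0, .ofNat 4,
  .ofNat 0, .ofNat 0, .ofNat 0, .ofNat 0, .ofNat 4, .ofNat 0, .ofNat 0, .negSucc 0, .ofNat 2, .ofNat 2,
  .ofNat 0, .ofNat 3, .ofNat 3, .negSucc 1, .ofNat 1, .ofNat 4, .ofNat 0, .ofNat 0, .ofNat 0, .ofNat 0,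
  .ofNat 0, .ofNat 0, .ofNat 0, .ofNat 0, .ofNat 0, .ofNat 0, .ofNat 0, .negSucc 0, .ofNat 0, .negSucc 0,
  .ofNat 0, .ofNat 0, .negSucc 5, .ofNat 0, .ofNat 0, .ofNat 0, .ofNat 0, .negSucc 1, .ofNat 0, .ofNat 0,
  .negSucc 0, .ofNat 0, .negSucc 2, .ofNat 0, .ofNat 0, .ofNat 0, .ofNat 4, .negSucc 0, .ofNat 2, .ofNat 0,
  .ofNat 0, .ofNat 0, .ofNat 0, .ofNat 0, .ofNat 0, .ofNat 0, .ofNat 0, .negSucc 2, .ofNat 3, .ofNat 0,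
  .ofNat 0, .negSucc 1, .negSucc 1, .ofNat 0, .ofNat 0, .negSucc 2, .ofNat 0, .ofNat 0, .negSucc 2, .ofNat 0,
  .ofNat 0, .ofNat 0, .ofNat 0, .ofNat 0, .ofNat 2, .negSucc 1, .ofNat 0, .ofNat 0, .ofNat 0, .ofNat 0,
  .ofNat 2, .ofNat 4, .negSucc 2, .ofNat 4, .ofNat 2, .ofNat 2, .ofNat 2, .ofNat 2, .ofNat 4, .ofNat 4,
  .ofNat 0, .ofNat 2]

/-- the values at 24I -/
def col84 : List ℤ :=
  [.ofNat 1, .ofNat 3, .ofNat 2, .ofNat 1, .ofNat 0, .ofNat 2, .negSucc 0, .negSucc 0, .negSucc 1,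
  .negSucc 0, .negSucc 0, .ofNat 0, .ofNat 2, .negSucc 0, .ofNat 0, .ofNat 4, .negSucc 1, .ofNat 1, .ofNat 2,
  .ofNat 0, .ofNat 2, .negSucc 0, .ofNat 0, .negSucc 0, .ofNat 0, .ofNat 0, .ofNat 2, .ofNat 1, .ofNat 1,
  .ofNat 0, .ofNat 0, .ofNat 1, .ofNat 0, .negSucc 1, .ofNat 0, .negSucc 1, .ofNat 0, .ofNat 0, .negSucc 1,
  .ofNat 0, .negSucc 3, .negSucc 1, .ofNat 0, .ofNat 0, .ofNat 2, .ofNat 12, .ofNat 0, .ofNat 1, .ofNat 0,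
  .ofNat 0, .negSucc 0, .negSucc 2, .ofNat 0, .ofNat 0, .ofNat 0, .negSucc 0, .ofNat 2, .negSucc 0, .ofNat 1,
  .ofNat 0, .negSucc 0, .ofNat 2, .negSucc 0, .ofNat 0, .ofNat 0, .negSucc 0, .ofNat 2, .ofNat 0, .ofNat 2,
  .ofNat 8, .ofNat 3, .negSucc 3, .ofNat 4, .ofNat 0, .negSucc 1, .ofNat 2, .ofNat 0, .ofNat 2, .ofNat 0,
  .ofNat 0, .negSucc 3, .ofNat 0, .ofNat 0, .ofNat 0, .ofNat 0, .ofNat 0, .negSucc 0, .ofNat 0, .ofNat 2,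
  .ofNat 0, .ofNat 1, .ofNat 1, .ofNat 0, .negSucc 0, .ofNat 0, .ofNat 0, .negSucc 1, .ofNat 0, .ofNat 0,
  .ofNat 0, .ofNat 0, .ofNat 0, .negSucc 1, .ofNat 4, .negSucc 1, .ofNat 0, .negSucc 2, .ofNat 0, .ofNat 1,
  .ofNat 0, .ofNat 0, .negSucc 1, .ofNat 0, .ofNat 0, .ofNat 0, .ofNat 0, .ofNat 2, .ofNat 0, .ofNat 0,
  .ofNat 1, .ofNat 0, .negSucc 0, .ofNat 0, .ofNat 0, .ofNat 0, .ofNat 0, .negSucc 0, .ofNat 2, .ofNat 0,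
  .ofNat 0, .ofNat 0, .ofNat 0, .ofNat 0, .ofNat 0, .ofNat 0, .ofNat 0, .ofNat 3, .negSucc 0, .ofNat 0,
  .ofNat 0, .negSucc 1, .ofNat 2, .ofNat 0, .ofNat 0, .negSucc 0, .ofNat 0, .ofNat 0, .ofNat 1, .ofNat 0,
  .ofNat 2, .ofNat 0, .ofNat 0, .ofNat 0, .negSucc 1, .negSucc 1, .ofNat 4, .ofNat 0, .ofNat 0, .ofNat 0,
  .negSucc 1, .ofNat 0, .negSucc 0, .ofNat 0, .ofNat 0, .ofNat 0, .ofNat 2, .ofNat 0, .negSucc 1, .ofNat 0,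
  .ofNat 0, .ofNat 0]

/-- the values at 24J -/
def col85 : List ℤ :=
  [.ofNat 1, .negSucc 0, .ofNat 0, .ofNat 0, .ofNat 0, .ofNat 1, .ofNat 0, .ofNat 0, .ofNat 0, .ofNat 0,
  .ofNat 0, .negSucc 0, .negSucc 0, .ofNat 0, .ofNat 0, .ofNat 2, .ofNat 0, .ofNat 0, .negSucc 1, .ofNat 2,
  .ofNat 3, .ofNat 0, .negSucc 1, .ofNat 3, .negSucc 5, .ofNat 0, .ofNat 0, .ofNat 0, .negSucc 1, .ofNat 3,
  .negSucc 0, .ofNat 0, .ofNat 0, .ofNat 0, .ofNat 0, .negSucc 1, .ofNat 0, .ofNat 0, .ofNat 0, .ofNat 0,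
  .ofNat 2, .ofNat 0, .ofNat 0, .ofNat 2, .ofNat 4, .negSucc 1, .ofNat 0, .negSucc 0, .ofNat 0, .ofNat 0,
  .ofNat 0, .negSucc 1, .ofNat 0, .ofNat 0, .ofNat 0, .ofNat 0, .ofNat 0, .ofNat 2, .ofNat 0, .ofNat 0,
  .ofNat 0, .ofNat 2, .ofNat 0, .ofNat 0, .ofNat 0, .ofNat 0, .ofNat 1, .ofNat 0, .ofNat 2, .ofNat 0,
  .negSucc 0, .ofNat 0, .ofNat 2, .ofNat 1, .ofNat 0, .ofNat 1, .ofNat 0, .ofNat 0, .ofNat 0, .ofNat 0,
  .ofNat 0, .ofNat 0, .ofNat 0, .negSucc 0, .negSucc 5, .ofNat 6, .ofNat 2, .ofNat 0, .negSucc 0, .ofNat 0,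
  .ofNat 0, .ofNat 0, .ofNat 0, .ofNat 0, .ofNat 0, .ofNat 0, .ofNat 0, .ofNat 0, .ofNat 3, .ofNat 0,
  .ofNat 0, .ofNat 0, .ofNat 1, .ofNat 0, .ofNat 0, .negSucc 2, .ofNat 0, .ofNat 0, .ofNat 0, .ofNat 0,
  .ofNat 0, .negSucc 0, .ofNat 0, .negSucc 2, .ofNat 0, .ofNat 3, .negSucc 2, .ofNat 0, .ofNat 0, .ofNat 1,
  .ofNat 0, .negSucc 0, .ofNat 0, .ofNat 0, .ofNat 0, .ofNat 0, .ofNat 0, .ofNat 0, .ofNat 0, .ofNat 0,
  .ofNat 0, .ofNat 3, .negSucc 2, .ofNat 0, .negSucc 2, .ofNat 0, .ofNat 0, .ofNat 2, .ofNat 0, .ofNat 0,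
  .ofNat 0, .ofNat 0, .ofNat 0, .ofNat 0, .ofNat 0, .ofNat 0, .ofNat 0, .ofNat 1, .negSucc 2, .ofNat 2,
  .ofNat 2, .ofNat 0, .ofNat 0, .negSucc 0, .negSucc 1, .ofNat 1, .ofNat 0, .ofNat 0, .ofNat 3, .ofNat 1,
  .negSucc 1, .ofNat 0, .ofNat 0, .ofNat 0, .negSucc 1, .negSucc 3, .negSucc 0, .negSucc 1, .negSucc 4,
  .negSucc 1, .negSucc 1]

/-- the values at 25A -/
def col86 : List ℤ :=
  [.ofNat 1, .ofNat 3, .ofNat 1, .ofNat 1, .ofNat 1, .ofNat 2, .negSucc 1, .negSucc 1, .negSucc 0, .ofNat 0,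
  .negSucc 1, .negSucc 0, .ofNat 3, .ofNat 0, .ofNat 1, .ofNat 0, .negSucc 1, .ofNat 0, .ofNat 0, .ofNat 0,
  .ofNat 2, .ofNat 0, .ofNat 1, .ofNat 0, .ofNat 2, .ofNat 0, .ofNat 0, .ofNat 0, .ofNat 0, .ofNat 0,
  .ofNat 0, .ofNat 0, .ofNat 0, .ofNat 0, .ofNat 0, .ofNat 2, .negSucc 1, .ofNat 1, .ofNat 2, .ofNat 0,
  .ofNat 4, .ofNat 0, .ofNat 0, .negSucc 1, .ofNat 0, .ofNat 0, .ofNat 0, .ofNat 0, .ofNat 0, .ofNat 1,
  .negSucc 1, .ofNat 0, .ofNat 0, .ofNat 1, .ofNat 2, .ofNat 0, .ofNat 0, .ofNat 0, .ofNat 0, .ofNat 0,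
  .ofNat 0, .ofNat 0, .ofNat 0, .ofNat 0, .negSucc 1, .ofNat 0, .ofNat 0, .negSucc 3, .ofNat 0, .ofNat 0,
  .ofNat 0, .ofNat 3, .ofNat 0, .ofNat 0, .ofNat 0, .ofNat 0, .ofNat 0, .ofNat 0, .ofNat 0, .ofNat 0,
  .ofNat 4, .ofNat 2, .negSucc 3, .ofNat 0, .ofNat 4, .ofNat 6, .negSucc 0, .ofNat 0, .ofNat 0, .ofNat 3,
  .negSucc 2, .ofNat 0, .negSucc 0, .ofNat 0, .negSucc 0, .ofNat 0, .ofNat 0, .ofNat 0, .ofNat 0, .negSucc 0,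
  .negSucc 1, .ofNat 1, .ofNat 0, .ofNat 0, .ofNat 0, .ofNat 0, .ofNat 0, .ofNat 1, .ofNat 0, .negSucc 1,
  .negSucc 1, .ofNat 0, .ofNat 0, .ofNat 0, .negSucc 2, .ofNat 0, .ofNat 0, .negSucc 1, .ofNat 0, .ofNat 0,
  .ofNat 0, .ofNat 0, .ofNat 0, .ofNat 0, .ofNat 2, .ofNat 2, .ofNat 0, .ofNat 0, .negSucc 2, .ofNat 0,
  .ofNat 0, .ofNat 1, .ofNat 0, .ofNat 0, .ofNat 1, .ofNat 1, .ofNat 0, .ofNat 0, .negSucc 1, .ofNat 1,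
  .ofNat 0, .ofNat 0, .ofNat 1, .ofNat 0, .ofNat 1, .ofNat 0, .ofNat 3, .ofNat 0, .ofNat 0, .negSucc 0,
  .negSucc 0, .ofNat 1, .ofNat 0, .ofNat 0, .ofNat 0, .ofNat 0, .negSucc 1, .ofNat 2, .ofNat 0, .ofNat 0,
  .ofNat 0, .ofNat 0, .ofNat 0, .ofNat 1, .negSucc 0, .negSucc 1, .ofNat 0, .ofNat 0, .ofNat 0, .ofNat 0,
  .ofNat 2]

/-- the values at 26A -/
def col87 : List ℤ :=
  [.ofNat 1, .ofNat 3, .ofNat 0, .ofNat 2, .ofNat 4, .negSucc 0, .ofNat 0, .negSucc 3, .negSucc 0, .ofNat 3,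
  .negSucc 0, .negSucc 2, .negSucc 2, .ofNat 4, .ofNat 2, .ofNat 2, .ofNat 0, .ofNat 3, .negSucc 2,
  .negSucc 2, .negSucc 1, .ofNat 0, .ofNat 1, .ofNat 4, .ofNat 0, .negSucc 0, .ofNat 0, .ofNat 3, .ofNat 0,
  .ofNat 0, .ofNat 1, .ofNat 0, .ofNat 0, .ofNat 0, .ofNat 0, .ofNat 0, .ofNat 0, .ofNat 0, .ofNat 0,
  .negSucc 3, .ofNat 0, .ofNat 0, .ofNat 0, .negSucc 2, .ofNat 0, .ofNat 6, .ofNat 0, .ofNat 1, .ofNat 0,
  .negSucc 3, .negSucc 0, .negSucc 0, .ofNat 2, .ofNat 0, .negSucc 1, .ofNat 4, .ofNat 0, .ofNat 0,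
  .negSucc 2, .negSucc 1, .ofNat 0, .ofNat 0, .ofNat 0, .ofNat 3, .ofNat 4, .ofNat 2, .ofNat 0, .ofNat 0,
  .ofNat 2, .ofNat 0, .negSucc 3, .ofNat 0, .ofNat 0, .ofNat 0, .negSucc 0, .negSucc 3, .ofNat 4, .negSucc 1,
  .ofNat 0, .ofNat 4, .ofNat 0, .ofNat 0, .ofNat 0, .ofNat 0, .ofNat 0, .ofNat 0, .ofNat 1, .ofNat 0,
  .ofNat 0, .negSucc 3, .ofNat 0, .ofNat 0, .ofNat 0, .negSucc 2, .ofNat 1, .ofNat 4, .ofNat 0, .ofNat 0,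
  .negSucc 2, .ofNat 2, .negSucc 3, .ofNat 0, .ofNat 3, .ofNat 4, .ofNat 0, .negSucc 2, .ofNat 0, .ofNat 1,
  .negSucc 2, .ofNat 0, .ofNat 0, .ofNat 0, .ofNat 3, .ofNat 0, .negSucc 1, .negSucc 3, .ofNat 0, .ofNat 4,
  .ofNat 0, .ofNat 0, .ofNat 0, .ofNat 0, .negSucc 0, .ofNat 0, .ofNat 0, .ofNat 0, .ofNat 0, .ofNat 0,
  .ofNat 0, .ofNat 0, .ofNat 0, .ofNat 0, .negSucc 1, .ofNat 2, .negSucc 2, .ofNat 0, .ofNat 0, .ofNat 0,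
  .negSucc 0, .ofNat 0, .ofNat 4, .ofNat 0, .ofNat 1, .ofNat 0, .ofNat 0, .ofNat 3, .ofNat 3, .ofNat 0,
  .negSucc 2, .ofNat 0, .ofNat 0, .negSucc 3, .ofNat 3, .ofNat 0, .ofNat 0, .negSucc 0, .ofNat 1, .ofNat 0,
  .negSucc 3, .ofNat 0, .ofNat 0, .ofNat 1, .ofNat 0, .ofNat 3, .ofNat 3, .ofNat 3, .ofNat 6, .ofNat 3,
  .ofNat 3, .ofNat 3, .ofNat 3]

/-- the values at 26B -/
def col88 : List ℤ :=
  [.ofNat 1, .ofNat 2, .ofNat 3, .ofNat 0, .negSucc 1, .ofNat 0, .ofNat 1, .ofNat 0, .ofNat 0, .negSucc 3,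
  .ofNat 4, .ofNat 0, .ofNat 0, .negSucc 0, .ofNat 0, .ofNat 0, .ofNat 0, .ofNat 0, .ofNat 1, .ofNat 0,
  .ofNat 0, .ofNat 0, .ofNat 2, .ofNat 0, .ofNat 0, .ofNat 3, .ofNat 0, .ofNat 0, .negSucc 3, .ofNat 0,
  .ofNat 0, .ofNat 0, .ofNat 0, .ofNat 2, .ofNat 0, .ofNat 0, .ofNat 0, .ofNat 0, .ofNat 2, .negSucc 3,
  .ofNat 0, .negSucc 2, .ofNat 2, .ofNat 0, .ofNat 0, .ofNat 0, .ofNat 0, .ofNat 0, .ofNat 0, .ofNat 0,
  .ofNat 0, .ofNat 0, .ofNat 0, .ofNat 0, .ofNat 0, .ofNat 1, .ofNat 0, .ofNat 0, .ofNat 0, .ofNat 0,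
  .ofNat 0, .ofNat 0, .ofNat 0, .ofNat 0, .ofNat 0, .ofNat 0, .ofNat 0, .negSucc 3, .negSucc 1, .ofNat 0,
  .negSucc 1, .ofNat 0, .ofNat 6, .ofNat 0, .ofNat 4, .ofNat 1, .ofNat 0, .ofNat 0, .ofNat 0, .ofNat 2,
  .ofNat 4, .ofNat 0, .ofNat 0, .ofNat 0, .ofNat 0, .ofNat 0, .ofNat 0, .ofNat 0, .ofNat 0, .negSucc 5,
  .ofNat 0, .ofNat 0, .ofNat 0, .ofNat 0, .ofNat 0, .ofNat 0, .ofNat 2, .ofNat 0, .ofNat 3, .ofNat 0,
  .ofNat 0, .ofNat 0, .negSucc 3, .ofNat 0, .ofNat 0, .negSucc 2, .ofNat 0, .ofNat 0, .ofNat 2, .ofNat 0,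
  .ofNat 0, .ofNat 0, .ofNat 0, .ofNat 3, .ofNat 0, .ofNat 0, .ofNat 0, .ofNat 0, .ofNat 0, .ofNat 0,
  .negSucc 3, .ofNat 0, .ofNat 0, .ofNat 0, .ofNat 0, .ofNat 0, .ofNat 0, .ofNat 0, .ofNat 0, .ofNat 0,
  .ofNat 0, .ofNat 0, .ofNat 0, .ofNat 0, .ofNat 3, .ofNat 0, .ofNat 0, .ofNat 1, .ofNat 0, .ofNat 0,
  .ofNat 0, .ofNat 0, .ofNat 0, .ofNat 0, .ofNat 0, .ofNat 0, .ofNat 0, .ofNat 0, .ofNat 0, .ofNat 0,
  .ofNat 0, .ofNat 0, .ofNat 1, .ofNat 0, .ofNat 0, .ofNat 0, .ofNat 0, .ofNat 0, .ofNat 0, .ofNat 0,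
  .ofNat 0, .negSucc 0, .ofNat 0, .negSucc 2, .ofNat 0, .ofNat 0, .ofNat 0, .ofNat 3, .ofNat 0, .ofNat 0,
  .ofNat 0]

/-- the values at 27AB -/
def col89 : List ℤ :=
  [.ofNat 1, .ofNat 2, .ofNat 2, .ofNat 1, .negSucc 0, .negSucc 0, .ofNat 0, .ofNat 0, .ofNat 0, .negSucc 0,
  .ofNat 0, .ofNat 0, .negSucc 1, .negSucc 0, .negSucc 0, .ofNat 2, .ofNat 2, .negSucc 0, .ofNat 0, .ofNat 2,
  .ofNat 1, .ofNat 2, .ofNat 0, .negSucc 0, .ofNat 0, .ofNat 0, .negSucc 0, .ofNat 0, .ofNat 0, .negSucc 0,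
  .ofNat 0, .negSucc 0, .ofNat 1, .ofNat 0, .negSucc 0, .negSucc 1, .ofNat 2, .negSucc 0, .ofNat 0, .ofNat 0,
  .ofNat 2, .ofNat 2, .ofNat 0, .ofNat 0, .ofNat 0, .ofNat 4, .ofNat 0, .negSucc 1, .negSucc 1, .ofNat 0,
  .ofNat 0, .ofNat 2, .ofNat 0, .ofNat 0, .ofNat 0, .ofNat 0, .ofNat 0, .ofNat 1, .negSucc 0, .ofNat 0,
  .ofNat 0, .ofNat 2, .ofNat 1, .ofNat 0, .ofNat 0, .ofNat 0, .ofNat 0, .ofNat 0, .ofNat 0, .ofNat 4,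
  .negSucc 0, .ofNat 0, .negSucc 3, .ofNat 0, .ofNat 0, .ofNat 0, .ofNat 0, .ofNat 0, .ofNat 0, .ofNat 0,
  .ofNat 0, .ofNat 0, .negSucc 3, .ofNat 0, .ofNat 0, .ofNat 0, .ofNat 1, .ofNat 0, .negSucc 0, .ofNat 2,
  .ofNat 0, .ofNat 0, .ofNat 0, .ofNat 0, .ofNat 0, .ofNat 1, .ofNat 0, .negSucc 0, .ofNat 0, .negSucc 0,
  .negSucc 1, .ofNat 0, .ofNat 0, .ofNat 2, .ofNat 0, .ofNat 0, .ofNat 2, .negSucc 0, .ofNat 1, .ofNat 2,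
  .ofNat 2, .ofNat 1, .negSucc 1, .ofNat 0, .ofNat 0, .ofNat 0, .negSucc 1, .ofNat 0, .ofNat 0, .negSucc 1,
  .negSucc 1, .ofNat 0, .ofNat 0, .ofNat 0, .ofNat 0, .ofNat 0, .ofNat 0, .ofNat 0, .ofNat 2, .ofNat 1,
  .ofNat 2, .ofNat 0, .ofNat 0, .ofNat 0, .ofNat 0, .ofNat 0, .ofNat 0, .ofNat 0, .ofNat 0, .ofNat 0,
  .negSucc 0, .ofNat 0, .ofNat 1, .ofNat 0, .ofNat 0, .ofNat 0, .ofNat 0, .negSucc 0, .ofNat 0, .ofNat 0,
  .ofNat 0, .negSucc 0, .ofNat 0, .ofNat 1, .ofNat 2, .negSucc 0, .ofNat 0, .ofNat 0, .ofNat 0, .negSucc 0,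
  .ofNat 0, .ofNat 0, .ofNat 0, .ofNat 0, .ofNat 0, .ofNat 0, .ofNat 0, .ofNat 0, .ofNat 0, .ofNat 0,
  .ofNat 0]

/-- the values at 28A -/
def col90 : List ℤ :=
  [.ofNat 1, .ofNat 2, .negSucc 2, .negSucc 1, .ofNat 6, .ofNat 0, .ofNat 0, .negSucc 2, .negSucc 0,
  .negSucc 2, .ofNat 3, .ofNat 6, .negSucc 7, .ofNat 4, .ofNat 9, .ofNat 0, .negSucc 1, .negSucc 6, .ofNat 0,
  .ofNat 3, .ofNat 0, .negSucc 3, .negSucc 1, .ofNat 2, .negSucc 5, .negSucc 0, .negSucc 7, .ofNat 12,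
  .ofNat 0, .negSucc 13, .ofNat 1, .ofNat 11, .ofNat 9, .ofNat 1, .ofNat 3, .ofNat 0, .ofNat 0, .ofNat 0,
  .ofNat 0, .ofNat 0, .ofNat 14, .negSucc 4, .ofNat 0, .negSucc 6, .negSucc 3, .ofNat 0, .negSucc 5,
  .negSucc 8, .ofNat 0, .ofNat 7, .ofNat 14, .negSucc 13, .ofNat 2, .ofNat 0, .ofNat 8, .ofNat 3, .negSucc 3,
  .ofNat 0, .ofNat 13, .negSucc 3, .ofNat 0, .ofNat 2, .ofNat 7, .ofNat 6, .negSucc 3, .negSucc 16, .ofNat 0,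
  .ofNat 0, .ofNat 0, .ofNat 0, .ofNat 0, .ofNat 0, .ofNat 0, .negSucc 4, .ofNat 6, .negSucc 0, .ofNat 0,
  .ofNat 0, .ofNat 0, .ofNat 0, .ofNat 0, .negSucc 7, .ofNat 0, .ofNat 1, .negSucc 5, .negSucc 11, .ofNat 0,
  .ofNat 14, .negSucc 4, .ofNat 0, .negSucc 8, .negSucc 7, .negSucc 11, .ofNat 0, .ofNat 0, .ofNat 0,
  .ofNat 1, .ofNat 0, .negSucc 2, .ofNat 16, .ofNat 0, .ofNat 0, .ofNat 0, .ofNat 0, .negSucc 7, .ofNat 0,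
  .ofNat 0, .ofNat 8, .ofNat 0, .ofNat 0, .ofNat 0, .ofNat 6, .negSucc 7, .ofNat 0, .negSucc 1, .negSucc 1,
  .ofNat 3, .ofNat 0, .ofNat 0, .ofNat 0, .ofNat 0, .ofNat 0, .negSucc 6, .ofNat 4, .negSucc 3, .ofNat 0,
  .negSucc 2, .ofNat 6, .ofNat 0, .ofNat 0, .ofNat 0, .negSucc 5, .ofNat 11, .ofNat 9, .negSucc 8, .ofNat 9,
  .negSucc 2, .ofNat 0, .ofNat 7, .ofNat 0, .negSucc 5, .negSucc 1, .ofNat 8, .ofNat 7, .ofNat 0, .negSucc 7,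
  .ofNat 0, .ofNat 0, .negSucc 5, .ofNat 0, .ofNat 0, .ofNat 0, .ofNat 0, .ofNat 0, .negSucc 6, .ofNat 0,
  .negSucc 0, .ofNat 9, .ofNat 7, .ofNat 0, .negSucc 0, .ofNat 0, .negSucc 4, .negSucc 1, .negSucc 1,
  .negSucc 0, .negSucc 1, .negSucc 3, .ofNat 0, .negSucc 4, .negSucc 1]

/-- the values at 28B -/
def col91 : List ℤ :=
  [.ofNat 1, .ofNat 2, .ofNat 1, .ofNat 2, .negSucc 1, .ofNat 0, .negSucc 3, .ofNat 1, .ofNat 3, .ofNat 1,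
  .negSucc 4, .ofNat 2, .ofNat 0, .ofNat 0, .negSucc 6, .ofNat 0, .ofNat 2, .negSucc 2, .ofNat 8, .ofNat 7,
  .ofNat 4, .ofNat 0, .negSucc 5, .negSucc 1, .ofNat 2, .ofNat 3, .negSucc 3, .ofNat 4, .ofNat 4, .negSucc 5,
  .negSucc 2, .ofNat 11, .negSucc 6, .negSucc 6, .negSucc 4, .ofNat 0, .ofNat 0, .ofNat 8, .ofNat 0,
  .ofNat 8, .ofNat 6, .negSucc 0, .ofNat 0, .negSucc 2, .negSucc 3, .ofNat 0, .ofNat 6, .ofNat 3, .ofNat 8,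
  .negSucc 4, .ofNat 6, .negSucc 5, .negSucc 1, .ofNat 0, .negSucc 3, .negSucc 0, .ofNat 0, .ofNat 0,
  .negSucc 2, .ofNat 12, .ofNat 0, .ofNat 2, .ofNat 3, .negSucc 1, .ofNat 8, .negSucc 4, .negSucc 7,
  .ofNat 0, .ofNat 0, .ofNat 0, .ofNat 0, .ofNat 0, .ofNat 0, .negSucc 0, .negSucc 5, .ofNat 7, .ofNat 0,
  .negSucc 3, .negSucc 7, .ofNat 0, .ofNat 0, .ofNat 0, .ofNat 0, .ofNat 1, .ofNat 2, .ofNat 4, .ofNat 0,
  .ofNat 6, .negSucc 0, .ofNat 0, .ofNat 3, .negSucc 11, .ofNat 0, .ofNat 0, .ofNat 0, .ofNat 8, .negSucc 2,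
  .ofNat 8, .ofNat 5, .ofNat 0, .ofNat 0, .negSucc 3, .ofNat 0, .ofNat 0, .ofNat 12, .negSucc 7, .ofNat 0,
  .ofNat 0, .ofNat 0, .ofNat 0, .ofNat 0, .negSucc 5, .ofNat 0, .ofNat 4, .negSucc 5, .ofNat 2, .negSucc 0,
  .ofNat 0, .ofNat 0, .ofNat 0, .ofNat 0, .ofNat 0, .negSucc 2, .ofNat 0, .ofNat 0, .negSucc 3, .negSucc 2,
  .negSucc 5, .ofNat 0, .negSucc 3, .ofNat 0, .ofNat 2, .negSucc 0, .ofNat 1, .ofNat 7, .ofNat 1, .negSucc 2,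
  .ofNat 4, .ofNat 3, .negSucc 7, .ofNat 6, .ofNat 6, .ofNat 0, .ofNat 3, .ofNat 0, .ofNat 0, .ofNat 0,
  .ofNat 0, .ofNat 2, .ofNat 0, .ofNat 0, .ofNat 0, .ofNat 0, .ofNat 0, .negSucc 2, .ofNat 0, .ofNat 3,
  .negSucc 6, .negSucc 4, .ofNat 0, .negSucc 0, .ofNat 0, .ofNat 3, .ofNat 6, .ofNat 6, .negSucc 0, .ofNat 6,
  .ofNat 12, .ofNat 12, .ofNat 7, .ofNat 6]

/-- the values at 28C -/
def col92 : List ℤ :=
  [.ofNat 1, .negSucc 1, .ofNat 1, .ofNat 2, .ofNat 2, .ofNat 0, .negSucc 3, .ofNat 1, .negSucc 0,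
  .negSucc 2, .negSucc 0, .ofNat 2, .ofNat 0, .ofNat 0, .ofNat 1, .ofNat 0, .ofNat 2, .ofNat 5, .ofNat 0,
  .ofNat 3, .negSucc 3, .negSucc 3, .negSucc 1, .ofNat 2, .ofNat 2, .ofNat 3, .ofNat 0, .ofNat 4, .negSucc 3,
  .ofNat 2, .ofNat 1, .negSucc 0, .negSucc 2, .ofNat 1, .negSucc 4, .ofNat 0, .ofNat 0, .ofNat 0, .ofNat 0,
  .ofNat 0, .negSucc 1, .ofNat 3, .ofNat 0, .ofNat 5, .ofNat 4, .ofNat 0, .negSucc 1, .negSucc 0, .ofNat 8,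
  .ofNat 3, .negSucc 1, .ofNat 2, .ofNat 2, .ofNat 0, .ofNat 4, .ofNat 3, .ofNat 0, .ofNat 0, .ofNat 1,
  .ofNat 4, .ofNat 0, .ofNat 10, .negSucc 4, .negSucc 1, .negSucc 3, .negSucc 0, .ofNat 0, .ofNat 0,
  .ofNat 0, .ofNat 0, .ofNat 0, .ofNat 0, .ofNat 0, .ofNat 3, .negSucc 1, .negSucc 0, .ofNat 0, .ofNat 4,
  .ofNat 0, .ofNat 0, .ofNat 0, .negSucc 3, .ofNat 0, .ofNat 5, .negSucc 5, .negSucc 3, .ofNat 0, .ofNat 2,
  .ofNat 3, .ofNat 0, .negSucc 0, .negSucc 3, .negSucc 3, .ofNat 0, .ofNat 0, .ofNat 0, .ofNat 1, .ofNat 0,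
  .ofNat 1, .ofNat 0, .ofNat 0, .negSucc 3, .ofNat 0, .ofNat 0, .ofNat 4, .ofNat 0, .ofNat 0, .ofNat 0,
  .ofNat 0, .ofNat 0, .ofNat 0, .negSucc 1, .ofNat 0, .negSucc 3, .negSucc 1, .negSucc 1, .ofNat 3, .ofNat 0,
  .ofNat 0, .ofNat 0, .ofNat 0, .ofNat 0, .ofNat 5, .ofNat 4, .ofNat 0, .ofNat 4, .ofNat 1, .negSucc 1,
  .ofNat 0, .ofNat 4, .ofNat 0, .negSucc 1, .ofNat 3, .ofNat 1, .negSucc 0, .ofNat 1, .negSucc 2, .negSucc 3,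
  .negSucc 4, .ofNat 0, .ofNat 2, .ofNat 2, .ofNat 0, .negSucc 4, .ofNat 0, .ofNat 0, .ofNat 0, .ofNat 0,
  .negSucc 1, .ofNat 0, .ofNat 0, .ofNat 0, .ofNat 0, .ofNat 0, .ofNat 5, .ofNat 0, .negSucc 0, .ofNat 1,
  .negSucc 0, .ofNat 0, .negSucc 0, .ofNat 0, .ofNat 3, .ofNat 2, .ofNat 2, .ofNat 3, .ofNat 2, .ofNat 4,
  .ofNat 4, .negSucc 0, .ofNat 2]

/-- the values at 28D -/
def col93 : List ℤ :=
  [.ofNat 1, .ofNat 1, .negSucc 1, .ofNat 1, .ofNat 2, .negSucc 1, .ofNat 1, .negSucc 0, .ofNat 1, .ofNat 0,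
  .ofNat 2, .ofNat 0, .ofNat 0, .negSucc 0, .ofNat 0, .ofNat 0, .ofNat 0, .ofNat 0, .ofNat 0, .negSucc 1,
  .ofNat 0, .negSucc 0, .ofNat 0, .negSucc 0, .ofNat 0, .ofNat 1, .ofNat 0, .ofNat 2, .ofNat 0, .ofNat 0,
  .ofNat 0, .negSucc 0, .negSucc 1, .ofNat 0, .ofNat 0, .ofNat 0, .ofNat 0, .ofNat 0, .ofNat 0, .ofNat 0,
  .ofNat 0, .ofNat 0, .ofNat 0, .ofNat 0, .negSucc 5, .ofNat 0, .ofNat 2, .negSucc 0, .ofNat 0, .ofNat 0,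
  .ofNat 0, .ofNat 0, .ofNat 0, .ofNat 0, .ofNat 0, .ofNat 0, .ofNat 1, .ofNat 2, .ofNat 2, .ofNat 0,
  .ofNat 0, .ofNat 4, .ofNat 0, .ofNat 0, .ofNat 0, .negSucc 0, .ofNat 0, .ofNat 0, .ofNat 0, .ofNat 0,
  .ofNat 0, .ofNat 0, .ofNat 0, .ofNat 0, .negSucc 0, .ofNat 0, .ofNat 0, .ofNat 0, .ofNat 0, .ofNat 0,
  .ofNat 0, .ofNat 3, .ofNat 0, .negSucc 0, .ofNat 0, .ofNat 0, .ofNat 0, .negSucc 1, .ofNat 0, .ofNat 0,
  .negSucc 0, .ofNat 0, .ofNat 0, .ofNat 0, .ofNat 0, .ofNat 0, .ofNat 0, .ofNat 0, .ofNat 3, .ofNat 0,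
  .ofNat 0, .ofNat 0, .ofNat 0, .ofNat 0, .ofNat 2, .ofNat 0, .ofNat 0, .ofNat 0, .ofNat 0, .ofNat 0,
  .ofNat 0, .ofNat 0, .ofNat 0, .ofNat 0, .ofNat 0, .ofNat 0, .ofNat 0, .ofNat 0, .ofNat 0, .ofNat 0,
  .ofNat 0, .ofNat 0, .ofNat 0, .negSucc 2, .ofNat 0, .ofNat 0, .ofNat 1, .ofNat 0, .ofNat 0, .ofNat 0,
  .ofNat 0, .negSucc 2, .ofNat 0, .ofNat 0, .ofNat 0, .ofNat 0, .ofNat 0, .ofNat 0, .ofNat 0, .ofNat 0,
  .ofNat 0, .negSucc 0, .ofNat 0, .ofNat 0, .ofNat 0, .ofNat 0, .ofNat 0, .ofNat 1, .ofNat 0, .ofNat 0,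
  .ofNat 0, .ofNat 0, .ofNat 1, .ofNat 0, .ofNat 0, .ofNat 0, .ofNat 0, .ofNat 0, .ofNat 0, .ofNat 0,
  .negSucc 2, .ofNat 0, .ofNat 2, .negSucc 1, .ofNat 0, .negSucc 1, .negSucc 1, .negSucc 5, .negSucc 1,
  .negSucc 1, .negSucc 1]

/-- the values at 29A -/
def col94 : List ℤ :=
  [.ofNat 1, .ofNat 2, .ofNat 1, .ofNat 0, .ofNat 0, .ofNat 0, .ofNat 0, .negSucc 0, .negSucc 1, .ofNat 0,
  .ofNat 0, .ofNat 0, .ofNat 0, .ofNat 0, .ofNat 1, .negSucc 1, .ofNat 0, .ofNat 2, .ofNat 0, .negSucc 0,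
  .ofNat 0, .ofNat 0, .ofNat 0, .ofNat 0, .ofNat 0, .negSucc 0, .ofNat 1, .ofNat 0, .ofNat 0, .ofNat 0,
  .ofNat 0, .ofNat 0, .ofNat 0, .ofNat 0, .ofNat 0, .negSucc 1, .ofNat 0, .negSucc 1, .ofNat 0, .ofNat 0,
  .ofNat 0, .ofNat 0, .ofNat 0, .ofNat 1, .ofNat 0, .negSucc 3, .ofNat 0, .ofNat 0, .ofNat 2, .ofNat 0,
  .ofNat 0, .ofNat 0, .ofNat 0, .negSucc 0, .ofNat 0, .negSucc 0, .ofNat 0, .ofNat 0, .ofNat 0, .ofNat 2,
  .ofNat 0, .ofNat 0, .ofNat 0, .ofNat 0, .ofNat 1, .ofNat 0, .ofNat 2, .ofNat 0, .ofNat 0, .negSucc 1,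
  .ofNat 0, .negSucc 1, .ofNat 0, .ofNat 0, .ofNat 0, .ofNat 0, .ofNat 0, .ofNat 0, .ofNat 0, .ofNat 0,
  .ofNat 0, .ofNat 0, .negSucc 1, .ofNat 0, .ofNat 0, .ofNat 0, .ofNat 0, .ofNat 0, .ofNat 1, .ofNat 0,
  .ofNat 0, .ofNat 0, .ofNat 0, .ofNat 0, .ofNat 0, .ofNat 2, .negSucc 1, .ofNat 0, .ofNat 0, .ofNat 0,
  .ofNat 0, .ofNat 0, .ofNat 0, .ofNat 0, .ofNat 0, .ofNat 0, .ofNat 0, .negSucc 0, .ofNat 0, .ofNat 0,
  .ofNat 0, .ofNat 0, .negSucc 0, .ofNat 0, .ofNat 0, .ofNat 1, .ofNat 0, .ofNat 0, .ofNat 0, .ofNat 0,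
  .ofNat 0, .ofNat 0, .ofNat 0, .ofNat 0, .ofNat 0, .ofNat 0, .negSucc 0, .ofNat 0, .ofNat 0, .ofNat 0,
  .ofNat 0, .ofNat 0, .ofNat 1, .ofNat 0, .ofNat 0, .ofNat 0, .ofNat 0, .ofNat 0, .ofNat 2, .ofNat 0,
  .ofNat 0, .ofNat 0, .ofNat 0, .ofNat 1, .ofNat 0, .ofNat 0, .ofNat 0, .ofNat 0, .ofNat 0, .ofNat 0,
  .ofNat 0, .negSucc 0, .ofNat 0, .ofNat 2, .ofNat 0, .ofNat 0, .ofNat 0, .ofNat 0, .ofNat 0, .ofNat 0,
  .ofNat 0, .ofNat 0, .ofNat 0, .ofNat 0, .ofNat 0, .ofNat 0, .negSucc 1, .ofNat 0, .ofNat 0, .ofNat 0,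
  .ofNat 2]

/-- the values at 30A -/
def col95 : List ℤ :=
  [.ofNat 1, .ofNat 2, .negSucc 3, .negSucc 1, .ofNat 5, .ofNat 2, .negSucc 4, .negSucc 0, .ofNat 9,
  .negSucc 9, .ofNat 3, .ofNat 6, .ofNat 2, .ofNat 11, .negSucc 0, .ofNat 0, .ofNat 6, .negSucc 16, .ofNat 2,
  .ofNat 0, .negSucc 0, .negSucc 0, .ofNat 7, .ofNat 2, .ofNat 0, .ofNat 0, .negSucc 5, .ofNat 0, .ofNat 0,
  .ofNat 1, .negSucc 3, .ofNat 6, .ofNat 0, .ofNat 0, .ofNat 13, .ofNat 16, .ofNat 0, .negSucc 31,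
  .negSucc 5, .ofNat 8, .negSucc 27, .ofNat 0, .ofNat 6, .ofNat 13, .ofNat 0, .ofNat 0, .negSucc 20,
  .ofNat 0, .ofNat 10, .negSucc 18, .ofNat 15, .ofNat 0, .negSucc 14, .ofNat 1, .ofNat 0, .ofNat 0, .ofNat 9,
  .ofNat 3, .ofNat 0, .ofNat 0, .negSucc 22, .ofNat 0, .negSucc 6, .ofNat 0, .ofNat 0, .ofNat 0, .ofNat 10,
  .negSucc 15, .ofNat 0, .ofNat 0, .negSucc 4, .ofNat 18, .ofNat 0, .ofNat 0, .ofNat 0, .ofNat 0, .negSucc 7,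
  .negSucc 8, .ofNat 2, .ofNat 0, .ofNat 18, .ofNat 0, .ofNat 0, .ofNat 0, .ofNat 0, .ofNat 0, .ofNat 24,
  .negSucc 2, .ofNat 0, .ofNat 18, .negSucc 2, .ofNat 0, .ofNat 9, .negSucc 24, .ofNat 6, .ofNat 0, .ofNat 0,
  .ofNat 2, .ofNat 0, .ofNat 0, .ofNat 0, .ofNat 7, .ofNat 0, .ofNat 0, .ofNat 0, .ofNat 0, .ofNat 1,
  .ofNat 0, .ofNat 0, .ofNat 4, .ofNat 2, .negSucc 9, .ofNat 0, .ofNat 0, .negSucc 7, .ofNat 0, .ofNat 0,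
  .negSucc 13, .negSucc 5, .negSucc 1, .ofNat 0, .ofNat 6, .ofNat 0, .ofNat 0, .ofNat 0, .negSucc 4,
  .ofNat 0, .ofNat 0, .ofNat 0, .ofNat 13, .negSucc 23, .ofNat 0, .ofNat 0, .ofNat 0, .ofNat 0, .ofNat 0,
  .ofNat 0, .ofNat 0, .ofNat 0, .ofNat 0, .ofNat 0, .ofNat 9, .ofNat 0, .ofNat 3, .negSucc 14, .ofNat 0,
  .ofNat 0, .ofNat 0, .ofNat 0, .ofNat 24, .negSucc 23, .ofNat 0, .ofNat 15, .ofNat 0, .ofNat 0, .ofNat 0,
  .ofNat 0, .ofNat 0, .ofNat 0, .ofNat 0, .ofNat 0, .ofNat 0, .ofNat 0, .ofNat 11, .ofNat 28, .ofNat 14,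
  .ofNat 13, .ofNat 13, .ofNat 15, .ofNat 10, .ofNat 13]

/-- the values at 30B -/
def col96 : List ℤ :=
  [.ofNat 1, .ofNat 3, .negSucc 1, .ofNat 0, .ofNat 4, .ofNat 3, .negSucc 4, .negSucc 4, .ofNat 7,
  .negSucc 4, .negSucc 0, .negSucc 0, .ofNat 11, .ofNat 9, .ofNat 1, .ofNat 0, .ofNat 2, .negSucc 7,
  .negSucc 4, .negSucc 0, .ofNat 0, .negSucc 2, .ofNat 6, .ofNat 7, .ofNat 0, .ofNat 12, .negSucc 13,
  .negSucc 7, .ofNat 4, .ofNat 5, .negSucc 0, .ofNat 10, .negSucc 9, .ofNat 5, .ofNat 7, .negSucc 5,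
  .ofNat 4, .negSucc 13, .ofNat 0, .ofNat 4, .ofNat 18, .ofNat 10, .negSucc 1, .negSucc 4, .ofNat 0,
  .ofNat 0, .negSucc 1, .negSucc 3, .ofNat 0, .ofNat 0, .negSucc 0, .ofNat 3, .negSucc 12, .negSucc 3,
  .negSucc 3, .ofNat 8, .negSucc 2, .negSucc 5, .ofNat 0, .ofNat 0, .ofNat 11, .ofNat 0, .ofNat 8, .ofNat 7,
  .ofNat 11, .ofNat 11, .negSucc 1, .ofNat 0, .ofNat 0, .ofNat 0, .ofNat 0, .negSucc 17, .ofNat 10,
  .negSucc 9, .negSucc 7, .ofNat 5, .negSucc 9, .negSucc 4, .ofNat 1, .negSucc 9, .ofNat 0, .ofNat 6,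
  .ofNat 0, .ofNat 1, .ofNat 0, .ofNat 0, .negSucc 2, .negSucc 12, .ofNat 0, .ofNat 0, .ofNat 0, .ofNat 0,
  .negSucc 6, .negSucc 4, .ofNat 4, .ofNat 10, .ofNat 10, .negSucc 2, .ofNat 0, .ofNat 8, .negSucc 15,
  .negSucc 1, .ofNat 0, .ofNat 0, .negSucc 9, .ofNat 7, .negSucc 1, .negSucc 11, .negSucc 4, .ofNat 8,
  .negSucc 1, .ofNat 0, .negSucc 3, .ofNat 7, .ofNat 5, .ofNat 14, .ofNat 3, .ofNat 4, .negSucc 3, .ofNat 9,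
  .ofNat 0, .negSucc 3, .negSucc 6, .ofNat 6, .negSucc 5, .ofNat 10, .negSucc 3, .ofNat 0, .ofNat 6,
  .ofNat 10, .ofNat 0, .ofNat 0, .ofNat 11, .ofNat 0, .ofNat 0, .ofNat 0, .ofNat 0, .ofNat 4, .negSucc 17,
  .ofNat 0, .ofNat 0, .ofNat 3, .negSucc 11, .negSucc 16, .ofNat 0, .negSucc 3, .ofNat 0, .ofNat 0,
  .negSucc 6, .negSucc 11, .ofNat 16, .ofNat 16, .ofNat 0, .ofNat 0, .negSucc 6, .ofNat 0, .ofNat 3,
  .ofNat 0, .ofNat 4, .negSucc 4, .ofNat 0, .ofNat 5, .ofNat 3, .negSucc 0, .ofNat 12, .ofNat 4, .ofNat 5,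
  .ofNat 5, .ofNat 12, .ofNat 3, .ofNat 5]

/-- the values at 30C -/
def col97 : List ℤ :=
  [.ofNat 1, .negSucc 0, .negSucc 1, .ofNat 4, .ofNat 0, .negSucc 0, .ofNat 3, .negSucc 0, .negSucc 0,
  .negSucc 4, .ofNat 3, .negSucc 0, .ofNat 7, .ofNat 1, .ofNat 1, .ofNat 0, .negSucc 1, .ofNat 0, .negSucc 0,
  .ofNat 7, .ofNat 0, .ofNat 5, .negSucc 5, .negSucc 0, .ofNat 0, .negSucc 3, .ofNat 2, .ofNat 4, .ofNat 0,
  .negSucc 2, .ofNat 3, .negSucc 1, .negSucc 5, .negSucc 6, .ofNat 3, .ofNat 2, .ofNat 12, .negSucc 1,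
  .ofNat 0, .ofNat 4, .ofNat 2, .ofNat 2, .ofNat 2, .negSucc 4, .ofNat 0, .ofNat 0, .negSucc 1, .ofNat 4,
  .ofNat 0, .negSucc 3, .ofNat 3, .ofNat 7, .ofNat 3, .ofNat 0, .ofNat 0, .ofNat 0, .negSucc 6, .ofNat 6,
  .ofNat 0, .ofNat 0, .negSucc 4, .ofNat 0, .negSucc 3, .ofNat 3, .ofNat 3, .ofNat 3, .ofNat 10, .ofNat 16,
  .ofNat 0, .ofNat 0, .ofNat 0, .ofNat 6, .ofNat 2, .negSucc 1, .ofNat 4, .negSucc 6, .ofNat 6, .ofNat 3,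
  .ofNat 1, .negSucc 5, .ofNat 0, .negSucc 5, .ofNat 0, .negSucc 6, .ofNat 0, .ofNat 0, .ofNat 1, .negSucc 0,
  .ofNat 0, .negSucc 7, .ofNat 0, .ofNat 0, .negSucc 6, .ofNat 11, .negSucc 11, .ofNat 6, .ofNat 6, .ofNat 5,
  .ofNat 0, .ofNat 0, .ofNat 0, .ofNat 2, .ofNat 0, .ofNat 0, .negSucc 5, .ofNat 3, .negSucc 1, .ofNat 0,
  .ofNat 7, .negSucc 7, .ofNat 2, .ofNat 0, .ofNat 0, .ofNat 3, .ofNat 5, .ofNat 6, .ofNat 3, .negSucc 3,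
  .negSucc 11, .negSucc 6, .ofNat 0, .ofNat 0, .negSucc 2, .negSucc 5, .ofNat 6, .negSucc 1, .ofNat 0,
  .ofNat 0, .negSucc 5, .negSucc 1, .ofNat 8, .ofNat 0, .ofNat 3, .ofNat 0, .ofNat 0, .ofNat 0, .ofNat 0,
  .negSucc 3, .negSucc 5, .ofNat 0, .ofNat 0, .ofNat 7, .ofNat 0, .negSucc 4, .ofNat 0, .ofNat 0, .ofNat 0,
  .ofNat 0, .negSucc 2, .ofNat 4, .negSucc 3, .ofNat 0, .ofNat 0, .ofNat 0, .negSucc 6, .ofNat 0, .ofNat 3,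
  .ofNat 0, .ofNat 0, .ofNat 7, .ofNat 0, .negSucc 6, .ofNat 7, .ofNat 15, .ofNat 12, .ofNat 8, .ofNat 9,
  .ofNat 9, .ofNat 8, .ofNat 11, .ofNat 9]

/-- the values at 30D -/
def col98 : List ℤ :=
  [.ofNat 1, .ofNat 2, .ofNat 1, .negSucc 1, .ofNat 0, .ofNat 2, .ofNat 0, .negSucc 0, .negSucc 0,
  .negSucc 4, .ofNat 3, .negSucc 3, .ofNat 7, .ofNat 1, .ofNat 4, .ofNat 0, .ofNat 1, .ofNat 3, .ofNat 2,
  .negSucc 4, .negSucc 5, .negSucc 0, .negSucc 2, .ofNat 2, .ofNat 0, .ofNat 5, .negSucc 0, .negSucc 4,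
  .ofNat 0, .ofNat 6, .ofNat 6, .ofNat 1, .ofNat 0, .ofNat 5, .ofNat 3, .negSucc 3, .ofNat 0, .negSucc 1,
  .negSucc 5, .negSucc 1, .ofNat 2, .negSucc 9, .negSucc 3, .negSucc 1, .ofNat 0, .ofNat 0, .ofNat 4,
  .negSucc 4, .ofNat 0, .negSucc 3, .ofNat 0, .negSucc 4, .ofNat 0, .ofNat 6, .ofNat 0, .ofNat 0, .negSucc 0,
  .ofNat 3, .ofNat 0, .ofNat 0, .ofNat 7, .ofNat 0, .ofNat 8, .ofNat 0, .ofNat 0, .ofNat 0, .negSucc 4,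
  .ofNat 4, .ofNat 0, .ofNat 0, .ofNat 0, .ofNat 3, .negSucc 9, .ofNat 10, .negSucc 4, .ofNat 5, .negSucc 2,
  .ofNat 6, .ofNat 7, .ofNat 0, .negSucc 11, .ofNat 0, .ofNat 0, .ofNat 5, .ofNat 0, .ofNat 0, .ofNat 4,
  .ofNat 2, .ofNat 0, .negSucc 1, .negSucc 2, .ofNat 0, .negSucc 0, .ofNat 5, .negSucc 8, .ofNat 0, .ofNat 0,
  .ofNat 2, .ofNat 0, .ofNat 0, .ofNat 0, .ofNat 2, .ofNat 0, .ofNat 0, .ofNat 0, .ofNat 0, .ofNat 1,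
  .ofNat 0, .negSucc 4, .ofNat 4, .ofNat 2, .ofNat 0, .ofNat 0, .ofNat 0, .ofNat 2, .ofNat 0, .ofNat 0,
  .negSucc 3, .negSucc 5, .negSucc 6, .ofNat 0, .ofNat 6, .ofNat 0, .ofNat 0, .ofNat 0, .negSucc 4, .ofNat 0,
  .ofNat 0, .ofNat 0, .negSucc 1, .negSucc 3, .ofNat 0, .ofNat 0, .ofNat 0, .ofNat 0, .ofNat 0, .ofNat 0,
  .ofNat 5, .ofNat 0, .ofNat 0, .ofNat 0, .ofNat 4, .ofNat 0, .negSucc 1, .ofNat 0, .ofNat 0, .ofNat 0,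
  .ofNat 0, .ofNat 0, .ofNat 4, .negSucc 3, .ofNat 0, .ofNat 0, .ofNat 0, .ofNat 5, .ofNat 0, .ofNat 0,
  .ofNat 0, .ofNat 0, .negSucc 4, .ofNat 0, .ofNat 5, .negSucc 4, .ofNat 6, .ofNat 3, .negSucc 0, .ofNat 3,
  .ofNat 3, .ofNat 5, .ofNat 5, .ofNat 3]

/-- the values at 30E -/
def col99 : List ℤ :=
  [.ofNat 1, .negSucc 0, .ofNat 2, .negSucc 1, .ofNat 2, .negSucc 0, .ofNat 1, .negSucc 0, .ofNat 0,
  .ofNat 2, .ofNat 0, .ofNat 3, .ofNat 2, .ofNat 2, .negSucc 3, .ofNat 0, .negSucc 2, .ofNat 1, .ofNat 2,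
  .ofNat 0, .negSucc 0, .ofNat 2, .ofNat 1, .negSucc 0, .ofNat 0, .ofNat 0, .negSucc 2, .ofNat 0, .ofNat 0,
  .negSucc 1, .ofNat 2, .negSucc 2, .ofNat 0, .ofNat 0, .ofNat 1, .negSucc 1, .ofNat 0, .negSucc 1, .ofNat 0,
  .ofNat 2, .negSucc 3, .ofNat 0, .ofNat 0, .negSucc 1, .ofNat 0, .ofNat 0, .ofNat 0, .ofNat 0, .ofNat 4,
  .ofNat 2, .ofNat 0, .ofNat 0, .ofNat 0, .ofNat 1, .negSucc 2, .ofNat 0, .ofNat 0, .negSucc 2, .ofNat 0,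
  .ofNat 0, .ofNat 1, .ofNat 0, .negSucc 0, .ofNat 3, .negSucc 2, .ofNat 0, .ofNat 1, .negSucc 3, .ofNat 0,
  .ofNat 0, .ofNat 1, .ofNat 3, .ofNat 0, .ofNat 0, .ofNat 0, .ofNat 0, .ofNat 1, .ofNat 0, .ofNat 2,
  .ofNat 0, .ofNat 0, .ofNat 0, .ofNat 0, .ofNat 0, .ofNat 0, .ofNat 0, .negSucc 2, .ofNat 0, .ofNat 0,
  .ofNat 0, .ofNat 0, .ofNat 0, .ofNat 0, .ofNat 2, .ofNat 0, .ofNat 0, .ofNat 0, .negSucc 3, .ofNat 3,
  .ofNat 0, .ofNat 0, .negSucc 1, .ofNat 0, .ofNat 0, .ofNat 0, .negSucc 2, .negSucc 1, .ofNat 0, .ofNat 0,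
  .ofNat 4, .ofNat 2, .ofNat 2, .ofNat 0, .negSucc 2, .negSucc 1, .ofNat 3, .ofNat 0, .ofNat 4, .ofNat 0,
  .negSucc 1, .ofNat 0, .ofNat 0, .ofNat 0, .ofNat 0, .ofNat 0, .negSucc 1, .ofNat 0, .ofNat 0, .ofNat 0,
  .negSucc 1, .ofNat 0, .ofNat 3, .ofNat 0, .ofNat 0, .negSucc 2, .ofNat 0, .ofNat 0, .ofNat 0, .ofNat 0,
  .ofNat 0, .ofNat 0, .ofNat 0, .ofNat 0, .ofNat 0, .ofNat 0, .ofNat 0, .ofNat 0, .ofNat 0, .ofNat 0,
  .ofNat 0, .ofNat 0, .ofNat 0, .ofNat 0, .ofNat 0, .ofNat 0, .ofNat 0, .ofNat 0, .ofNat 0, .ofNat 0,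
  .ofNat 0, .ofNat 0, .ofNat 0, .ofNat 0, .negSucc 0, .ofNat 4, .negSucc 0, .ofNat 1, .ofNat 1, .ofNat 3,
  .ofNat 1, .ofNat 1]

/-- the values at 30F -/
def col100 : List ℤ :=
  [.ofNat 1, .ofNat 2, .ofNat 0, .ofNat 2, .ofNat 1, .negSucc 1, .negSucc 0, .negSucc 0, .ofNat 1, .ofNat 2,
  .negSucc 0, .negSucc 1, .negSucc 1, .negSucc 0, .negSucc 0, .ofNat 0, .ofNat 2, .negSucc 0, .ofNat 2,
  .ofNat 0, .negSucc 0, .ofNat 3, .negSucc 0, .ofNat 2, .ofNat 0, .ofNat 0, .negSucc 1, .ofNat 0, .ofNat 0,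
  .ofNat 1, .ofNat 0, .negSucc 1, .ofNat 0, .ofNat 0, .negSucc 2, .ofNat 0, .ofNat 0, .ofNat 0, .ofNat 2,
  .ofNat 0, .negSucc 3, .ofNat 0, .ofNat 2, .ofNat 1, .ofNat 0, .ofNat 0, .negSucc 0, .ofNat 0, .ofNat 2,
  .ofNat 1, .ofNat 3, .ofNat 0, .negSucc 2, .ofNat 1, .ofNat 0, .ofNat 0, .ofNat 1, .negSucc 0, .ofNat 0,
  .ofNat 0, .ofNat 1, .ofNat 0, .ofNat 1, .ofNat 0, .ofNat 0, .ofNat 0, .negSucc 1, .ofNat 0, .ofNat 0,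
  .ofNat 0, .ofNat 3, .negSucc 1, .ofNat 0, .ofNat 0, .ofNat 0, .ofNat 0, .ofNat 0, .negSucc 0, .ofNat 2,
  .ofNat 0, .ofNat 2, .ofNat 0, .ofNat 0, .ofNat 0, .ofNat 0, .ofNat 0, .ofNat 0, .ofNat 1, .ofNat 0,
  .negSucc 1, .negSucc 2, .ofNat 0, .ofNat 1, .ofNat 3, .ofNat 2, .ofNat 0, .ofNat 0, .negSucc 1, .ofNat 0,
  .ofNat 0, .ofNat 0, .ofNat 3, .ofNat 0, .ofNat 0, .ofNat 0, .ofNat 0, .negSucc 2, .ofNat 0, .ofNat 0,
  .negSucc 3, .negSucc 1, .ofNat 2, .ofNat 0, .ofNat 0, .ofNat 0, .ofNat 0, .ofNat 0, .negSucc 1, .negSucc 1,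
  .ofNat 2, .ofNat 0, .ofNat 2, .ofNat 0, .ofNat 0, .ofNat 0, .negSucc 0, .ofNat 0, .ofNat 0, .ofNat 0,
  .ofNat 1, .ofNat 0, .ofNat 0, .ofNat 0, .ofNat 0, .ofNat 0, .ofNat 0, .ofNat 0, .ofNat 0, .ofNat 0,
  .ofNat 0, .ofNat 0, .ofNat 1, .ofNat 0, .negSucc 0, .ofNat 1, .ofNat 0, .ofNat 0, .ofNat 0, .ofNat 0,
  .ofNat 0, .ofNat 0, .ofNat 0, .negSucc 0, .ofNat 0, .ofNat 0, .ofNat 0, .ofNat 0, .ofNat 0, .ofNat 0,
  .ofNat 0, .ofNat 0, .ofNat 0, .ofNat 0, .ofNat 3, .ofNat 0, .ofNat 2, .ofNat 1, .ofNat 1, .negSucc 0,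
  .ofNat 2, .ofNat 1]

/-- the values at 30G -/
def col101 : List ℤ :=
  [.ofNat 1, .ofNat 0, .negSucc 1, .ofNat 2, .ofNat 1, .negSucc 1, .ofNat 1, .ofNat 1, .ofNat 1, .negSucc 1,
  .ofNat 1, .ofNat 0, .ofNat 2, .negSucc 0, .negSucc 0, .ofNat 0, .negSucc 1, .ofNat 1, .ofNat 0, .ofNat 0,
  .ofNat 1, .ofNat 1, .negSucc 0, .ofNat 0, .ofNat 0, .ofNat 0, .ofNat 2, .ofNat 0, .ofNat 0, .negSucc 0,
  .negSucc 1, .ofNat 0, .ofNat 0, .ofNat 0, .ofNat 1, .ofNat 4, .ofNat 4, .ofNat 0, .negSucc 1, .ofNat 0,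
  .ofNat 0, .ofNat 0, .ofNat 2, .ofNat 1, .ofNat 0, .ofNat 0, .negSucc 0, .ofNat 0, .ofNat 2, .ofNat 1,
  .negSucc 0, .ofNat 0, .negSucc 0, .negSucc 2, .ofNat 0, .ofNat 0, .negSucc 0, .negSucc 2, .ofNat 0,
  .ofNat 0, .ofNat 1, .ofNat 0, .ofNat 3, .ofNat 0, .ofNat 0, .ofNat 0, .negSucc 1, .ofNat 0, .ofNat 0,
  .ofNat 0, .negSucc 2, .negSucc 1, .ofNat 0, .ofNat 0, .ofNat 0, .ofNat 0, .ofNat 0, .ofNat 3, .ofNat 2,
  .ofNat 0, .ofNat 2, .ofNat 0, .ofNat 0, .ofNat 0, .ofNat 0, .ofNat 0, .ofNat 2, .ofNat 1, .ofNat 0,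
  .ofNat 2, .ofNat 3, .ofNat 0, .negSucc 0, .negSucc 0, .negSucc 1, .ofNat 0, .ofNat 0, .ofNat 0, .ofNat 0,
  .ofNat 0, .ofNat 0, .ofNat 1, .ofNat 0, .ofNat 0, .ofNat 0, .ofNat 0, .negSucc 0, .ofNat 0, .ofNat 0,
  .ofNat 0, .ofNat 2, .ofNat 2, .ofNat 0, .ofNat 0, .negSucc 3, .ofNat 0, .ofNat 0, .ofNat 2, .ofNat 2,
  .ofNat 2, .ofNat 0, .ofNat 4, .ofNat 0, .ofNat 0, .ofNat 0, .ofNat 1, .ofNat 0, .ofNat 0, .ofNat 0,
  .negSucc 2, .ofNat 0, .ofNat 0, .ofNat 0, .ofNat 0, .ofNat 0, .ofNat 0, .ofNat 0, .ofNat 0, .ofNat 0,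
  .ofNat 0, .ofNat 0, .negSucc 0, .ofNat 0, .negSucc 0, .negSucc 0, .ofNat 0, .ofNat 0, .ofNat 0, .ofNat 0,
  .ofNat 0, .ofNat 0, .ofNat 0, .ofNat 1, .ofNat 0, .ofNat 0, .ofNat 0, .ofNat 0, .ofNat 0, .ofNat 0,
  .ofNat 0, .ofNat 0, .ofNat 0, .ofNat 0, .ofNat 3, .ofNat 0, .ofNat 2, .ofNat 1, .ofNat 1, .negSucc 0,
  .ofNat 2, .ofNat 1]

/-- the values at 31AB -/
def col102 : List ℤ :=
  [.ofNat 1, .ofNat 2, .ofNat 0, .ofNat 0, .ofNat 0, .ofNat 1, .negSucc 1, .negSucc 0, .ofNat 0, .ofNat 0,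
  .negSucc 0, .ofNat 0, .ofNat 2, .ofNat 0, .ofNat 0, .negSucc 1, .ofNat 0, .ofNat 0, .ofNat 1, .ofNat 0,
  .ofNat 1, .ofNat 0, .ofNat 0, .ofNat 0, .negSucc 0, .ofNat 0, .ofNat 0, .negSucc 0, .ofNat 0, .ofNat 0,
  .ofNat 0, .ofNat 0, .negSucc 0, .negSucc 1, .ofNat 0, .ofNat 0, .ofNat 2, .ofNat 2, .ofNat 0, .ofNat 0,
  .ofNat 0, .ofNat 0, .ofNat 0, .ofNat 0, .ofNat 0, .negSucc 3, .ofNat 0, .ofNat 0, .ofNat 0, .ofNat 0,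
  .ofNat 0, .ofNat 0, .ofNat 0, .ofNat 1, .ofNat 0, .ofNat 0, .ofNat 0, .ofNat 1, .ofNat 0, .ofNat 0,
  .negSucc 1, .ofNat 0, .ofNat 0, .ofNat 0, .ofNat 0, .ofNat 0, .ofNat 0, .ofNat 0, .ofNat 0, .ofNat 0,
  .ofNat 0, .ofNat 0, .ofNat 0, .ofNat 0, .ofNat 0, .ofNat 0, .ofNat 0, .ofNat 0, .ofNat 0, .ofNat 1,
  .ofNat 0, .ofNat 0, .ofNat 0, .ofNat 0, .negSucc 0, .negSucc 1, .ofNat 0, .ofNat 0, .negSucc 0, .ofNat 0,
  .ofNat 0, .ofNat 2, .ofNat 0, .ofNat 0, .ofNat 0, .ofNat 0, .ofNat 0, .negSucc 0, .negSucc 0, .ofNat 1,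
  .ofNat 2, .ofNat 0, .negSucc 0, .ofNat 0, .ofNat 0, .ofNat 0, .ofNat 0, .ofNat 0, .ofNat 0, .ofNat 0,
  .ofNat 1, .ofNat 0, .ofNat 1, .ofNat 0, .ofNat 0, .ofNat 0, .ofNat 0, .ofNat 0, .ofNat 1, .ofNat 0,
  .negSucc 1, .ofNat 0, .ofNat 0, .ofNat 0, .ofNat 0, .ofNat 0, .ofNat 0, .ofNat 0, .ofNat 2, .ofNat 0,
  .ofNat 0, .negSucc 0, .ofNat 0, .ofNat 0, .negSucc 1, .ofNat 0, .ofNat 0, .negSucc 0, .ofNat 0, .ofNat 0,
  .ofNat 0, .ofNat 0, .ofNat 0, .ofNat 0, .ofNat 0, .ofNat 1, .ofNat 0, .ofNat 0, .ofNat 0, .ofNat 0,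
  .ofNat 0, .ofNat 1, .ofNat 0, .ofNat 0, .ofNat 0, .negSucc 0, .ofNat 0, .ofNat 0, .ofNat 0, .negSucc 1,
  .ofNat 0, .ofNat 0, .ofNat 0, .ofNat 0, .ofNat 0, .ofNat 0, .ofNat 2, .ofNat 0, .ofNat 0, .ofNat 0,
  .negSucc 1]

/-- the values at 32A -/
def col103 : List ℤ :=
  [.ofNat 1, .ofNat 1, .ofNat 2, .ofNat 0, .negSucc 1, .negSucc 0, .ofNat 0, .ofNat 0, .ofNat 1, .negSucc 0,
  .ofNat 1, .ofNat 1, .negSucc 0, .ofNat 0, .ofNat 0, .negSucc 1, .ofNat 0, .negSucc 0, .ofNat 0, .ofNat 2,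
  .ofNat 1, .ofNat 0, .ofNat 0, .negSucc 0, .negSucc 1, .ofNat 1, .ofNat 0, .ofNat 1, .negSucc 0, .negSucc 0,
  .negSucc 0, .ofNat 0, .ofNat 0, .ofNat 0, .ofNat 0, .ofNat 0, .ofNat 0, .ofNat 0, .ofNat 0, .ofNat 0,
  .ofNat 0, .ofNat 0, .ofNat 0, .negSucc 1, .ofNat 2, .negSucc 1, .ofNat 0, .ofNat 1, .ofNat 0, .ofNat 0,
  .negSucc 0, .ofNat 0, .ofNat 0, .ofNat 0, .ofNat 0, .ofNat 2, .ofNat 0, .ofNat 0, .ofNat 2, .negSucc 1,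
  .ofNat 1, .negSucc 1, .ofNat 0, .ofNat 1, .ofNat 0, .ofNat 0, .ofNat 0, .ofNat 0, .ofNat 0, .negSucc 3,
  .ofNat 1, .ofNat 0, .ofNat 0, .ofNat 0, .negSucc 0, .ofNat 0, .ofNat 0, .ofNat 0, .ofNat 0, .ofNat 0,
  .negSucc 1, .ofNat 1, .ofNat 0, .ofNat 1, .ofNat 0, .negSucc 1, .ofNat 0, .negSucc 0, .ofNat 0, .ofNat 0,
  .ofNat 0, .negSucc 0, .ofNat 0, .negSucc 1, .ofNat 0, .ofNat 0, .ofNat 0, .ofNat 0, .negSucc 0, .ofNat 0,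
  .ofNat 0, .ofNat 0, .ofNat 1, .ofNat 0, .ofNat 0, .ofNat 0, .negSucc 1, .ofNat 0, .ofNat 0, .ofNat 0,
  .ofNat 0, .ofNat 0, .ofNat 0, .ofNat 0, .ofNat 0, .negSucc 0, .ofNat 0, .ofNat 0, .ofNat 0, .ofNat 0,
  .ofNat 0, .ofNat 0, .ofNat 0, .ofNat 0, .ofNat 1, .ofNat 0, .ofNat 0, .ofNat 2, .ofNat 0, .ofNat 0,
  .ofNat 0, .ofNat 1, .negSucc 0, .ofNat 0, .ofNat 0, .negSucc 1, .ofNat 1, .ofNat 0, .negSucc 0, .ofNat 0,
  .ofNat 0, .ofNat 1, .ofNat 0, .ofNat 0, .ofNat 1, .ofNat 0, .ofNat 1, .negSucc 0, .negSucc 0, .ofNat 1,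
  .negSucc 0, .ofNat 0, .negSucc 0, .ofNat 0, .ofNat 2, .ofNat 1, .negSucc 0, .negSucc 1, .negSucc 0,
  .ofNat 0, .ofNat 0, .ofNat 0, .ofNat 1, .ofNat 1, .negSucc 0, .negSucc 0, .negSucc 1, .negSucc 2,
  .negSucc 0, .negSucc 0, .negSucc 0]

/-- the values at 32B -/
def col104 : List ℤ :=
  [.ofNat 1, .ofNat 1, .negSucc 1, .ofNat 0, .ofNat 2, .negSucc 0, .ofNat 0, .ofNat 0, .ofNat 1, .negSucc 0,
  .ofNat 1, .ofNat 1, .negSucc 0, .ofNat 0, .ofNat 0, .negSucc 1, .ofNat 0, .negSucc 0, .ofNat 0, .negSucc 1,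
  .ofNat 1, .ofNat 0, .ofNat 0, .negSucc 0, .negSucc 1, .ofNat 1, .ofNat 0, .ofNat 1, .negSucc 0, .negSucc 0,
  .negSucc 0, .ofNat 0, .ofNat 0, .ofNat 0, .ofNat 0, .ofNat 0, .ofNat 0, .ofNat 0, .ofNat 0, .ofNat 0,
  .ofNat 0, .ofNat 0, .ofNat 0, .ofNat 2, .ofNat 2, .negSucc 1, .ofNat 0, .ofNat 1, .ofNat 0, .ofNat 0,
  .negSucc 0, .ofNat 0, .ofNat 0, .ofNat 0, .ofNat 0, .negSucc 1, .ofNat 0, .ofNat 0, .negSucc 1, .negSucc 1,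
  .ofNat 1, .negSucc 1, .ofNat 0, .ofNat 1, .ofNat 0, .ofNat 0, .ofNat 0, .ofNat 0, .ofNat 0, .ofNat 4,
  .ofNat 1, .ofNat 0, .ofNat 0, .ofNat 0, .negSucc 0, .ofNat 0, .ofNat 0, .ofNat 0, .ofNat 0, .ofNat 0,
  .negSucc 1, .ofNat 1, .ofNat 0, .ofNat 1, .ofNat 0, .negSucc 1, .ofNat 0, .negSucc 0, .ofNat 0, .ofNat 0,
  .ofNat 0, .negSucc 0, .ofNat 0, .ofNat 2, .ofNat 0, .ofNat 0, .ofNat 0, .ofNat 0, .negSucc 0, .ofNat 0,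
  .ofNat 0, .ofNat 0, .ofNat 1, .ofNat 0, .ofNat 0, .ofNat 0, .ofNat 2, .ofNat 0, .ofNat 0, .ofNat 0,
  .ofNat 0, .ofNat 0, .ofNat 0, .ofNat 0, .ofNat 0, .negSucc 0, .ofNat 0, .ofNat 0, .ofNat 0, .ofNat 0,
  .ofNat 0, .ofNat 0, .ofNat 0, .ofNat 0, .ofNat 1, .ofNat 0, .ofNat 0, .negSucc 1, .ofNat 0, .ofNat 0,
  .ofNat 0, .ofNat 1, .negSucc 0, .ofNat 0, .ofNat 0, .ofNat 2, .ofNat 1, .ofNat 0, .negSucc 0, .ofNat 0,
  .ofNat 0, .ofNat 1, .ofNat 0, .ofNat 0, .ofNat 1, .ofNat 0, .ofNat 1, .negSucc 0, .negSucc 0, .ofNat 1,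
  .negSucc 0, .ofNat 0, .negSucc 0, .ofNat 0, .negSucc 1, .ofNat 1, .negSucc 0, .ofNat 2, .negSucc 0,
  .ofNat 0, .ofNat 0, .ofNat 0, .ofNat 1, .negSucc 2, .negSucc 0, .negSucc 0, .negSucc 1, .ofNat 1,
  .negSucc 0, .negSucc 0, .negSucc 0]

/-- the values at 33A -/
def col105 : List ℤ :=
  [.ofNat 1, .negSucc 1, .ofNat 2, .negSucc 0, .ofNat 3, .ofNat 1, .ofNat 0, .negSucc 3, .ofNat 1, .ofNat 2,
  .ofNat 1, .ofNat 2, .ofNat 1, .negSucc 1, .negSucc 3, .ofNat 0, .ofNat 1, .ofNat 0, .ofNat 4, .negSucc 1,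
  .ofNat 1, .ofNat 3, .negSucc 3, .ofNat 0, .ofNat 0, .negSucc 0, .ofNat 1, .negSucc 2, .negSucc 1,
  .negSucc 1, .ofNat 0, .ofNat 2, .ofNat 3, .ofNat 4, .ofNat 4, .ofNat 0, .negSucc 3, .negSucc 1, .ofNat 6,
  .negSucc 3, .ofNat 0, .ofNat 4, .ofNat 0, .ofNat 0, .ofNat 0, .ofNat 0, .ofNat 2, .negSucc 0, .ofNat 0,
  .ofNat 0, .negSucc 2, .negSucc 0, .ofNat 4, .negSucc 3, .ofNat 0, .ofNat 1, .ofNat 3, .ofNat 0, .negSucc 0,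
  .ofNat 0, .negSucc 4, .ofNat 0, .ofNat 3, .ofNat 0, .ofNat 0, .ofNat 0, .ofNat 0, .ofNat 0, .ofNat 0,
  .ofNat 0, .ofNat 1, .ofNat 0, .negSucc 3, .ofNat 2, .ofNat 3, .ofNat 0, .ofNat 0, .ofNat 0, .ofNat 2,
  .negSucc 3, .negSucc 5, .ofNat 0, .ofNat 0, .ofNat 0, .ofNat 0, .ofNat 0, .ofNat 0, .ofNat 0, .negSucc 0,
  .negSucc 1, .ofNat 0, .negSucc 0, .negSucc 2, .negSucc 2, .ofNat 1, .ofNat 2, .ofNat 0, .ofNat 0, .ofNat 0,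
  .ofNat 0, .ofNat 0, .ofNat 0, .ofNat 0, .ofNat 0, .ofNat 3, .ofNat 0, .ofNat 0, .ofNat 4, .ofNat 3,
  .negSucc 1, .negSucc 2, .ofNat 0, .ofNat 4, .ofNat 0, .ofNat 0, .ofNat 0, .ofNat 0, .negSucc 3, .ofNat 0,
  .ofNat 0, .ofNat 3, .ofNat 0, .ofNat 0, .ofNat 0, .ofNat 0, .ofNat 0, .negSucc 3, .ofNat 0, .ofNat 4,
  .negSucc 0, .ofNat 1, .ofNat 0, .ofNat 0, .ofNat 2, .ofNat 0, .ofNat 0, .ofNat 0, .ofNat 0, .ofNat 0,
  .ofNat 0, .ofNat 0, .ofNat 0, .negSucc 1, .negSucc 2, .negSucc 2, .negSucc 1, .ofNat 0, .ofNat 0, .ofNat 0,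
  .ofNat 0, .ofNat 0, .ofNat 2, .ofNat 0, .ofNat 1, .ofNat 0, .ofNat 0, .ofNat 0, .ofNat 0, .ofNat 0,
  .ofNat 0, .ofNat 0, .negSucc 0, .ofNat 3, .ofNat 0, .negSucc 1, .ofNat 0, .ofNat 2, .ofNat 0, .ofNat 0,
  .ofNat 0, .ofNat 0]

/-- the values at 33B -/
def col106 : List ℤ :=
  [.ofNat 1, .ofNat 1, .ofNat 2, .negSucc 0, .ofNat 0, .negSucc 1, .ofNat 3, .negSucc 0, .negSucc 1,
  .negSucc 0, .ofNat 1, .ofNat 2, .ofNat 1, .ofNat 4, .negSucc 0, .ofNat 0, .ofNat 1, .ofNat 3, .negSucc 1,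
  .negSucc 1, .negSucc 1, .ofNat 0, .ofNat 2, .ofNat 0, .ofNat 0, .negSucc 0, .ofNat 1, .ofNat 0, .ofNat 1,
  .ofNat 4, .negSucc 2, .ofNat 2, .ofNat 0, .ofNat 1, .negSucc 1, .ofNat 0, .ofNat 2, .negSucc 1, .ofNat 0,
  .ofNat 2, .ofNat 0, .negSucc 1, .ofNat 0, .ofNat 0, .ofNat 0, .ofNat 0, .ofNat 2, .negSucc 0, .ofNat 0,
  .ofNat 0, .ofNat 3, .negSucc 0, .ofNat 1, .negSucc 0, .ofNat 3, .ofNat 1, .negSucc 2, .ofNat 0, .negSucc 0,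
  .negSucc 5, .ofNat 1, .ofNat 0, .ofNat 0, .negSucc 2, .ofNat 0, .ofNat 0, .ofNat 0, .ofNat 0, .ofNat 0,
  .ofNat 0, .ofNat 1, .ofNat 0, .ofNat 2, .negSucc 0, .ofNat 0, .ofNat 0, .ofNat 0, .negSucc 2, .negSucc 0,
  .negSucc 0, .ofNat 0, .ofNat 0, .ofNat 0, .ofNat 0, .ofNat 0, .ofNat 0, .ofNat 0, .ofNat 0, .negSucc 0,
  .ofNat 4, .ofNat 0, .negSucc 0, .ofNat 0, .ofNat 0, .ofNat 1, .negSucc 3, .ofNat 3, .ofNat 0, .ofNat 0,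
  .ofNat 0, .ofNat 0, .ofNat 0, .ofNat 0, .ofNat 0, .ofNat 0, .negSucc 2, .ofNat 0, .ofNat 1, .ofNat 0,
  .negSucc 1, .ofNat 0, .ofNat 0, .ofNat 1, .negSucc 2, .ofNat 0, .ofNat 0, .ofNat 0, .negSucc 0, .ofNat 0,
  .ofNat 0, .ofNat 0, .ofNat 0, .negSucc 2, .ofNat 0, .ofNat 0, .ofNat 0, .negSucc 0, .ofNat 0, .ofNat 1,
  .negSucc 0, .ofNat 4, .ofNat 0, .ofNat 0, .negSucc 0, .ofNat 0, .ofNat 0, .ofNat 0, .ofNat 0, .ofNat 3,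
  .ofNat 0, .ofNat 0, .ofNat 3, .ofNat 1, .negSucc 2, .ofNat 0, .ofNat 1, .ofNat 0, .ofNat 0, .ofNat 3,
  .ofNat 0, .ofNat 0, .ofNat 2, .ofNat 0, .ofNat 1, .ofNat 0, .ofNat 0, .ofNat 0, .ofNat 0, .negSucc 2,
  .negSucc 2, .ofNat 0, .negSucc 3, .ofNat 3, .ofNat 0, .negSucc 1, .ofNat 0, .ofNat 2, .ofNat 0, .ofNat 0,
  .ofNat 0, .ofNat 0]

/-- the values at 34A -/
def col107 : List ℤ :=
  [.ofNat 1, .ofNat 2, .negSucc 0, .ofNat 0, .ofNat 2, .ofNat 0, .negSucc 0, .negSucc 1, .ofNat 0, .ofNat 0,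
  .ofNat 0, .ofNat 0, .ofNat 0, .ofNat 1, .ofNat 2, .ofNat 0, .ofNat 0, .ofNat 0, .negSucc 1, .negSucc 0,
  .ofNat 1, .ofNat 0, .ofNat 0, .ofNat 2, .ofNat 0, .ofNat 0, .negSucc 1, .ofNat 0, .negSucc 0, .negSucc 1,
  .ofNat 0, .ofNat 0, .ofNat 0, .ofNat 1, .ofNat 0, .ofNat 0, .ofNat 0, .ofNat 0, .ofNat 0, .ofNat 0,
  .negSucc 1, .ofNat 2, .negSucc 1, .negSucc 0, .ofNat 2, .ofNat 0, .ofNat 0, .ofNat 0, .ofNat 0, .ofNat 2,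
  .ofNat 0, .ofNat 1, .ofNat 0, .ofNat 0, .ofNat 0, .ofNat 0, .ofNat 0, .ofNat 0, .ofNat 0, .ofNat 2,
  .ofNat 0, .ofNat 0, .ofNat 0, .ofNat 0, .ofNat 1, .ofNat 1, .negSucc 0, .ofNat 0, .ofNat 0, .ofNat 0,
  .ofNat 0, .ofNat 0, .ofNat 0, .ofNat 2, .ofNat 0, .ofNat 0, .ofNat 0, .ofNat 0, .negSucc 0, .ofNat 0,
  .ofNat 0, .ofNat 0, .ofNat 0, .ofNat 0, .ofNat 0, .ofNat 0, .ofNat 0, .ofNat 0, .negSucc 1, .ofNat 0,
  .ofNat 2, .ofNat 0, .ofNat 0, .ofNat 0, .ofNat 0, .negSucc 1, .ofNat 0, .ofNat 2, .ofNat 2, .negSucc 1,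
  .ofNat 4, .ofNat 0, .ofNat 0, .ofNat 0, .negSucc 1, .ofNat 0, .ofNat 0, .ofNat 1, .ofNat 0, .ofNat 0,
  .ofNat 0, .ofNat 0, .negSucc 0, .negSucc 0, .ofNat 0, .ofNat 0, .ofNat 1, .ofNat 0, .ofNat 0, .ofNat 0,
  .ofNat 0, .ofNat 0, .ofNat 1, .negSucc 0, .negSucc 0, .negSucc 0, .ofNat 1, .ofNat 1, .ofNat 0, .ofNat 0,
  .ofNat 0, .ofNat 0, .ofNat 0, .ofNat 0, .ofNat 2, .ofNat 0, .ofNat 0, .ofNat 0, .ofNat 0, .negSucc 1,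
  .negSucc 0, .ofNat 0, .ofNat 1, .ofNat 0, .ofNat 0, .negSucc 0, .ofNat 0, .ofNat 0, .ofNat 1, .ofNat 0,
  .ofNat 0, .ofNat 0, .ofNat 0, .ofNat 0, .ofNat 0, .ofNat 0, .ofNat 1, .negSucc 1, .ofNat 0, .ofNat 0,
  .ofNat 2, .negSucc 0, .ofNat 0, .ofNat 0, .ofNat 0, .ofNat 0, .ofNat 0, .ofNat 0, .ofNat 0, .ofNat 0,
  .ofNat 0]

/-- the values at 35A -/
def col108 : List ℤ :=
  [.ofNat 1, .ofNat 0, .ofNat 3, .ofNat 1, .negSucc 1, .negSucc 2, .ofNat 0, .negSucc 0, .ofNat 5,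
  .negSucc 2, .ofNat 1, .ofNat 4, .negSucc 2, .ofNat 0, .ofNat 3, .ofNat 0, .ofNat 0, .negSucc 6, .negSucc 4,
  .ofNat 4, .negSucc 0, .ofNat 4, .negSucc 2, .ofNat 3, .ofNat 6, .ofNat 2, .ofNat 2, .ofNat 2, .negSucc 0,
  .ofNat 8, .ofNat 1, .negSucc 1, .ofNat 5, .ofNat 0, .negSucc 2, .ofNat 0, .ofNat 0, .ofNat 8, .ofNat 0,
  .negSucc 4, .negSucc 7, .ofNat 0, .negSucc 5, .negSucc 6, .ofNat 0, .ofNat 0, .ofNat 4, .ofNat 1, .ofNat 0,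
  .negSucc 2, .negSucc 7, .ofNat 8, .negSucc 5, .ofNat 0, .negSucc 0, .ofNat 3, .negSucc 5, .ofNat 0,
  .ofNat 0, .ofNat 0, .ofNat 0, .ofNat 0, .ofNat 7, .negSucc 3, .negSucc 2, .ofNat 6, .ofNat 5, .ofNat 0,
  .ofNat 0, .ofNat 0, .ofNat 0, .ofNat 0, .ofNat 0, .ofNat 0, .negSucc 2, .ofNat 0, .ofNat 0, .ofNat 1,
  .ofNat 5, .ofNat 5, .ofNat 0, .ofNat 1, .ofNat 8, .negSucc 3, .negSucc 5, .ofNat 0, .ofNat 0, .negSucc 1,
  .ofNat 0, .ofNat 0, .ofNat 0, .ofNat 0, .ofNat 2, .ofNat 0, .ofNat 0, .negSucc 4, .negSucc 4, .negSucc 4,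
  .ofNat 0, .negSucc 1, .negSucc 3, .negSucc 7, .ofNat 0, .ofNat 0, .ofNat 5, .ofNat 5, .ofNat 0, .ofNat 3,
  .ofNat 0, .ofNat 0, .ofNat 0, .ofNat 0, .ofNat 1, .negSucc 0, .negSucc 2, .ofNat 4, .ofNat 3, .negSucc 4,
  .ofNat 9, .ofNat 0, .ofNat 0, .ofNat 0, .negSucc 6, .negSucc 1, .negSucc 0, .ofNat 1, .negSucc 3, .ofNat 0,
  .ofNat 0, .ofNat 1, .negSucc 3, .negSucc 2, .ofNat 6, .ofNat 0, .negSucc 2, .ofNat 9, .ofNat 0, .negSucc 0,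
  .ofNat 7, .negSucc 5, .ofNat 0, .ofNat 9, .negSucc 0, .ofNat 7, .ofNat 0, .negSucc 2, .ofNat 0, .ofNat 0,
  .negSucc 1, .ofNat 0, .ofNat 0, .ofNat 0, .ofNat 0, .ofNat 0, .negSucc 6, .ofNat 0, .ofNat 1, .ofNat 3,
  .ofNat 4, .ofNat 0, .ofNat 0, .ofNat 0, .ofNat 3, .ofNat 8, .ofNat 8, .ofNat 8, .ofNat 8, .ofNat 8,
  .ofNat 11, .ofNat 5, .ofNat 16]

/-- the values at 35B -/
def col109 : List ℤ :=
  [.ofNat 1, .ofNat 1, .ofNat 1, .ofNat 0, .negSucc 0, .negSucc 0, .ofNat 0, .ofNat 0, .ofNat 0, .ofNat 0,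
  .ofNat 0, .ofNat 0, .ofNat 0, .ofNat 0, .ofNat 0, .ofNat 0, .ofNat 1, .ofNat 0, .ofNat 0, .ofNat 0,
  .ofNat 0, .ofNat 0, .ofNat 0, .negSucc 0, .ofNat 4, .ofNat 0, .ofNat 0, .ofNat 0, .ofNat 0, .ofNat 0,
  .ofNat 0, .ofNat 0, .ofNat 0, .ofNat 0, .ofNat 0, .ofNat 0, .ofNat 0, .negSucc 0, .ofNat 0, .ofNat 0,
  .ofNat 0, .ofNat 0, .ofNat 0, .ofNat 0, .ofNat 0, .ofNat 0, .ofNat 0, .ofNat 0, .ofNat 2, .ofNat 0,
  .ofNat 0, .ofNat 0, .ofNat 1, .ofNat 0, .ofNat 1, .ofNat 0, .ofNat 0, .ofNat 1, .ofNat 0, .ofNat 0,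
  .ofNat 0, .ofNat 0, .ofNat 0, .ofNat 1, .ofNat 0, .ofNat 0, .ofNat 0, .ofNat 2, .ofNat 0, .ofNat 0,
  .ofNat 0, .ofNat 0, .ofNat 0, .ofNat 0, .ofNat 0, .ofNat 0, .ofNat 0, .ofNat 0, .ofNat 0, .ofNat 0,
  .ofNat 0, .negSucc 0, .ofNat 4, .ofNat 0, .ofNat 0, .ofNat 4, .ofNat 0, .negSucc 0, .ofNat 0, .ofNat 0,
  .ofNat 0, .ofNat 0, .negSucc 0, .ofNat 0, .ofNat 0, .ofNat 0, .ofNat 0, .ofNat 0, .negSucc 0, .ofNat 0,
  .ofNat 0, .ofNat 2, .ofNat 0, .ofNat 0, .ofNat 0, .ofNat 0, .ofNat 0, .ofNat 0, .ofNat 0, .ofNat 0,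
  .ofNat 0, .ofNat 0, .ofNat 0, .ofNat 0, .ofNat 0, .ofNat 0, .ofNat 0, .ofNat 1, .ofNat 1, .ofNat 0,
  .ofNat 0, .ofNat 0, .ofNat 0, .ofNat 0, .negSucc 0, .ofNat 0, .ofNat 0, .ofNat 0, .ofNat 0, .ofNat 0,
  .negSucc 0, .ofNat 1, .ofNat 0, .ofNat 0, .ofNat 0, .ofNat 2, .ofNat 0, .ofNat 0, .ofNat 0, .negSucc 1,
  .ofNat 0, .negSucc 0, .ofNat 0, .ofNat 0, .ofNat 0, .ofNat 0, .ofNat 0, .ofNat 0, .ofNat 0, .ofNat 0,
  .ofNat 0, .ofNat 0, .negSucc 0, .ofNat 0, .ofNat 0, .ofNat 0, .negSucc 0, .ofNat 0, .ofNat 0, .ofNat 0,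
  .ofNat 0, .ofNat 0, .ofNat 0, .negSucc 0, .ofNat 0, .negSucc 0, .negSucc 0, .negSucc 0, .negSucc 0,
  .negSucc 0, .negSucc 2]

/-- the values at 36A -/
def col110 : List ℤ :=
  [.ofNat 1, .ofNat 2, .negSucc 0, .negSucc 1, .ofNat 2, .ofNat 2, .negSucc 0, .negSucc 1, .negSucc 2,
  .negSucc 0, .negSucc 0, .ofNat 4, .negSucc 0, .ofNat 2, .ofNat 5, .negSucc 1, .negSucc 2, .ofNat 1,
  .negSucc 1, .ofNat 5, .ofNat 1, .negSucc 0, .negSucc 3, .ofNat 5, .ofNat 0, .negSucc 2, .ofNat 0,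
  .negSucc 0, .ofNat 5, .negSucc 4, .negSucc 1, .ofNat 3, .ofNat 4, .ofNat 1, .ofNat 1, .negSucc 1,
  .negSucc 3, .ofNat 2, .ofNat 0, .ofNat 0, .negSucc 9, .negSucc 4, .negSucc 1, .negSucc 7, .negSucc 1,
  .negSucc 3, .ofNat 0, .negSucc 0, .negSucc 3, .ofNat 4, .ofNat 3, .ofNat 3, .ofNat 1, .negSucc 0, .ofNat 0,
  .ofNat 2, .ofNat 0, .negSucc 0, .negSucc 6, .ofNat 0, .negSucc 3, .ofNat 2, .negSucc 0, .ofNat 0, .ofNat 0,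
  .ofNat 1, .negSucc 6, .ofNat 0, .ofNat 4, .ofNat 2, .ofNat 2, .ofNat 0, .ofNat 2, .negSucc 3, .ofNat 0,
  .ofNat 6, .negSucc 2, .ofNat 3, .ofNat 0, .negSucc 3, .ofNat 0, .ofNat 0, .ofNat 0, .ofNat 1, .ofNat 0,
  .ofNat 0, .ofNat 6, .negSucc 2, .ofNat 9, .negSucc 1, .ofNat 0, .ofNat 1, .ofNat 0, .ofNat 0, .negSucc 2,
  .ofNat 2, .ofNat 3, .negSucc 6, .ofNat 0, .ofNat 0, .ofNat 0, .ofNat 2, .ofNat 0, .ofNat 4, .ofNat 5,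
  .ofNat 0, .ofNat 1, .ofNat 0, .negSucc 0, .negSucc 7, .ofNat 6, .negSucc 0, .ofNat 0, .ofNat 0, .ofNat 3,
  .ofNat 0, .negSucc 4, .ofNat 0, .ofNat 2, .negSucc 1, .ofNat 0, .ofNat 1, .negSucc 2, .ofNat 0, .ofNat 0,
  .ofNat 3, .ofNat 0, .negSucc 3, .negSucc 3, .ofNat 2, .ofNat 0, .ofNat 0, .ofNat 0, .negSucc 1, .ofNat 0,
  .ofNat 0, .ofNat 0, .ofNat 2, .ofNat 0, .ofNat 0, .ofNat 2, .ofNat 0, .ofNat 0, .negSucc 2, .ofNat 0,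
  .ofNat 0, .ofNat 0, .ofNat 0, .ofNat 0, .ofNat 1, .ofNat 1, .ofNat 0, .ofNat 0, .negSucc 2, .ofNat 6,
  .negSucc 1, .ofNat 0, .ofNat 0, .ofNat 0, .ofNat 5, .negSucc 1, .negSucc 2, .ofNat 0, .negSucc 8,
  .negSucc 0, .ofNat 0, .negSucc 6, .negSucc 4, .negSucc 6, .negSucc 2, .negSucc 3]

/-- the values at 36B -/
def col111 : List ℤ :=
  [.ofNat 1, .negSucc 0, .negSucc 0, .ofNat 1, .negSucc 0, .ofNat 2, .ofNat 2, .negSucc 1, .ofNat 0,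
  .negSucc 0, .negSucc 0, .ofNat 1, .negSucc 0, .ofNat 2, .negSucc 0, .ofNat 4, .ofNat 0, .ofNat 1,
  .negSucc 1, .ofNat 2, .ofNat 4, .ofNat 2, .negSucc 3, .negSucc 0, .ofNat 0, .ofNat 0, .ofNat 0, .negSucc 0,
  .negSucc 0, .ofNat 1, .ofNat 4, .ofNat 0, .negSucc 1, .ofNat 1, .negSucc 1, .negSucc 1, .negSucc 3,
  .negSucc 3, .ofNat 0, .ofNat 0, .ofNat 2, .negSucc 1, .ofNat 4, .ofNat 1, .negSucc 7, .negSucc 3, .ofNat 0,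
  .ofNat 2, .ofNat 2, .ofNat 1, .ofNat 0, .ofNat 0, .ofNat 1, .ofNat 5, .ofNat 0, .negSucc 0, .ofNat 0,
  .negSucc 0, .negSucc 0, .ofNat 0, .negSucc 3, .ofNat 2, .ofNat 2, .ofNat 0, .ofNat 0, .ofNat 1, .negSucc 3,
  .ofNat 0, .negSucc 1, .negSucc 3, .ofNat 2, .ofNat 0, .ofNat 2, .negSucc 0, .ofNat 0, .negSucc 2, .ofNat 0,
  .ofNat 3, .negSucc 2, .ofNat 2, .ofNat 0, .ofNat 0, .ofNat 0, .ofNat 1, .ofNat 0, .ofNat 0, .ofNat 0,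
  .ofNat 0, .ofNat 0, .negSucc 1, .ofNat 0, .negSucc 1, .ofNat 0, .ofNat 0, .ofNat 0, .negSucc 3, .ofNat 0,
  .negSucc 0, .ofNat 0, .ofNat 0, .ofNat 0, .negSucc 0, .ofNat 6, .ofNat 4, .negSucc 3, .ofNat 0, .ofNat 4,
  .ofNat 0, .ofNat 2, .ofNat 4, .ofNat 0, .negSucc 0, .ofNat 0, .ofNat 0, .ofNat 0, .ofNat 0, .negSucc 1,
  .ofNat 0, .ofNat 2, .ofNat 1, .ofNat 0, .negSucc 1, .ofNat 0, .ofNat 0, .ofNat 0, .ofNat 3, .ofNat 0,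
  .negSucc 0, .ofNat 2, .negSucc 0, .ofNat 0, .ofNat 0, .ofNat 0, .ofNat 1, .ofNat 0, .ofNat 0, .ofNat 3,
  .ofNat 2, .ofNat 0, .ofNat 0, .negSucc 0, .ofNat 0, .ofNat 0, .ofNat 0, .ofNat 0, .ofNat 0, .ofNat 0,
  .ofNat 3, .ofNat 0, .negSucc 4, .negSucc 4, .ofNat 0, .ofNat 0, .negSucc 2, .ofNat 0, .ofNat 4, .ofNat 0,
  .ofNat 0, .ofNat 0, .negSucc 3, .ofNat 1, .ofNat 0, .ofNat 0, .ofNat 6, .ofNat 5, .ofNat 9, .ofNat 2,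
  .ofNat 4, .ofNat 5, .ofNat 9, .ofNat 5]

/-- the values at 36C -/
def col112 : List ℤ :=
  [.ofNat 1, .ofNat 0, .negSucc 0, .ofNat 2, .ofNat 0, .negSucc 1, .negSucc 0, .ofNat 2, .ofNat 1,
  .negSucc 0, .negSucc 0, .ofNat 0, .ofNat 1, .ofNat 0, .negSucc 0, .ofNat 2, .negSucc 0, .ofNat 1, .ofNat 2,
  .negSucc 0, .negSucc 0, .ofNat 1, .negSucc 1, .ofNat 3, .ofNat 0, .ofNat 1, .ofNat 0, .negSucc 0, .ofNat 1,
  .negSucc 0, .negSucc 1, .ofNat 3, .ofNat 2, .ofNat 1, .negSucc 0, .negSucc 1, .ofNat 0, .ofNat 0, .ofNat 0,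
  .ofNat 0, .ofNat 2, .negSucc 2, .ofNat 0, .ofNat 0, .ofNat 2, .ofNat 0, .ofNat 0, .ofNat 1, .ofNat 0,
  .ofNat 0, .negSucc 0, .ofNat 1, .negSucc 0, .negSucc 0, .ofNat 0, .ofNat 0, .ofNat 0, .ofNat 1, .ofNat 1,
  .ofNat 0, .ofNat 0, .ofNat 2, .ofNat 1, .ofNat 0, .ofNat 0, .negSucc 0, .ofNat 1, .ofNat 0, .ofNat 0,
  .negSucc 1, .ofNat 0, .ofNat 2, .ofNat 2, .negSucc 1, .ofNat 0, .ofNat 0, .negSucc 0, .negSucc 0, .ofNat 0,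
  .ofNat 0, .ofNat 0, .ofNat 0, .ofNat 0, .ofNat 1, .ofNat 0, .ofNat 0, .ofNat 0, .ofNat 1, .negSucc 0,
  .ofNat 0, .ofNat 0, .negSucc 0, .ofNat 0, .ofNat 0, .ofNat 1, .ofNat 0, .negSucc 0, .negSucc 0, .ofNat 0,
  .negSucc 3, .ofNat 0, .ofNat 0, .ofNat 2, .ofNat 4, .negSucc 2, .ofNat 0, .ofNat 1, .negSucc 1, .ofNat 1,
  .ofNat 0, .ofNat 0, .ofNat 1, .ofNat 2, .ofNat 0, .ofNat 1, .ofNat 0, .ofNat 3, .ofNat 0, .ofNat 0,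
  .negSucc 1, .ofNat 0, .negSucc 0, .ofNat 1, .ofNat 0, .ofNat 0, .negSucc 0, .ofNat 0, .ofNat 0, .ofNat 0,
  .ofNat 0, .ofNat 0, .ofNat 0, .ofNat 0, .ofNat 0, .ofNat 0, .ofNat 0, .ofNat 0, .negSucc 1, .ofNat 0,
  .ofNat 0, .ofNat 0, .ofNat 0, .negSucc 1, .ofNat 1, .ofNat 0, .ofNat 2, .ofNat 0, .ofNat 2, .ofNat 0,
  .negSucc 0, .negSucc 0, .ofNat 0, .ofNat 0, .ofNat 1, .ofNat 0, .negSucc 1, .ofNat 0, .ofNat 0, .ofNat 0,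
  .ofNat 1, .ofNat 0, .ofNat 1, .ofNat 0, .negSucc 2, .negSucc 0, .negSucc 1, .negSucc 0, .negSucc 2,
  .negSucc 2, .negSucc 2, .negSucc 1]

/-- the values at 36D -/
def col113 : List ℤ :=
  [.ofNat 1, .ofNat 1, .ofNat 1, .negSucc 0, .negSucc 0, .ofNat 0, .ofNat 0, .ofNat 0, .ofNat 0, .negSucc 0,
  .ofNat 1, .negSucc 0, .ofNat 1, .ofNat 0, .ofNat 1, .ofNat 0, .ofNat 0, .ofNat 1, .ofNat 0, .ofNat 0,
  .ofNat 0, .ofNat 0, .ofNat 0, .negSucc 0, .ofNat 0, .ofNat 0, .ofNat 0, .negSucc 0, .negSucc 0, .negSucc 0,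
  .ofNat 0, .ofNat 0, .ofNat 0, .ofNat 1, .ofNat 0, .ofNat 2, .ofNat 0, .ofNat 0, .ofNat 0, .ofNat 0,
  .negSucc 1, .ofNat 0, .ofNat 0, .ofNat 1, .ofNat 0, .ofNat 0, .ofNat 0, .ofNat 0, .negSucc 1, .negSucc 0,
  .ofNat 0, .ofNat 0, .ofNat 1, .ofNat 1, .ofNat 0, .negSucc 0, .ofNat 0, .negSucc 0, .ofNat 1, .ofNat 0,
  .ofNat 0, .ofNat 2, .ofNat 0, .ofNat 0, .ofNat 0, .negSucc 0, .ofNat 0, .ofNat 0, .ofNat 2, .ofNat 0,
  .ofNat 0, .ofNat 0, .negSucc 1, .negSucc 0, .ofNat 0, .ofNat 1, .ofNat 0, .negSucc 0, .negSucc 0, .ofNat 0,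
  .ofNat 0, .ofNat 0, .ofNat 0, .ofNat 1, .ofNat 0, .ofNat 0, .ofNat 0, .ofNat 0, .ofNat 0, .ofNat 0,
  .ofNat 0, .ofNat 0, .ofNat 0, .ofNat 0, .ofNat 0, .ofNat 0, .ofNat 0, .negSucc 0, .ofNat 0, .ofNat 0,
  .ofNat 0, .negSucc 0, .ofNat 2, .ofNat 0, .ofNat 0, .ofNat 0, .ofNat 0, .ofNat 0, .ofNat 0, .ofNat 0,
  .ofNat 0, .ofNat 1, .ofNat 0, .ofNat 0, .ofNat 0, .ofNat 0, .ofNat 0, .ofNat 0, .ofNat 0, .ofNat 1,
  .ofNat 0, .ofNat 0, .ofNat 0, .ofNat 0, .ofNat 0, .negSucc 0, .ofNat 0, .negSucc 0, .ofNat 0, .ofNat 1,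
  .ofNat 0, .ofNat 0, .ofNat 0, .negSucc 0, .ofNat 0, .ofNat 0, .negSucc 0, .ofNat 0, .ofNat 0, .ofNat 0,
  .ofNat 1, .ofNat 0, .ofNat 0, .ofNat 0, .ofNat 0, .ofNat 0, .ofNat 0, .negSucc 0, .ofNat 0, .negSucc 0,
  .ofNat 1, .ofNat 0, .ofNat 0, .negSucc 0, .negSucc 1, .ofNat 0, .ofNat 0, .ofNat 0, .ofNat 0, .ofNat 2,
  .ofNat 1, .ofNat 0, .ofNat 0, .ofNat 2, .ofNat 1, .ofNat 1, .ofNat 2, .ofNat 0, .ofNat 1, .ofNat 1,
  .ofNat 1]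

/-- the values at 38A -/
def col114 : List ℤ :=
  [.ofNat 1, .ofNat 1, .ofNat 0, .ofNat 1, .ofNat 0, .negSucc 1, .ofNat 0, .ofNat 0, .ofNat 0, .ofNat 1,
  .negSucc 0, .ofNat 0, .ofNat 0, .ofNat 0, .negSucc 0, .ofNat 0, .ofNat 2, .ofNat 0, .ofNat 0, .ofNat 0,
  .ofNat 0, .ofNat 0, .ofNat 0, .negSucc 0, .negSucc 1, .negSucc 1, .ofNat 0, .ofNat 0, .ofNat 1, .ofNat 1,
  .ofNat 0, .ofNat 0, .ofNat 0, .ofNat 1, .ofNat 0, .ofNat 2, .ofNat 0, .ofNat 0, .ofNat 0, .negSucc 0,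
  .ofNat 0, .negSucc 0, .ofNat 0, .ofNat 0, .ofNat 0, .ofNat 0, .ofNat 0, .ofNat 0, .ofNat 0, .ofNat 0,
  .ofNat 0, .negSucc 0, .ofNat 1, .ofNat 0, .ofNat 1, .ofNat 0, .ofNat 2, .ofNat 0, .negSucc 0, .ofNat 0,
  .ofNat 0, .ofNat 0, .ofNat 0, .ofNat 0, .negSucc 0, .ofNat 1, .ofNat 0, .ofNat 0, .ofNat 0, .ofNat 0,
  .ofNat 0, .ofNat 1, .ofNat 2, .ofNat 0, .ofNat 0, .ofNat 0, .ofNat 0, .ofNat 0, .ofNat 0, .ofNat 0,
  .ofNat 0, .ofNat 0, .ofNat 0, .negSucc 0, .ofNat 0, .negSucc 1, .ofNat 0, .ofNat 0, .ofNat 0, .ofNat 0,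
  .ofNat 0, .ofNat 0, .ofNat 0, .ofNat 0, .negSucc 1, .ofNat 0, .ofNat 0, .ofNat 1, .ofNat 0, .ofNat 0,
  .ofNat 0, .negSucc 1, .ofNat 0, .ofNat 0, .ofNat 0, .ofNat 0, .ofNat 0, .negSucc 0, .ofNat 0, .ofNat 0,
  .ofNat 0, .ofNat 0, .negSucc 0, .ofNat 0, .ofNat 0, .ofNat 0, .ofNat 0, .ofNat 1, .ofNat 0, .ofNat 0,
  .ofNat 0, .ofNat 0, .ofNat 0, .ofNat 0, .ofNat 0, .ofNat 0, .ofNat 0, .ofNat 0, .ofNat 0, .ofNat 1,
  .ofNat 0, .ofNat 0, .ofNat 1, .ofNat 0, .ofNat 0, .ofNat 0, .ofNat 0, .ofNat 0, .ofNat 0, .negSucc 0,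
  .ofNat 0, .ofNat 0, .negSucc 0, .ofNat 0, .ofNat 0, .negSucc 0, .ofNat 2, .ofNat 0, .ofNat 0, .ofNat 0,
  .ofNat 0, .ofNat 2, .ofNat 0, .ofNat 0, .ofNat 0, .ofNat 0, .ofNat 0, .negSucc 0, .ofNat 1, .ofNat 1,
  .ofNat 0, .ofNat 0, .negSucc 1, .ofNat 0, .ofNat 0, .ofNat 0, .ofNat 0, .ofNat 0, .ofNat 0, .ofNat 0,
  .ofNat 0]

/-- the values at 39A -/
def col115 : List ℤ :=
  [.ofNat 1, .ofNat 2, .negSucc 1, .negSucc 0, .ofNat 1, .ofNat 3, .negSucc 3, .negSucc 1, .ofNat 3,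
  .negSucc 1, .negSucc 0, .ofNat 4, .ofNat 4, .ofNat 3, .negSucc 0, .ofNat 2, .ofNat 0, .negSucc 3,
  .negSucc 1, .ofNat 4, .ofNat 1, .ofNat 0, .ofNat 5, .ofNat 2, .ofNat 0, .negSucc 2, .ofNat 0, .negSucc 3,
  .ofNat 4, .ofNat 0, .negSucc 2, .ofNat 0, .ofNat 0, .negSucc 1, .ofNat 0, .ofNat 0, .ofNat 0, .ofNat 0,
  .ofNat 0, .negSucc 4, .ofNat 0, .ofNat 2, .ofNat 4, .ofNat 4, .ofNat 0, .ofNat 4, .ofNat 0, .negSucc 2,
  .ofNat 0, .negSucc 1, .ofNat 3, .ofNat 3, .negSucc 0, .ofNat 0, .ofNat 1, .ofNat 1, .ofNat 0, .ofNat 0,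
  .ofNat 4, .negSucc 5, .ofNat 0, .ofNat 0, .ofNat 0, .negSucc 3, .ofNat 1, .negSucc 0, .ofNat 0, .ofNat 4,
  .negSucc 1, .negSucc 3, .negSucc 2, .ofNat 0, .negSucc 3, .ofNat 0, .negSucc 2, .ofNat 1, .ofNat 2,
  .ofNat 1, .ofNat 0, .ofNat 3, .ofNat 0, .ofNat 0, .ofNat 0, .ofNat 0, .ofNat 0, .ofNat 0, .negSucc 2,
  .ofNat 0, .ofNat 0, .negSucc 4, .ofNat 0, .ofNat 0, .ofNat 0, .ofNat 4, .negSucc 2, .ofNat 3, .ofNat 0,
  .ofNat 0, .ofNat 0, .negSucc 0, .negSucc 1, .ofNat 0, .ofNat 2, .negSucc 1, .ofNat 0, .negSucc 3, .ofNat 0,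
  .ofNat 3, .ofNat 2, .ofNat 0, .ofNat 0, .ofNat 0, .ofNat 2, .negSucc 3, .ofNat 1, .negSucc 1, .ofNat 0,
  .ofNat 2, .ofNat 0, .ofNat 0, .ofNat 2, .ofNat 0, .ofNat 3, .ofNat 0, .ofNat 0, .ofNat 0, .ofNat 0,
  .ofNat 0, .ofNat 0, .ofNat 0, .ofNat 0, .ofNat 0, .ofNat 1, .negSucc 0, .ofNat 0, .ofNat 0, .ofNat 0,
  .ofNat 0, .ofNat 3, .ofNat 0, .ofNat 1, .ofNat 0, .negSucc 2, .ofNat 0, .ofNat 0, .negSucc 3, .ofNat 0,
  .ofNat 0, .ofNat 4, .ofNat 0, .ofNat 0, .negSucc 0, .ofNat 0, .ofNat 0, .ofNat 0, .ofNat 3, .negSucc 2,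
  .ofNat 0, .negSucc 0, .ofNat 0, .ofNat 0, .ofNat 3, .ofNat 0, .negSucc 5, .negSucc 3, .negSucc 3,
  .negSucc 7, .negSucc 3, .negSucc 3, .negSucc 3, .negSucc 1]

/-- the values at 39B -/
def col116 : List ℤ :=
  [.ofNat 1, .negSucc 0, .ofNat 1, .negSucc 0, .ofNat 1, .ofNat 0, .ofNat 2, .negSucc 1, .ofNat 0, .ofNat 1,
  .negSucc 0, .ofNat 1, .ofNat 1, .ofNat 0, .negSucc 0, .ofNat 2, .ofNat 0, .negSucc 0, .ofNat 1, .ofNat 1,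
  .ofNat 1, .ofNat 0, .negSucc 0, .ofNat 2, .ofNat 0, .ofNat 0, .ofNat 0, .negSucc 0, .negSucc 1, .ofNat 0,
  .ofNat 0, .ofNat 0, .ofNat 0, .ofNat 1, .ofNat 0, .ofNat 0, .ofNat 0, .ofNat 0, .ofNat 0, .ofNat 1,
  .ofNat 0, .negSucc 0, .negSucc 1, .ofNat 1, .ofNat 0, .negSucc 1, .ofNat 0, .ofNat 0, .ofNat 0, .negSucc 1,
  .ofNat 0, .ofNat 0, .negSucc 0, .ofNat 0, .ofNat 1, .ofNat 1, .ofNat 0, .ofNat 0, .ofNat 1, .ofNat 0,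
  .ofNat 0, .ofNat 0, .ofNat 0, .negSucc 0, .ofNat 1, .negSucc 0, .ofNat 0, .negSucc 1, .ofNat 4, .ofNat 2,
  .ofNat 0, .ofNat 0, .ofNat 2, .ofNat 0, .ofNat 0, .negSucc 1, .ofNat 2, .ofNat 1, .ofNat 0, .ofNat 0,
  .ofNat 0, .ofNat 0, .ofNat 0, .ofNat 0, .ofNat 0, .ofNat 0, .ofNat 0, .ofNat 0, .ofNat 0, .ofNat 1,
  .ofNat 0, .ofNat 0, .ofNat 0, .ofNat 1, .ofNat 0, .ofNat 0, .ofNat 0, .ofNat 0, .ofNat 0, .negSucc 0,
  .negSucc 1, .ofNat 0, .negSucc 0, .negSucc 1, .ofNat 0, .ofNat 2, .ofNat 0, .ofNat 0, .negSucc 0, .ofNat 0,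
  .ofNat 0, .ofNat 0, .negSucc 0, .ofNat 2, .ofNat 1, .negSucc 1, .ofNat 0, .ofNat 2, .ofNat 0, .ofNat 0,
  .negSucc 0, .ofNat 0, .ofNat 0, .ofNat 0, .ofNat 0, .ofNat 0, .ofNat 0, .ofNat 0, .ofNat 0, .ofNat 0,
  .ofNat 0, .ofNat 0, .ofNat 1, .negSucc 0, .ofNat 0, .ofNat 0, .ofNat 0, .ofNat 0, .ofNat 0, .ofNat 0,
  .ofNat 1, .ofNat 0, .ofNat 0, .ofNat 0, .ofNat 0, .negSucc 0, .ofNat 0, .ofNat 0, .ofNat 1, .ofNat 0,
  .ofNat 0, .negSucc 0, .ofNat 0, .ofNat 0, .ofNat 0, .ofNat 0, .ofNat 0, .ofNat 0, .negSucc 0, .ofNat 0,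
  .ofNat 0, .ofNat 0, .ofNat 0, .ofNat 0, .negSucc 0, .negSucc 0, .negSucc 1, .negSucc 0, .negSucc 0,
  .negSucc 0, .negSucc 1]

/-- the values at 39CD -/
def col117 : List ℤ :=
  [.ofNat 1, .ofNat 1, .ofNat 0, .ofNat 0, .negSucc 0, .ofNat 0, .negSucc 0, .ofNat 0, .ofNat 0, .ofNat 1,
  .ofNat 0, .ofNat 0, .ofNat 0, .negSucc 0, .ofNat 0, .ofNat 0, .ofNat 0, .ofNat 0, .ofNat 1, .ofNat 0,
  .ofNat 0, .ofNat 0, .ofNat 0, .ofNat 0, .ofNat 0, .ofNat 0, .ofNat 0, .ofNat 0, .negSucc 0, .ofNat 0,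
  .ofNat 0, .ofNat 0, .ofNat 0, .negSucc 0, .ofNat 0, .ofNat 0, .ofNat 0, .ofNat 0, .negSucc 0, .ofNat 1,
  .ofNat 0, .ofNat 0, .ofNat 1, .ofNat 0, .ofNat 0, .ofNat 0, .ofNat 0, .ofNat 0, .ofNat 0, .ofNat 0,
  .ofNat 0, .ofNat 0, .ofNat 0, .ofNat 0, .ofNat 0, .ofNat 1, .ofNat 0, .ofNat 0, .ofNat 0, .ofNat 0,
  .ofNat 0, .ofNat 0, .ofNat 0, .ofNat 0, .ofNat 0, .ofNat 0, .ofNat 0, .ofNat 2, .ofNat 2, .ofNat 0,
  .negSucc 0, .ofNat 0, .ofNat 0, .ofNat 0, .ofNat 1, .negSucc 0, .ofNat 0, .ofNat 0, .ofNat 0, .negSucc 0,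
  .negSucc 0, .ofNat 0, .ofNat 0, .ofNat 0, .ofNat 0, .ofNat 0, .ofNat 0, .ofNat 0, .ofNat 0, .ofNat 0,
  .ofNat 0, .ofNat 0, .ofNat 0, .ofNat 0, .ofNat 0, .negSucc 1, .ofNat 1, .ofNat 0, .ofNat 0, .ofNat 0,
  .ofNat 0, .ofNat 0, .ofNat 0, .ofNat 0, .ofNat 0, .ofNat 0, .ofNat 0, .ofNat 0, .negSucc 0, .ofNat 0,
  .ofNat 0, .ofNat 0, .ofNat 0, .ofNat 0, .ofNat 0, .ofNat 0, .ofNat 0, .ofNat 0, .ofNat 0, .ofNat 0,
  .ofNat 1, .ofNat 0, .ofNat 0, .ofNat 0, .ofNat 0, .ofNat 0, .ofNat 0, .ofNat 0, .ofNat 0, .ofNat 0,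
  .ofNat 0, .ofNat 0, .ofNat 0, .ofNat 0, .ofNat 0, .ofNat 0, .ofNat 0, .ofNat 1, .ofNat 0, .ofNat 0,
  .ofNat 0, .ofNat 0, .ofNat 0, .ofNat 0, .ofNat 0, .ofNat 0, .ofNat 0, .ofNat 0, .ofNat 0, .ofNat 0,
  .ofNat 0, .ofNat 0, .ofNat 1, .ofNat 0, .ofNat 0, .ofNat 0, .ofNat 0, .ofNat 0, .ofNat 0, .ofNat 0,
  .ofNat 0, .ofNat 1, .ofNat 0, .negSucc 1, .ofNat 0, .ofNat 0, .ofNat 0, .ofNat 0, .ofNat 0, .ofNat 0,
  .ofNat 2]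

/-- the values at 40A -/
def col118 : List ℤ :=
  [.ofNat 1, .negSucc 0, .ofNat 0, .ofNat 1, .ofNat 0, .ofNat 0, .negSucc 0, .ofNat 1, .ofNat 2, .negSucc 2,
  .negSucc 2, .ofNat 0, .ofNat 0, .ofNat 1, .ofNat 0, .ofNat 0, .ofNat 0, .ofNat 3, .negSucc 0, .ofNat 1,
  .ofNat 1, .negSucc 0, .negSucc 0, .ofNat 2, .negSucc 1, .negSucc 1, .ofNat 0, .ofNat 3, .negSucc 3,
  .ofNat 1, .ofNat 0, .negSucc 0, .ofNat 0, .ofNat 0, .ofNat 0, .ofNat 6, .ofNat 0, .ofNat 0, .ofNat 6,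
  .ofNat 0, .ofNat 0, .ofNat 0, .ofNat 0, .ofNat 1, .ofNat 0, .ofNat 0, .ofNat 0, .negSucc 0, .ofNat 0,
  .ofNat 0, .ofNat 3, .ofNat 2, .ofNat 0, .ofNat 0, .ofNat 0, .negSucc 2, .negSucc 1, .ofNat 1, .ofNat 0,
  .ofNat 0, .ofNat 0, .ofNat 0, .ofNat 3, .ofNat 0, .ofNat 0, .negSucc 0, .ofNat 0, .ofNat 0, .ofNat 0,
  .ofNat 0, .ofNat 0, .ofNat 0, .ofNat 0, .ofNat 0, .negSucc 1, .ofNat 0, .ofNat 0, .ofNat 0, .ofNat 0,
  .ofNat 0, .negSucc 5, .ofNat 1, .ofNat 0, .negSucc 0, .ofNat 4, .ofNat 2, .negSucc 1, .negSucc 2, .ofNat 0,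
  .ofNat 0, .ofNat 1, .ofNat 0, .ofNat 0, .ofNat 0, .ofNat 3, .ofNat 0, .ofNat 0, .ofNat 0, .ofNat 0,
  .ofNat 0, .ofNat 0, .ofNat 0, .ofNat 0, .ofNat 0, .ofNat 0, .negSucc 0, .negSucc 2, .negSucc 3, .ofNat 0,
  .ofNat 0, .ofNat 0, .ofNat 0, .ofNat 4, .ofNat 2, .ofNat 0, .ofNat 1, .ofNat 2, .ofNat 0, .ofNat 0,
  .negSucc 2, .ofNat 0, .negSucc 0, .negSucc 2, .ofNat 2, .ofNat 3, .ofNat 0, .negSucc 0, .ofNat 0, .ofNat 0,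
  .ofNat 0, .ofNat 0, .negSucc 0, .negSucc 0, .ofNat 0, .negSucc 0, .ofNat 0, .ofNat 0, .ofNat 1, .ofNat 0,
  .ofNat 0, .ofNat 0, .negSucc 4, .ofNat 4, .ofNat 0, .ofNat 0, .negSucc 3, .ofNat 0, .ofNat 0, .ofNat 2,
  .ofNat 3, .ofNat 1, .ofNat 0, .ofNat 0, .ofNat 0, .ofNat 2, .ofNat 0, .ofNat 0, .ofNat 0, .ofNat 1,
  .ofNat 0, .ofNat 0, .ofNat 0, .negSucc 2, .ofNat 0, .ofNat 2, .ofNat 4, .ofNat 2, .ofNat 2, .ofNat 4,
  .ofNat 2, .ofNat 2]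

/-- the values at 40B -/
def col119 : List ℤ :=
  [.ofNat 1, .ofNat 1, .negSucc 1, .negSucc 0, .ofNat 2, .ofNat 0, .negSucc 0, .ofNat 1, .ofNat 0,
  .negSucc 0, .ofNat 1, .ofNat 2, .negSucc 1, .ofNat 1, .ofNat 0, .ofNat 0, .ofNat 0, .negSucc 2, .ofNat 3,
  .negSucc 2, .negSucc 0, .ofNat 1, .negSucc 0, .ofNat 0, .ofNat 2, .ofNat 2, .ofNat 2, .ofNat 1, .ofNat 0,
  .ofNat 1, .ofNat 0, .ofNat 1, .ofNat 0, .negSucc 1, .ofNat 0, .negSucc 1, .ofNat 0, .ofNat 0, .ofNat 2,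
  .ofNat 0, .ofNat 0, .negSucc 3, .ofNat 0, .negSucc 0, .ofNat 0, .ofNat 0, .negSucc 1, .ofNat 1, .ofNat 0,
  .ofNat 0, .ofNat 1, .ofNat 0, .ofNat 0, .ofNat 0, .ofNat 2, .ofNat 3, .negSucc 1, .negSucc 0, .ofNat 0,
  .ofNat 0, .ofNat 0, .ofNat 0, .negSucc 0, .ofNat 0, .negSucc 1, .negSucc 0, .ofNat 2, .ofNat 0, .ofNat 0,
  .ofNat 0, .ofNat 0, .negSucc 1, .negSucc 3, .ofNat 4, .negSucc 1, .negSucc 1, .ofNat 2, .negSucc 1,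
  .ofNat 0, .ofNat 0, .ofNat 2, .ofNat 1, .ofNat 0, .ofNat 3, .ofNat 0, .ofNat 2, .ofNat 0, .negSucc 0,
  .ofNat 0, .ofNat 0, .ofNat 3, .ofNat 0, .ofNat 0, .ofNat 0, .negSucc 0, .ofNat 0, .ofNat 0, .ofNat 0,
  .ofNat 0, .ofNat 0, .ofNat 0, .ofNat 0, .ofNat 0, .ofNat 0, .ofNat 0, .ofNat 1, .ofNat 1, .ofNat 0,
  .ofNat 2, .ofNat 0, .ofNat 0, .ofNat 0, .ofNat 0, .ofNat 0, .ofNat 0, .ofNat 1, .negSucc 3, .ofNat 0,
  .ofNat 0, .ofNat 1, .ofNat 0, .negSucc 2, .ofNat 1, .ofNat 0, .ofNat 1, .ofNat 0, .negSucc 2, .ofNat 0,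
  .ofNat 0, .ofNat 0, .ofNat 0, .negSucc 0, .negSucc 0, .ofNat 0, .negSucc 0, .negSucc 1, .ofNat 0,
  .negSucc 0, .negSucc 1, .ofNat 0, .ofNat 0, .negSucc 0, .ofNat 0, .ofNat 0, .ofNat 0, .ofNat 0, .ofNat 2,
  .ofNat 0, .ofNat 4, .negSucc 0, .ofNat 3, .ofNat 0, .ofNat 0, .ofNat 0, .ofNat 0, .ofNat 0, .ofNat 0,
  .negSucc 1, .ofNat 3, .ofNat 2, .ofNat 0, .negSucc 1, .negSucc 2, .ofNat 2, .ofNat 2, .ofNat 2, .ofNat 2,
  .ofNat 2, .ofNat 2, .ofNat 4, .ofNat 2]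

/-- the values at 40CD -/
def col120 : List ℤ :=
  [.ofNat 1, .ofNat 0, .negSucc 0, .ofNat 1, .ofNat 0, .negSucc 0, .ofNat 1, .ofNat 0, .ofNat 0, .ofNat 0,
  .ofNat 0, .ofNat 0, .ofNat 1, .negSucc 0, .ofNat 0, .ofNat 0, .ofNat 0, .ofNat 0, .negSucc 0, .ofNat 0,
  .ofNat 0, .ofNat 0, .ofNat 0, .ofNat 0, .ofNat 0, .ofNat 0, .ofNat 0, .ofNat 0, .ofNat 0, .ofNat 0,
  .ofNat 0, .ofNat 0, .ofNat 0, .ofNat 0, .ofNat 1, .negSucc 1, .ofNat 0, .ofNat 0, .ofNat 2, .ofNat 0,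
  .negSucc 1, .ofNat 0, .ofNat 0, .negSucc 0, .ofNat 0, .ofNat 0, .ofNat 0, .ofNat 0, .ofNat 0, .ofNat 0,
  .ofNat 1, .ofNat 0, .ofNat 0, .ofNat 0, .ofNat 0, .ofNat 0, .ofNat 0, .ofNat 1, .ofNat 0, .ofNat 0,
  .ofNat 0, .ofNat 0, .ofNat 0, .negSucc 0, .negSucc 0, .ofNat 0, .ofNat 0, .ofNat 0, .ofNat 0, .ofNat 0,
  .negSucc 0, .negSucc 0, .ofNat 0, .ofNat 0, .ofNat 0, .ofNat 0, .ofNat 0, .ofNat 1, .negSucc 0, .ofNat 0,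
  .ofNat 0, .ofNat 0, .ofNat 0, .ofNat 0, .ofNat 0, .ofNat 0, .negSucc 0, .ofNat 1, .ofNat 0, .ofNat 0,
  .negSucc 0, .ofNat 0, .ofNat 1, .negSucc 0, .ofNat 0, .ofNat 0, .ofNat 0, .ofNat 0, .negSucc 0, .ofNat 0,
  .ofNat 0, .ofNat 0, .ofNat 0, .ofNat 0, .ofNat 0, .ofNat 0, .ofNat 1, .ofNat 0, .ofNat 0, .ofNat 0,
  .ofNat 0, .ofNat 0, .ofNat 0, .ofNat 0, .ofNat 0, .ofNat 0, .ofNat 0, .ofNat 0, .ofNat 0, .ofNat 1,
  .ofNat 0, .ofNat 0, .ofNat 0, .ofNat 1, .ofNat 1, .negSucc 0, .ofNat 0, .ofNat 0, .ofNat 0, .ofNat 0,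
  .ofNat 0, .ofNat 1, .ofNat 0, .ofNat 0, .ofNat 0, .ofNat 0, .ofNat 0, .ofNat 0, .negSucc 0, .ofNat 0,
  .ofNat 0, .ofNat 0, .ofNat 0, .ofNat 0, .ofNat 0, .ofNat 0, .negSucc 0, .ofNat 0, .ofNat 0, .ofNat 0,
  .ofNat 0, .ofNat 0, .ofNat 0, .ofNat 0, .ofNat 0, .ofNat 0, .ofNat 0, .ofNat 0, .ofNat 0, .ofNat 0,
  .ofNat 0, .ofNat 0, .ofNat 0, .ofNat 0, .ofNat 0, .negSucc 0, .ofNat 0, .ofNat 0, .ofNat 1, .ofNat 0,
  .ofNat 0]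

/-- the values at 41A -/
def col121 : List ℤ :=
  [.ofNat 1, .ofNat 1, .ofNat 0, .negSucc 0, .ofNat 0, .ofNat 0, .ofNat 0, .ofNat 0, .negSucc 0, .ofNat 0,
  .ofNat 0, .ofNat 0, .ofNat 0, .ofNat 0, .ofNat 1, .ofNat 2, .ofNat 0, .ofNat 1, .ofNat 0, .ofNat 0,
  .ofNat 0, .ofNat 0, .negSucc 0, .ofNat 0, .negSucc 1, .ofNat 0, .ofNat 0, .negSucc 0, .ofNat 0, .ofNat 0,
  .ofNat 0, .ofNat 0, .ofNat 0, .ofNat 0, .ofNat 0, .ofNat 0, .ofNat 0, .ofNat 0, .ofNat 2, .ofNat 1,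
  .ofNat 2, .ofNat 0, .ofNat 0, .ofNat 0, .ofNat 0, .ofNat 2, .ofNat 0, .ofNat 0, .ofNat 2, .ofNat 0,
  .ofNat 0, .ofNat 1, .ofNat 0, .ofNat 0, .negSucc 0, .ofNat 0, .ofNat 0, .ofNat 0, .ofNat 0, .negSucc 1,
  .ofNat 0, .ofNat 0, .ofNat 0, .ofNat 0, .ofNat 0, .ofNat 0, .ofNat 0, .ofNat 0, .negSucc 1, .ofNat 0,
  .ofNat 0, .ofNat 0, .ofNat 0, .ofNat 0, .ofNat 0, .ofNat 0, .ofNat 0, .ofNat 0, .ofNat 0, .negSucc 0,
  .ofNat 2, .ofNat 0, .ofNat 2, .ofNat 0, .ofNat 0, .negSucc 1, .ofNat 0, .ofNat 0, .ofNat 0, .ofNat 0,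
  .ofNat 0, .ofNat 0, .ofNat 0, .ofNat 0, .ofNat 0, .ofNat 0, .ofNat 0, .ofNat 0, .ofNat 0, .ofNat 0,
  .ofNat 0, .ofNat 0, .ofNat 0, .negSucc 1, .ofNat 1, .ofNat 1, .ofNat 0, .ofNat 0, .ofNat 0, .ofNat 0,
  .ofNat 0, .ofNat 0, .ofNat 0, .ofNat 0, .ofNat 0, .ofNat 0, .ofNat 0, .ofNat 0, .ofNat 0, .ofNat 0,
  .ofNat 0, .ofNat 0, .ofNat 0, .ofNat 0, .ofNat 0, .ofNat 0, .ofNat 0, .ofNat 0, .ofNat 0, .ofNat 0,
  .negSucc 0, .ofNat 0, .negSucc 0, .ofNat 0, .ofNat 0, .ofNat 0, .ofNat 0, .ofNat 0, .ofNat 0, .ofNat 0,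
  .ofNat 0, .ofNat 0, .ofNat 0, .ofNat 1, .ofNat 0, .ofNat 0, .ofNat 0, .ofNat 0, .ofNat 0, .ofNat 0,
  .ofNat 0, .ofNat 0, .ofNat 0, .ofNat 0, .ofNat 0, .ofNat 0, .ofNat 0, .ofNat 0, .ofNat 0, .ofNat 0,
  .ofNat 0, .ofNat 0, .ofNat 0, .ofNat 0, .ofNat 0, .ofNat 0, .ofNat 0, .ofNat 0, .ofNat 0, .ofNat 0,
  .ofNat 0]

/-- the values at 42A -/
def col122 : List ℤ :=
  [.ofNat 1, .ofNat 1, .ofNat 0, .negSucc 0, .ofNat 2, .negSucc 1, .ofNat 2, .ofNat 0, .negSucc 2, .ofNat 0,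
  .negSucc 1, .ofNat 2, .negSucc 0, .ofNat 3, .ofNat 0, .ofNat 0, .ofNat 1, .ofNat 3, .negSucc 1, .ofNat 0,
  .ofNat 2, .negSucc 0, .negSucc 0, .negSucc 2, .ofNat 0, .negSucc 2, .negSucc 0, .ofNat 0, .ofNat 2,
  .ofNat 2, .negSucc 0, .ofNat 3, .ofNat 2, .negSucc 0, .ofNat 0, .ofNat 0, .ofNat 0, .ofNat 4, .ofNat 0,
  .negSucc 1, .negSucc 1, .negSucc 0, .ofNat 2, .ofNat 3, .negSucc 1, .ofNat 0, .ofNat 2, .negSucc 1,
  .negSucc 3, .negSucc 2, .negSucc 1, .ofNat 2, .negSucc 0, .ofNat 0, .negSucc 4, .ofNat 0, .negSucc 0,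
  .ofNat 0, .ofNat 5, .ofNat 6, .ofNat 0, .negSucc 1, .negSucc 2, .ofNat 2, .ofNat 1, .negSucc 0, .ofNat 2,
  .ofNat 0, .ofNat 0, .ofNat 0, .ofNat 0, .ofNat 0, .ofNat 0, .negSucc 0, .ofNat 0, .ofNat 1, .ofNat 0,
  .negSucc 1, .ofNat 2, .ofNat 0, .ofNat 0, .ofNat 3, .ofNat 0, .negSucc 0, .ofNat 0, .ofNat 0, .ofNat 0,
  .ofNat 1, .negSucc 0, .ofNat 0, .ofNat 0, .negSucc 2, .ofNat 0, .ofNat 0, .ofNat 0, .negSucc 1, .ofNat 3,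
  .negSucc 1, .ofNat 0, .negSucc 1, .ofNat 4, .ofNat 4, .ofNat 0, .ofNat 0, .negSucc 0, .ofNat 2, .ofNat 0,
  .ofNat 1, .ofNat 0, .ofNat 0, .ofNat 0, .ofNat 0, .negSucc 0, .ofNat 2, .negSucc 0, .negSucc 1, .ofNat 0,
  .ofNat 0, .ofNat 0, .ofNat 0, .ofNat 0, .ofNat 0, .ofNat 3, .ofNat 3, .negSucc 2, .negSucc 1, .negSucc 1,
  .ofNat 0, .ofNat 0, .negSucc 1, .ofNat 0, .ofNat 0, .ofNat 1, .ofNat 0, .ofNat 0, .ofNat 0, .ofNat 2,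
  .ofNat 2, .negSucc 2, .ofNat 0, .ofNat 0, .ofNat 1, .ofNat 1, .negSucc 2, .ofNat 0, .negSucc 0, .ofNat 0,
  .ofNat 0, .negSucc 1, .ofNat 0, .ofNat 0, .ofNat 0, .ofNat 0, .ofNat 0, .ofNat 3, .ofNat 0, .negSucc 2,
  .ofNat 0, .ofNat 5, .ofNat 0, .negSucc 2, .ofNat 0, .ofNat 1, .ofNat 3, .ofNat 3, .ofNat 2, .ofNat 3,
  .ofNat 6, .ofNat 4, .ofNat 3, .ofNat 3]

/-- the values at 42B -/
def col123 : List ℤ :=
  [.ofNat 1, .ofNat 0, .negSucc 0, .negSucc 0, .ofNat 2, .negSucc 0, .ofNat 4, .negSucc 0, .negSucc 1,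
  .ofNat 0, .negSucc 1, .ofNat 2, .ofNat 0, .negSucc 0, .ofNat 0, .ofNat 0, .ofNat 1, .ofNat 0, .ofNat 0,
  .ofNat 3, .ofNat 0, .negSucc 2, .ofNat 0, .negSucc 2, .ofNat 0, .ofNat 1, .negSucc 1, .ofNat 3, .ofNat 0,
  .ofNat 0, .ofNat 1, .ofNat 1, .negSucc 0, .ofNat 0, .ofNat 0, .ofNat 0, .ofNat 0, .ofNat 4, .ofNat 0,
  .ofNat 0, .ofNat 0, .ofNat 0, .ofNat 6, .ofNat 0, .ofNat 4, .ofNat 0, .ofNat 4, .negSucc 3, .ofNat 4,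
  .negSucc 5, .ofNat 0, .ofNat 0, .negSucc 3, .ofNat 0, .ofNat 0, .ofNat 0, .negSucc 1, .negSucc 0,
  .negSucc 4, .ofNat 0, .ofNat 0, .ofNat 2, .ofNat 0, .ofNat 0, .ofNat 0, .ofNat 3, .ofNat 0, .negSucc 3,
  .ofNat 0, .ofNat 0, .ofNat 0, .ofNat 0, .ofNat 0, .ofNat 0, .ofNat 5, .ofNat 0, .ofNat 0, .ofNat 0,
  .ofNat 0, .ofNat 2, .ofNat 0, .ofNat 0, .ofNat 0, .ofNat 5, .ofNat 0, .ofNat 0, .ofNat 0, .negSucc 0,
  .ofNat 0, .ofNat 0, .ofNat 3, .ofNat 4, .negSucc 1, .ofNat 0, .ofNat 0, .ofNat 0, .negSucc 1, .ofNat 0,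
  .ofNat 0, .ofNat 0, .ofNat 0, .ofNat 0, .ofNat 0, .ofNat 0, .negSucc 2, .ofNat 0, .ofNat 0, .ofNat 0,
  .ofNat 0, .ofNat 0, .ofNat 0, .ofNat 0, .ofNat 0, .ofNat 0, .ofNat 0, .ofNat 0, .ofNat 0, .negSucc 3,
  .negSucc 1, .ofNat 0, .ofNat 4, .ofNat 0, .ofNat 0, .ofNat 0, .ofNat 0, .ofNat 0, .negSucc 0, .ofNat 0,
  .ofNat 0, .ofNat 0, .ofNat 0, .ofNat 0, .ofNat 0, .ofNat 2, .ofNat 0, .ofNat 0, .negSucc 3, .ofNat 0,
  .ofNat 0, .ofNat 0, .ofNat 0, .negSucc 0, .ofNat 0, .ofNat 0, .ofNat 0, .ofNat 0, .ofNat 0, .ofNat 1,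
  .ofNat 0, .ofNat 0, .ofNat 0, .ofNat 0, .negSucc 2, .ofNat 0, .ofNat 0, .ofNat 0, .ofNat 0, .ofNat 0,
  .ofNat 0, .ofNat 0, .ofNat 4, .ofNat 0, .negSucc 0, .negSucc 2, .negSucc 0, .negSucc 2, .negSucc 2,
  .negSucc 7, .negSucc 2, .negSucc 2, .negSucc 2]

/-- the values at 42C -/
def col124 : List ℤ :=
  [.ofNat 1, .negSucc 0, .negSucc 0, .ofNat 1, .negSucc 0, .ofNat 2, .ofNat 1, .negSucc 0, .ofNat 0,
  .negSucc 0, .ofNat 1, .negSucc 0, .ofNat 0, .ofNat 2, .negSucc 0, .ofNat 0, .ofNat 1, .ofNat 0, .negSucc 0,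
  .negSucc 0, .ofNat 1, .ofNat 2, .negSucc 1, .negSucc 0, .negSucc 1, .ofNat 0, .ofNat 1, .ofNat 1, .ofNat 1,
  .ofNat 0, .ofNat 2, .ofNat 1, .ofNat 1, .negSucc 0, .negSucc 2, .ofNat 0, .ofNat 0, .negSucc 0, .ofNat 0,
  .negSucc 0, .ofNat 0, .ofNat 1, .ofNat 2, .ofNat 0, .ofNat 2, .ofNat 0, .ofNat 0, .ofNat 0, .negSucc 1,
  .ofNat 3, .ofNat 0, .ofNat 0, .negSucc 0, .ofNat 0, .ofNat 0, .ofNat 1, .ofNat 0, .ofNat 0, .ofNat 0,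
  .ofNat 0, .ofNat 0, .negSucc 1, .ofNat 0, .ofNat 0, .ofNat 0, .negSucc 0, .ofNat 1, .ofNat 0, .ofNat 0,
  .ofNat 0, .ofNat 0, .ofNat 0, .ofNat 0, .ofNat 1, .ofNat 0, .ofNat 1, .ofNat 0, .negSucc 0, .ofNat 1,
  .negSucc 1, .ofNat 0, .ofNat 0, .ofNat 0, .negSucc 0, .negSucc 1, .ofNat 2, .ofNat 0, .ofNat 0, .ofNat 1,
  .ofNat 0, .ofNat 0, .ofNat 2, .ofNat 0, .ofNat 0, .ofNat 0, .negSucc 0, .ofNat 0, .negSucc 0, .negSucc 0,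
  .ofNat 0, .ofNat 0, .negSucc 0, .ofNat 0, .ofNat 0, .ofNat 0, .ofNat 1, .ofNat 0, .ofNat 0, .ofNat 0,
  .ofNat 0, .ofNat 0, .negSucc 1, .ofNat 0, .ofNat 1, .negSucc 1, .negSucc 0, .ofNat 1, .ofNat 2, .negSucc 1,
  .ofNat 0, .negSucc 1, .ofNat 0, .ofNat 0, .ofNat 0, .ofNat 0, .negSucc 0, .ofNat 0, .negSucc 1, .ofNat 0,
  .negSucc 0, .negSucc 1, .negSucc 0, .ofNat 1, .ofNat 1, .ofNat 1, .ofNat 1, .negSucc 1, .ofNat 1, .ofNat 0,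
  .ofNat 1, .ofNat 2, .ofNat 0, .ofNat 0, .ofNat 0, .ofNat 0, .ofNat 0, .ofNat 0, .ofNat 0, .ofNat 1,
  .ofNat 0, .ofNat 0, .ofNat 0, .ofNat 0, .ofNat 0, .ofNat 0, .ofNat 0, .ofNat 0, .negSucc 0, .negSucc 0,
  .ofNat 0, .ofNat 1, .ofNat 0, .ofNat 0, .negSucc 1, .negSucc 1, .negSucc 2, .negSucc 1, .negSucc 3,
  .ofNat 0, .negSucc 2, .negSucc 1]

/-- the values at 42D -/
def col125 : List ℤ :=
  [.ofNat 1, .ofNat 0, .ofNat 2, .negSucc 0, .negSucc 0, .negSucc 0, .ofNat 1, .negSucc 0, .ofNat 1,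
  .ofNat 0, .ofNat 1, .ofNat 2, .ofNat 0, .ofNat 2, .ofNat 0, .ofNat 0, .negSucc 1, .ofNat 0, .ofNat 0,
  .ofNat 0, .ofNat 0, .ofNat 0, .ofNat 0, .ofNat 0, .ofNat 0, .ofNat 1, .ofNat 1, .ofNat 0, .ofNat 0,
  .ofNat 0, .negSucc 1, .negSucc 1, .negSucc 0, .ofNat 0, .ofNat 0, .ofNat 0, .ofNat 0, .ofNat 1, .ofNat 0,
  .ofNat 0, .ofNat 0, .ofNat 0, .ofNat 0, .ofNat 0, .negSucc 1, .ofNat 0, .negSucc 1, .ofNat 2, .negSucc 1,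
  .ofNat 0, .ofNat 0, .ofNat 0, .negSucc 0, .ofNat 0, .ofNat 0, .ofNat 0, .ofNat 1, .ofNat 2, .negSucc 1,
  .ofNat 0, .ofNat 0, .ofNat 2, .ofNat 0, .ofNat 0, .ofNat 0, .ofNat 0, .ofNat 0, .ofNat 2, .ofNat 0,
  .ofNat 0, .ofNat 0, .ofNat 0, .ofNat 0, .ofNat 0, .negSucc 0, .ofNat 0, .ofNat 0, .ofNat 0, .ofNat 0,
  .negSucc 0, .ofNat 0, .ofNat 3, .ofNat 0, .negSucc 0, .ofNat 0, .ofNat 0, .ofNat 0, .ofNat 2, .ofNat 0,
  .ofNat 0, .ofNat 0, .ofNat 1, .negSucc 1, .ofNat 0, .ofNat 0, .ofNat 0, .negSucc 1, .ofNat 0, .ofNat 0,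
  .ofNat 0, .ofNat 0, .ofNat 0, .ofNat 0, .ofNat 0, .ofNat 0, .ofNat 0, .ofNat 0, .ofNat 0, .ofNat 0,
  .ofNat 0, .ofNat 0, .ofNat 0, .ofNat 0, .ofNat 0, .ofNat 0, .ofNat 0, .ofNat 0, .negSucc 0, .negSucc 1,
  .ofNat 0, .ofNat 1, .ofNat 0, .ofNat 0, .ofNat 3, .negSucc 2, .ofNat 0, .ofNat 2, .ofNat 0, .ofNat 0,
  .ofNat 0, .ofNat 0, .ofNat 0, .ofNat 0, .ofNat 2, .ofNat 0, .ofNat 0, .negSucc 0, .ofNat 0, .ofNat 0,
  .ofNat 0, .ofNat 0, .negSucc 0, .ofNat 0, .ofNat 0, .ofNat 0, .ofNat 0, .ofNat 0, .ofNat 1, .ofNat 0,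
  .ofNat 0, .ofNat 0, .ofNat 0, .ofNat 0, .ofNat 0, .ofNat 0, .ofNat 0, .ofNat 0, .ofNat 0, .ofNat 0,
  .ofNat 0, .ofNat 1, .ofNat 0, .negSucc 0, .ofNat 0, .negSucc 0, .ofNat 0, .ofNat 0, .ofNat 1, .ofNat 0,
  .ofNat 0, .ofNat 0]

/-- the values at 44AB -/
def col126 : List ℤ :=
  [.ofNat 1, .ofNat 0, .ofNat 1, .ofNat 1, .negSucc 1, .negSucc 0, .negSucc 0, .ofNat 0, .ofNat 1, .ofNat 1,
  .negSucc 0, .ofNat 2, .negSucc 0, .ofNat 1, .ofNat 0, .ofNat 0, .ofNat 0, .negSucc 0, .ofNat 2, .ofNat 1,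
  .negSucc 0, .negSucc 1, .negSucc 1, .ofNat 0, .ofNat 0, .ofNat 1, .negSucc 0, .ofNat 2, .ofNat 1, .ofNat 0,
  .ofNat 1, .ofNat 1, .negSucc 0, .ofNat 0, .ofNat 2, .ofNat 0, .negSucc 1, .negSucc 1, .ofNat 2, .negSucc 1,
  .ofNat 0, .ofNat 2, .ofNat 0, .ofNat 0, .ofNat 0, .ofNat 0, .ofNat 2, .ofNat 1, .ofNat 0, .ofNat 0,
  .negSucc 0, .negSucc 0, .ofNat 0, .ofNat 0, .negSucc 0, .negSucc 0, .negSucc 0, .ofNat 0, .ofNat 1,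
  .negSucc 1, .ofNat 0, .ofNat 0, .ofNat 0, .ofNat 1, .ofNat 1, .ofNat 0, .ofNat 0, .ofNat 0, .ofNat 0,
  .ofNat 0, .negSucc 0, .ofNat 0, .ofNat 0, .ofNat 2, .negSucc 1, .ofNat 1, .ofNat 0, .ofNat 1, .negSucc 1,
  .ofNat 0, .ofNat 4, .ofNat 0, .ofNat 0, .ofNat 0, .ofNat 0, .ofNat 0, .ofNat 0, .ofNat 0, .ofNat 1,
  .ofNat 0, .ofNat 0, .ofNat 1, .ofNat 2, .ofNat 2, .negSucc 0, .negSucc 1, .negSucc 0, .ofNat 0, .ofNat 0,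
  .ofNat 0, .ofNat 0, .ofNat 0, .ofNat 0, .ofNat 0, .negSucc 1, .ofNat 0, .ofNat 0, .ofNat 0, .negSucc 1,
  .negSucc 1, .ofNat 2, .ofNat 0, .ofNat 0, .ofNat 1, .ofNat 0, .ofNat 0, .ofNat 0, .ofNat 0, .ofNat 0,
  .ofNat 0, .ofNat 0, .ofNat 0, .ofNat 1, .ofNat 0, .ofNat 0, .ofNat 0, .ofNat 0, .ofNat 0, .ofNat 0,
  .ofNat 0, .ofNat 0, .ofNat 0, .ofNat 0, .negSucc 1, .ofNat 0, .ofNat 0, .ofNat 0, .ofNat 0, .ofNat 2,
  .ofNat 2, .ofNat 0, .negSucc 0, .ofNat 0, .negSucc 1, .negSucc 1, .ofNat 0, .ofNat 0, .ofNat 0, .negSucc 0,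
  .ofNat 0, .ofNat 0, .ofNat 0, .ofNat 0, .ofNat 2, .ofNat 0, .ofNat 0, .ofNat 0, .ofNat 2, .ofNat 0,
  .ofNat 1, .ofNat 0, .negSucc 1, .ofNat 0, .ofNat 0, .negSucc 1, .ofNat 0, .ofNat 2, .ofNat 0, .ofNat 0,
  .ofNat 0, .ofNat 0]

/-- the values at 45A -/
def col127 : List ℤ :=
  [.ofNat 1, .ofNat 1, .negSucc 0, .ofNat 0, .negSucc 0, .ofNat 1, .negSucc 0, .negSucc 0, .negSucc 0,
  .ofNat 3, .ofNat 1, .ofNat 2, .negSucc 0, .negSucc 1, .ofNat 0, .ofNat 0, .negSucc 1, .ofNat 0, .ofNat 1,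
  .ofNat 1, .negSucc 0, .ofNat 0, .ofNat 2, .ofNat 1, .ofNat 0, .negSucc 0, .ofNat 1, .ofNat 1, .negSucc 0,
  .ofNat 0, .ofNat 0, .ofNat 0, .negSucc 0, .negSucc 0, .negSucc 1, .negSucc 1, .negSucc 1, .ofNat 1,
  .ofNat 0, .negSucc 1, .ofNat 0, .ofNat 0, .ofNat 0, .ofNat 2, .ofNat 0, .ofNat 0, .ofNat 0, .ofNat 0,
  .ofNat 0, .ofNat 0, .ofNat 1, .ofNat 1, .ofNat 0, .ofNat 1, .ofNat 0, .negSucc 0, .ofNat 0, .negSucc 0,
  .ofNat 0, .ofNat 0, .ofNat 2, .ofNat 0, .ofNat 2, .ofNat 0, .ofNat 0, .ofNat 0, .ofNat 0, .negSucc 1,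
  .ofNat 0, .ofNat 0, .ofNat 0, .ofNat 0, .ofNat 0, .ofNat 0, .ofNat 0, .negSucc 0, .negSucc 2, .ofNat 0,
  .ofNat 0, .negSucc 0, .ofNat 0, .ofNat 0, .ofNat 2, .negSucc 0, .ofNat 0, .ofNat 0, .ofNat 2, .negSucc 0,
  .ofNat 0, .ofNat 1, .ofNat 0, .ofNat 0, .ofNat 0, .negSucc 1, .negSucc 0, .ofNat 1, .ofNat 1, .ofNat 0,
  .ofNat 0, .ofNat 0, .ofNat 0, .ofNat 0, .ofNat 0, .ofNat 0, .negSucc 0, .ofNat 0, .ofNat 2, .ofNat 1,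
  .ofNat 1, .ofNat 2, .ofNat 0, .ofNat 0, .ofNat 1, .ofNat 0, .ofNat 1, .ofNat 0, .ofNat 1, .ofNat 1,
  .negSucc 0, .negSucc 0, .ofNat 0, .ofNat 0, .negSucc 0, .ofNat 0, .ofNat 0, .negSucc 0, .ofNat 0, .ofNat 0,
  .negSucc 0, .negSucc 0, .ofNat 0, .ofNat 0, .ofNat 0, .ofNat 0, .ofNat 0, .ofNat 0, .ofNat 0, .ofNat 0,
  .ofNat 0, .ofNat 0, .ofNat 0, .ofNat 0, .ofNat 0, .negSucc 0, .ofNat 0, .ofNat 0, .ofNat 0, .ofNat 0,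
  .ofNat 0, .ofNat 0, .ofNat 0, .ofNat 1, .ofNat 0, .ofNat 0, .ofNat 0, .ofNat 0, .ofNat 0, .ofNat 0,
  .ofNat 0, .ofNat 1, .ofNat 0, .negSucc 0, .ofNat 0, .ofNat 3, .ofNat 1, .ofNat 1, .ofNat 1, .ofNat 1,
  .ofNat 2, .ofNat 0, .ofNat 0]

/-- the values at 46AB -/
def col128 : List ℤ :=
  [.ofNat 1, .negSucc 0, .negSucc 0, .ofNat 2, .ofNat 0, .ofNat 0, .ofNat 1, .ofNat 0, .negSucc 0,
  .negSucc 1, .ofNat 0, .ofNat 0, .ofNat 1, .ofNat 0, .ofNat 1, .negSucc 0, .negSucc 0, .ofNat 0, .ofNat 0,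
  .ofNat 1, .ofNat 0, .ofNat 2, .ofNat 0, .ofNat 0, .ofNat 0, .ofNat 0, .ofNat 0, .ofNat 0, .negSucc 0,
  .ofNat 0, .ofNat 0, .ofNat 0, .negSucc 0, .negSucc 1, .ofNat 0, .ofNat 0, .negSucc 1, .ofNat 0, .ofNat 0,
  .ofNat 1, .ofNat 0, .ofNat 0, .ofNat 1, .ofNat 0, .ofNat 0, .ofNat 1, .negSucc 0, .ofNat 1, .negSucc 1,
  .ofNat 0, .ofNat 0, .ofNat 0, .ofNat 2, .negSucc 0, .ofNat 0, .ofNat 0, .ofNat 0, .ofNat 0, .ofNat 0,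
  .ofNat 0, .ofNat 0, .ofNat 0, .ofNat 1, .ofNat 0, .ofNat 0, .ofNat 0, .ofNat 0, .negSucc 3, .negSucc 0,
  .ofNat 1, .ofNat 0, .ofNat 0, .ofNat 0, .ofNat 0, .negSucc 0, .ofNat 0, .ofNat 0, .negSucc 0, .ofNat 1,
  .ofNat 1, .ofNat 0, .negSucc 0, .ofNat 0, .ofNat 0, .ofNat 0, .ofNat 0, .ofNat 0, .ofNat 0, .ofNat 0,
  .ofNat 0, .negSucc 0, .ofNat 0, .ofNat 0, .ofNat 0, .ofNat 0, .ofNat 0, .ofNat 0, .ofNat 0, .ofNat 0,
  .ofNat 0, .ofNat 0, .ofNat 0, .ofNat 0, .negSucc 1, .ofNat 0, .ofNat 0, .ofNat 0, .ofNat 0, .negSucc 1,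
  .ofNat 0, .negSucc 0, .ofNat 0, .ofNat 0, .ofNat 0, .ofNat 2, .ofNat 0, .negSucc 0, .ofNat 0, .ofNat 0,
  .ofNat 0, .ofNat 2, .ofNat 0, .ofNat 1, .negSucc 0, .negSucc 1, .ofNat 0, .ofNat 0, .ofNat 0, .ofNat 1,
  .ofNat 0, .ofNat 0, .ofNat 0, .ofNat 1, .negSucc 0, .ofNat 0, .ofNat 0, .ofNat 0, .ofNat 0, .ofNat 1,
  .negSucc 0, .ofNat 0, .ofNat 0, .ofNat 0, .ofNat 0, .ofNat 0, .ofNat 0, .ofNat 1, .ofNat 0, .negSucc 0,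
  .ofNat 0, .ofNat 0, .ofNat 0, .negSucc 0, .ofNat 1, .ofNat 1, .ofNat 0, .ofNat 0, .negSucc 0, .ofNat 0,
  .ofNat 0, .ofNat 0, .ofNat 0, .ofNat 0, .negSucc 0, .ofNat 0, .ofNat 0, .ofNat 1, .ofNat 0, .ofNat 0,
  .ofNat 0, .ofNat 0]

/-- the values at 46CD -/
def col129 : List ℤ :=
  [.ofNat 1, .ofNat 1, .negSucc 0, .ofNat 0, .ofNat 0, .ofNat 0, .negSucc 0, .ofNat 0, .ofNat 1, .ofNat 0,
  .ofNat 0, .ofNat 0, .ofNat 1, .ofNat 0, .negSucc 0, .ofNat 1, .ofNat 1, .ofNat 0, .ofNat 0, .negSucc 0,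
  .ofNat 0, .ofNat 0, .ofNat 0, .ofNat 0, .ofNat 0, .ofNat 0, .ofNat 0, .ofNat 0, .negSucc 0, .ofNat 0,
  .ofNat 0, .ofNat 0, .negSucc 0, .ofNat 0, .ofNat 0, .ofNat 0, .negSucc 1, .ofNat 0, .ofNat 0, .ofNat 1,
  .ofNat 0, .ofNat 0, .negSucc 0, .ofNat 0, .ofNat 0, .ofNat 1, .ofNat 1, .ofNat 1, .negSucc 1, .ofNat 0,
  .ofNat 0, .ofNat 0, .ofNat 0, .negSucc 0, .ofNat 0, .ofNat 0, .ofNat 0, .ofNat 0, .ofNat 0, .ofNat 0,
  .ofNat 0, .ofNat 0, .negSucc 0, .ofNat 0, .ofNat 0, .ofNat 0, .ofNat 0, .ofNat 0, .negSucc 0, .negSucc 0,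
  .ofNat 0, .ofNat 0, .ofNat 0, .ofNat 0, .ofNat 1, .ofNat 0, .ofNat 0, .negSucc 0, .ofNat 1, .ofNat 1,
  .ofNat 0, .negSucc 0, .ofNat 0, .ofNat 0, .ofNat 0, .ofNat 0, .ofNat 0, .ofNat 0, .ofNat 0, .ofNat 0,
  .ofNat 1, .ofNat 0, .ofNat 0, .ofNat 0, .ofNat 0, .ofNat 0, .ofNat 0, .ofNat 0, .ofNat 0, .ofNat 0,
  .ofNat 0, .ofNat 0, .ofNat 0, .ofNat 0, .ofNat 0, .ofNat 0, .ofNat 0, .ofNat 0, .ofNat 0, .ofNat 0,
  .ofNat 1, .ofNat 0, .ofNat 0, .ofNat 0, .ofNat 0, .ofNat 0, .negSucc 0, .ofNat 0, .ofNat 0, .ofNat 0,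
  .ofNat 0, .ofNat 0, .negSucc 0, .ofNat 1, .ofNat 0, .ofNat 0, .ofNat 0, .ofNat 0, .negSucc 0, .ofNat 0,
  .ofNat 0, .ofNat 0, .ofNat 1, .ofNat 1, .ofNat 0, .ofNat 0, .ofNat 0, .ofNat 0, .ofNat 1, .ofNat 1,
  .ofNat 0, .ofNat 0, .ofNat 0, .ofNat 0, .ofNat 0, .ofNat 0, .negSucc 0, .ofNat 0, .negSucc 0, .ofNat 0,
  .ofNat 0, .ofNat 0, .negSucc 0, .negSucc 0, .ofNat 1, .ofNat 0, .ofNat 0, .ofNat 1, .ofNat 0, .ofNat 0,
  .ofNat 0, .ofNat 0, .ofNat 0, .ofNat 1, .ofNat 0, .ofNat 0, .negSucc 0, .ofNat 0, .ofNat 0, .ofNat 0,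
  .ofNat 0]

/-- the values at 47AB -/
def col130 : List ℤ :=
  [.ofNat 1, .ofNat 0, .ofNat 1, .ofNat 0, .negSucc 0, .negSucc 0, .ofNat 0, .ofNat 0, .ofNat 1, .ofNat 0,
  .ofNat 0, .ofNat 0, .ofNat 0, .ofNat 0, .ofNat 1, .ofNat 2, .ofNat 0, .negSucc 0, .negSucc 0, .ofNat 0,
  .ofNat 0, .ofNat 0, .ofNat 0, .ofNat 0, .negSucc 1, .ofNat 0, .ofNat 0, .ofNat 0, .ofNat 0, .ofNat 0,
  .ofNat 0, .ofNat 0, .ofNat 1, .ofNat 0, .ofNat 0, .ofNat 0, .negSucc 1, .ofNat 0, .negSucc 1, .ofNat 0,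
  .ofNat 0, .ofNat 0, .ofNat 0, .ofNat 0, .negSucc 0, .ofNat 0, .ofNat 0, .ofNat 0, .ofNat 2, .ofNat 0,
  .ofNat 0, .ofNat 0, .ofNat 0, .ofNat 0, .ofNat 1, .ofNat 0, .negSucc 0, .ofNat 0, .ofNat 0, .ofNat 2,
  .ofNat 0, .negSucc 0, .ofNat 0, .ofNat 0, .ofNat 0, .ofNat 0, .ofNat 0, .ofNat 0, .ofNat 0, .ofNat 2,
  .ofNat 0, .ofNat 0, .ofNat 0, .ofNat 0, .ofNat 0, .ofNat 0, .ofNat 1, .ofNat 0, .ofNat 0, .ofNat 0,
  .ofNat 0, .ofNat 0, .ofNat 0, .ofNat 0, .ofNat 2, .ofNat 0, .ofNat 0, .negSucc 0, .ofNat 0, .ofNat 0,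
  .ofNat 0, .ofNat 0, .ofNat 0, .ofNat 0, .ofNat 0, .ofNat 1, .ofNat 0, .ofNat 0, .ofNat 0, .ofNat 1,
  .ofNat 2, .ofNat 0, .ofNat 0, .ofNat 0, .ofNat 0, .ofNat 0, .ofNat 0, .ofNat 0, .ofNat 0, .ofNat 0,
  .negSucc 0, .ofNat 0, .ofNat 1, .negSucc 0, .ofNat 0, .ofNat 0, .ofNat 0, .ofNat 0, .ofNat 0, .ofNat 0,
  .ofNat 0, .ofNat 0, .ofNat 1, .ofNat 0, .ofNat 0, .ofNat 0, .ofNat 0, .negSucc 0, .ofNat 0, .negSucc 0,
  .ofNat 0, .ofNat 0, .ofNat 1, .ofNat 0, .ofNat 0, .negSucc 0, .ofNat 0, .ofNat 0, .ofNat 0, .ofNat 1,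
  .ofNat 0, .ofNat 0, .ofNat 0, .ofNat 0, .ofNat 0, .ofNat 1, .negSucc 0, .ofNat 0, .ofNat 0, .ofNat 0,
  .ofNat 0, .ofNat 1, .ofNat 0, .ofNat 0, .ofNat 0, .negSucc 0, .ofNat 0, .ofNat 0, .ofNat 0, .ofNat 0,
  .ofNat 0, .ofNat 0, .ofNat 0, .ofNat 0, .ofNat 0, .ofNat 0, .ofNat 0, .ofNat 0, .ofNat 0, .ofNat 0,
  .ofNat 0]

/-- the values at 48A -/
def col131 : List ℤ :=
  [.ofNat 1, .ofNat 0, .negSucc 0, .ofNat 0, .ofNat 0, .ofNat 0, .ofNat 2, .negSucc 0, .ofNat 0, .ofNat 0,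
  .ofNat 0, .ofNat 0, .ofNat 1, .negSucc 0, .ofNat 0, .negSucc 1, .ofNat 1, .ofNat 0, .negSucc 0, .ofNat 0,
  .negSucc 0, .negSucc 0, .negSucc 0, .ofNat 0, .ofNat 0, .ofNat 2, .ofNat 0, .ofNat 1, .ofNat 1, .ofNat 0,
  .ofNat 1, .ofNat 0, .negSucc 0, .negSucc 0, .ofNat 0, .negSucc 1, .ofNat 0, .ofNat 0, .ofNat 0, .ofNat 0,
  .ofNat 2, .ofNat 0, .ofNat 0, .negSucc 0, .ofNat 2, .ofNat 0, .ofNat 0, .ofNat 0, .ofNat 0, .ofNat 0,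
  .ofNat 0, .ofNat 1, .ofNat 0, .ofNat 0, .ofNat 1, .ofNat 0, .ofNat 1, .negSucc 0, .ofNat 1, .negSucc 1,
  .negSucc 1, .negSucc 1, .negSucc 0, .negSucc 0, .ofNat 0, .ofNat 0, .ofNat 0, .ofNat 0, .ofNat 2, .ofNat 2,
  .ofNat 0, .ofNat 1, .ofNat 0, .ofNat 0, .ofNat 1, .ofNat 1, .negSucc 0, .ofNat 0, .ofNat 0, .ofNat 0,
  .ofNat 0, .ofNat 1, .ofNat 0, .negSucc 0, .ofNat 0, .ofNat 0, .ofNat 1, .negSucc 0, .ofNat 0, .ofNat 0,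
  .ofNat 0, .negSucc 0, .ofNat 0, .ofNat 0, .ofNat 1, .ofNat 0, .negSucc 0, .ofNat 0, .ofNat 0, .ofNat 0,
  .ofNat 0, .ofNat 0, .ofNat 0, .ofNat 0, .ofNat 0, .negSucc 0, .negSucc 0, .ofNat 0, .ofNat 1, .ofNat 0,
  .ofNat 0, .ofNat 1, .ofNat 0, .negSucc 0, .ofNat 0, .ofNat 0, .ofNat 1, .ofNat 0, .ofNat 0, .negSucc 0,
  .ofNat 0, .ofNat 0, .ofNat 1, .ofNat 1, .negSucc 0, .ofNat 0, .ofNat 0, .ofNat 0, .ofNat 0, .ofNat 0,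
  .ofNat 0, .ofNat 0, .ofNat 0, .ofNat 0, .ofNat 0, .ofNat 0, .ofNat 1, .ofNat 1, .ofNat 1, .ofNat 0,
  .ofNat 0, .negSucc 0, .ofNat 0, .ofNat 0, .ofNat 0, .ofNat 0, .ofNat 0, .negSucc 0, .ofNat 1, .negSucc 0,
  .ofNat 1, .ofNat 0, .ofNat 0, .ofNat 0, .ofNat 0, .ofNat 0, .ofNat 0, .ofNat 0, .negSucc 0, .ofNat 1,
  .negSucc 0, .ofNat 2, .negSucc 0, .ofNat 3, .ofNat 2, .ofNat 3, .ofNat 2, .ofNat 3, .ofNat 1, .ofNat 2,
  .ofNat 2]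

/-- the values at 50A -/
def col132 : List ℤ :=
  [.ofNat 1, .ofNat 1, .negSucc 0, .negSucc 0, .ofNat 1, .ofNat 0, .ofNat 0, .ofNat 0, .negSucc 0, .ofNat 0,
  .ofNat 0, .ofNat 1, .negSucc 0, .ofNat 0, .ofNat 1, .ofNat 0, .ofNat 0, .ofNat 0, .ofNat 0, .ofNat 0,
  .ofNat 0, .ofNat 0, .negSucc 0, .ofNat 0, .ofNat 2, .ofNat 0, .ofNat 0, .ofNat 0, .ofNat 0, .ofNat 0,
  .ofNat 0, .ofNat 0, .ofNat 0, .ofNat 0, .ofNat 0, .ofNat 2, .ofNat 2, .ofNat 1, .negSucc 1, .ofNat 0,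
  .ofNat 0, .ofNat 0, .ofNat 0, .ofNat 0, .ofNat 0, .ofNat 0, .ofNat 0, .ofNat 0, .ofNat 0, .ofNat 1,
  .ofNat 0, .ofNat 0, .ofNat 0, .negSucc 0, .ofNat 0, .ofNat 0, .ofNat 0, .ofNat 0, .ofNat 0, .ofNat 0,
  .ofNat 0, .ofNat 0, .ofNat 0, .ofNat 0, .ofNat 0, .ofNat 0, .ofNat 0, .ofNat 0, .ofNat 0, .ofNat 0,
  .ofNat 0, .ofNat 1, .ofNat 0, .ofNat 0, .ofNat 0, .ofNat 0, .ofNat 0, .ofNat 0, .ofNat 0, .ofNat 0,
  .ofNat 0, .ofNat 0, .ofNat 0, .ofNat 0, .ofNat 0, .ofNat 2, .negSucc 0, .ofNat 0, .ofNat 0, .negSucc 0,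
  .negSucc 0, .ofNat 0, .ofNat 1, .ofNat 0, .ofNat 1, .ofNat 0, .ofNat 0, .ofNat 0, .ofNat 0, .ofNat 1,
  .negSucc 1, .negSucc 0, .ofNat 0, .ofNat 0, .ofNat 0, .ofNat 0, .ofNat 0, .negSucc 0, .ofNat 0, .ofNat 2,
  .ofNat 0, .ofNat 0, .ofNat 0, .ofNat 0, .ofNat 1, .ofNat 0, .ofNat 0, .ofNat 0, .ofNat 0, .ofNat 0,
  .ofNat 0, .ofNat 0, .ofNat 0, .ofNat 0, .ofNat 0, .ofNat 0, .ofNat 0, .ofNat 0, .ofNat 1, .ofNat 0,
  .ofNat 0, .ofNat 1, .ofNat 0, .ofNat 0, .ofNat 1, .negSucc 0, .ofNat 0, .ofNat 0, .ofNat 0, .ofNat 1,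
  .ofNat 0, .ofNat 0, .negSucc 0, .ofNat 0, .negSucc 0, .ofNat 0, .negSucc 0, .ofNat 0, .ofNat 0, .ofNat 1,
  .negSucc 0, .ofNat 1, .ofNat 0, .ofNat 0, .ofNat 0, .ofNat 0, .ofNat 0, .ofNat 0, .ofNat 0, .ofNat 0,
  .ofNat 0, .ofNat 0, .ofNat 0, .ofNat 1, .negSucc 0, .ofNat 0, .ofNat 0, .ofNat 0, .ofNat 0, .ofNat 0,
  .ofNat 0]

/-- the values at 51A -/
def col133 : List ℤ :=
  [.ofNat 1, .ofNat 0, .ofNat 1, .negSucc 0, .ofNat 0, .negSucc 0, .ofNat 1, .ofNat 0, .ofNat 0, .ofNat 0,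
  .ofNat 0, .ofNat 0, .ofNat 1, .ofNat 1, .ofNat 0, .ofNat 0, .ofNat 0, .ofNat 0, .ofNat 0, .negSucc 0,
  .negSucc 0, .ofNat 0, .ofNat 0, .ofNat 0, .ofNat 0, .ofNat 1, .ofNat 0, .ofNat 0, .ofNat 1, .ofNat 0,
  .ofNat 0, .ofNat 0, .ofNat 0, .negSucc 0, .negSucc 0, .ofNat 0, .ofNat 0, .ofNat 0, .ofNat 0, .negSucc 0,
  .ofNat 0, .ofNat 0, .ofNat 0, .ofNat 1, .ofNat 2, .ofNat 0, .ofNat 0, .ofNat 0, .ofNat 0, .ofNat 0,
  .ofNat 1, .ofNat 1, .ofNat 0, .ofNat 0, .ofNat 0, .ofNat 0, .ofNat 0, .ofNat 0, .ofNat 0, .ofNat 2,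
  .ofNat 0, .ofNat 0, .ofNat 0, .ofNat 1, .negSucc 0, .negSucc 0, .negSucc 0, .ofNat 0, .ofNat 0, .ofNat 0,
  .ofNat 0, .ofNat 0, .ofNat 0, .ofNat 0, .ofNat 0, .ofNat 0, .ofNat 0, .ofNat 0, .negSucc 0, .ofNat 0,
  .ofNat 0, .negSucc 0, .negSucc 1, .negSucc 0, .ofNat 0, .ofNat 0, .ofNat 0, .ofNat 0, .ofNat 0, .ofNat 0,
  .ofNat 0, .ofNat 0, .ofNat 0, .ofNat 0, .ofNat 0, .ofNat 0, .ofNat 0, .ofNat 0, .ofNat 0, .ofNat 0,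
  .ofNat 0, .ofNat 0, .ofNat 0, .ofNat 0, .ofNat 0, .ofNat 1, .ofNat 0, .ofNat 1, .ofNat 0, .ofNat 0,
  .ofNat 0, .negSucc 0, .ofNat 1, .ofNat 1, .ofNat 0, .ofNat 0, .negSucc 0, .ofNat 0, .ofNat 1, .ofNat 0,
  .ofNat 1, .ofNat 0, .negSucc 0, .negSucc 0, .ofNat 1, .ofNat 1, .ofNat 1, .ofNat 1, .ofNat 0, .ofNat 0,
  .ofNat 0, .ofNat 0, .negSucc 0, .ofNat 0, .ofNat 0, .ofNat 0, .ofNat 0, .ofNat 0, .ofNat 0, .ofNat 0,
  .negSucc 0, .ofNat 0, .negSucc 0, .ofNat 0, .ofNat 0, .negSucc 0, .ofNat 0, .ofNat 0, .negSucc 0, .ofNat 0,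
  .ofNat 0, .ofNat 0, .ofNat 0, .ofNat 0, .ofNat 0, .ofNat 0, .ofNat 1, .ofNat 0, .ofNat 0, .ofNat 0,
  .ofNat 0, .ofNat 1, .ofNat 0, .ofNat 0, .ofNat 0, .ofNat 0, .ofNat 0, .ofNat 0, .ofNat 0, .ofNat 0,
  .ofNat 0]

/-- the values at 52A -/
def col134 : List ℤ :=
  [.ofNat 1, .negSucc 0, .ofNat 0, .ofNat 2, .ofNat 0, .negSucc 0, .ofNat 0, .ofNat 0, .negSucc 0,
  .negSucc 0, .negSucc 0, .ofNat 1, .ofNat 1, .ofNat 0, .ofNat 2, .ofNat 2, .ofNat 0, .negSucc 0, .ofNat 1,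
  .ofNat 1, .negSucc 1, .ofNat 0, .ofNat 1, .ofNat 0, .ofNat 0, .negSucc 0, .ofNat 0, .negSucc 0, .ofNat 0,
  .ofNat 0, .ofNat 1, .ofNat 0, .ofNat 0, .ofNat 0, .ofNat 0, .ofNat 0, .ofNat 0, .ofNat 0, .ofNat 0,
  .ofNat 0, .ofNat 0, .ofNat 0, .ofNat 0, .ofNat 1, .ofNat 0, .negSucc 1, .ofNat 0, .ofNat 1, .ofNat 0,
  .ofNat 0, .negSucc 0, .negSucc 0, .ofNat 2, .ofNat 0, .negSucc 1, .ofNat 0, .ofNat 0, .ofNat 0, .ofNat 1,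
  .negSucc 1, .ofNat 0, .ofNat 0, .ofNat 0, .negSucc 0, .ofNat 0, .ofNat 2, .ofNat 0, .ofNat 0, .ofNat 2,
  .ofNat 0, .ofNat 0, .ofNat 0, .ofNat 0, .ofNat 0, .negSucc 0, .ofNat 0, .ofNat 0, .negSucc 1, .ofNat 0,
  .ofNat 0, .ofNat 0, .ofNat 0, .ofNat 0, .ofNat 0, .ofNat 0, .ofNat 0, .ofNat 1, .ofNat 0, .ofNat 0,
  .ofNat 0, .ofNat 0, .ofNat 0, .ofNat 0, .ofNat 1, .ofNat 1, .ofNat 0, .ofNat 0, .ofNat 0, .ofNat 1,
  .ofNat 2, .ofNat 0, .ofNat 0, .negSucc 0, .ofNat 4, .ofNat 0, .ofNat 1, .ofNat 0, .ofNat 1, .ofNat 1,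
  .ofNat 0, .ofNat 0, .ofNat 0, .negSucc 0, .ofNat 0, .negSucc 1, .ofNat 0, .ofNat 0, .ofNat 0, .ofNat 0,
  .ofNat 0, .ofNat 0, .ofNat 0, .negSucc 0, .ofNat 0, .ofNat 0, .ofNat 0, .ofNat 0, .ofNat 0, .ofNat 0,
  .ofNat 0, .ofNat 0, .ofNat 0, .negSucc 1, .ofNat 2, .ofNat 1, .ofNat 0, .ofNat 0, .ofNat 0, .negSucc 0,
  .ofNat 0, .ofNat 0, .ofNat 0, .ofNat 1, .ofNat 0, .ofNat 0, .negSucc 0, .negSucc 0, .ofNat 0, .ofNat 1,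
  .ofNat 0, .ofNat 0, .ofNat 0, .negSucc 0, .ofNat 0, .ofNat 0, .negSucc 0, .ofNat 1, .ofNat 0, .ofNat 0,
  .ofNat 0, .ofNat 0, .ofNat 1, .ofNat 0, .negSucc 0, .negSucc 0, .negSucc 0, .negSucc 1, .negSucc 0,
  .negSucc 0, .negSucc 0, .negSucc 0]

/-- the values at 52B -/
def col135 : List ℤ :=
  [.ofNat 1, .ofNat 0, .negSucc 0, .ofNat 0, .ofNat 0, .ofNat 0, .ofNat 1, .ofNat 0, .ofNat 0, .ofNat 0,
  .ofNat 0, .ofNat 0, .ofNat 0, .negSucc 0, .ofNat 0, .ofNat 4, .ofNat 0, .ofNat 0, .negSucc 0, .ofNat 0,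
  .ofNat 0, .ofNat 0, .ofNat 0, .ofNat 0, .ofNat 0, .ofNat 1, .ofNat 0, .ofNat 0, .ofNat 0, .ofNat 0,
  .ofNat 0, .ofNat 0, .ofNat 0, .ofNat 0, .ofNat 0, .ofNat 0, .ofNat 0, .ofNat 0, .negSucc 1, .ofNat 0,
  .ofNat 0, .ofNat 1, .ofNat 0, .ofNat 0, .ofNat 0, .ofNat 0, .ofNat 0, .ofNat 0, .ofNat 0, .ofNat 0,
  .ofNat 0, .ofNat 0, .ofNat 0, .ofNat 0, .ofNat 0, .negSucc 0, .ofNat 0, .ofNat 0, .ofNat 0, .ofNat 0,
  .ofNat 0, .ofNat 0, .ofNat 0, .ofNat 0, .ofNat 0, .ofNat 0, .ofNat 0, .ofNat 0, .ofNat 2, .negSucc 3,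
  .ofNat 2, .ofNat 0, .negSucc 1, .ofNat 0, .ofNat 0, .ofNat 1, .ofNat 0, .ofNat 0, .ofNat 0, .ofNat 0,
  .ofNat 0, .ofNat 0, .ofNat 0, .ofNat 0, .ofNat 0, .ofNat 0, .ofNat 0, .ofNat 0, .ofNat 0, .ofNat 0,
  .ofNat 0, .ofNat 0, .ofNat 0, .ofNat 0, .ofNat 0, .ofNat 0, .ofNat 0, .ofNat 0, .negSucc 0, .ofNat 0,
  .ofNat 0, .ofNat 0, .negSucc 1, .ofNat 0, .ofNat 0, .negSucc 0, .ofNat 0, .ofNat 0, .ofNat 0, .ofNat 0,
  .ofNat 0, .ofNat 0, .ofNat 0, .ofNat 1, .ofNat 0, .ofNat 0, .ofNat 0, .ofNat 0, .ofNat 0, .ofNat 0,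
  .ofNat 0, .ofNat 0, .ofNat 0, .ofNat 0, .ofNat 0, .ofNat 0, .ofNat 0, .ofNat 0, .ofNat 0, .ofNat 0,
  .ofNat 0, .ofNat 0, .ofNat 0, .ofNat 0, .negSucc 0, .ofNat 0, .ofNat 0, .negSucc 0, .ofNat 0, .ofNat 0,
  .ofNat 0, .ofNat 0, .ofNat 0, .ofNat 0, .ofNat 0, .ofNat 0, .ofNat 2, .ofNat 0, .ofNat 0, .ofNat 0,
  .ofNat 0, .ofNat 0, .ofNat 1, .ofNat 0, .ofNat 0, .ofNat 0, .ofNat 0, .ofNat 0, .ofNat 0, .ofNat 0,
  .ofNat 0, .negSucc 0, .ofNat 0, .negSucc 0, .ofNat 0, .ofNat 0, .ofNat 0, .ofNat 1, .ofNat 0, .ofNat 0,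
  .ofNat 0]

/-- the values at 54A -/
def col136 : List ℤ :=
  [.ofNat 1, .ofNat 0, .ofNat 0, .ofNat 1, .negSucc 0, .negSucc 0, .ofNat 0, .ofNat 0, .ofNat 0, .ofNat 1,
  .ofNat 0, .ofNat 0, .ofNat 0, .negSucc 0, .ofNat 1, .negSucc 1, .ofNat 0, .negSucc 0, .ofNat 0, .ofNat 0,
  .negSucc 0, .ofNat 0, .ofNat 0, .ofNat 1, .ofNat 0, .ofNat 0, .negSucc 0, .ofNat 0, .ofNat 0, .ofNat 1,
  .ofNat 0, .ofNat 1, .ofNat 1, .ofNat 0, .ofNat 1, .ofNat 2, .ofNat 2, .negSucc 0, .ofNat 0, .ofNat 0,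
  .ofNat 2, .ofNat 0, .ofNat 0, .ofNat 0, .ofNat 0, .ofNat 0, .ofNat 0, .ofNat 0, .negSucc 1, .ofNat 0,
  .ofNat 0, .ofNat 0, .ofNat 0, .ofNat 0, .ofNat 0, .ofNat 0, .ofNat 0, .negSucc 0, .negSucc 0, .ofNat 0,
  .ofNat 0, .ofNat 2, .negSucc 0, .ofNat 0, .ofNat 0, .ofNat 0, .ofNat 0, .ofNat 0, .ofNat 0, .ofNat 0,
  .ofNat 1, .ofNat 0, .ofNat 0, .ofNat 0, .ofNat 0, .ofNat 0, .ofNat 0, .ofNat 0, .ofNat 0, .ofNat 0,
  .ofNat 0, .ofNat 0, .ofNat 0, .ofNat 0, .ofNat 0, .ofNat 0, .negSucc 0, .ofNat 0, .ofNat 1, .ofNat 0,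
  .ofNat 0, .ofNat 0, .ofNat 0, .ofNat 0, .ofNat 0, .ofNat 1, .ofNat 0, .negSucc 0, .ofNat 0, .negSucc 0,
  .ofNat 2, .ofNat 0, .ofNat 0, .negSucc 1, .ofNat 0, .ofNat 0, .ofNat 0, .ofNat 1, .ofNat 1, .ofNat 2,
  .ofNat 0, .negSucc 0, .ofNat 0, .ofNat 0, .ofNat 0, .ofNat 0, .ofNat 0, .ofNat 0, .ofNat 0, .ofNat 0,
  .ofNat 0, .ofNat 0, .ofNat 0, .ofNat 0, .ofNat 0, .ofNat 0, .ofNat 0, .ofNat 0, .ofNat 0, .negSucc 0,
  .ofNat 0, .ofNat 0, .ofNat 0, .ofNat 0, .ofNat 0, .ofNat 0, .ofNat 0, .ofNat 0, .ofNat 0, .ofNat 0,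
  .ofNat 1, .ofNat 0, .ofNat 1, .ofNat 0, .ofNat 0, .ofNat 0, .ofNat 0, .ofNat 1, .ofNat 0, .ofNat 0,
  .ofNat 0, .negSucc 0, .ofNat 0, .negSucc 0, .ofNat 0, .ofNat 1, .ofNat 0, .ofNat 0, .ofNat 0, .negSucc 0,
  .ofNat 0, .ofNat 0, .ofNat 0, .ofNat 0, .ofNat 0, .ofNat 0, .ofNat 0, .ofNat 0, .ofNat 0, .ofNat 0,
  .ofNat 0]

/-- the values at 55A -/
def col137 : List ℤ :=
  [.ofNat 1, .ofNat 1, .negSucc 0, .negSucc 1, .ofNat 1, .ofNat 1, .negSucc 0, .ofNat 1, .ofNat 0,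
  .negSucc 1, .ofNat 0, .ofNat 0, .ofNat 0, .ofNat 1, .ofNat 1, .ofNat 0, .ofNat 1, .negSucc 0, .ofNat 2,
  .ofNat 0, .negSucc 1, .ofNat 1, .negSucc 1, .ofNat 0, .ofNat 0, .ofNat 0, .ofNat 0, .negSucc 0, .ofNat 1,
  .ofNat 2, .ofNat 1, .negSucc 0, .ofNat 1, .negSucc 0, .ofNat 2, .ofNat 0, .negSucc 1, .ofNat 0, .ofNat 0,
  .negSucc 1, .ofNat 0, .ofNat 2, .ofNat 0, .ofNat 0, .ofNat 0, .ofNat 0, .ofNat 0, .ofNat 0, .ofNat 0,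
  .ofNat 0, .ofNat 1, .negSucc 0, .negSucc 0, .ofNat 1, .negSucc 0, .ofNat 0, .ofNat 0, .ofNat 0, .ofNat 0,
  .ofNat 0, .ofNat 1, .ofNat 0, .ofNat 0, .negSucc 0, .ofNat 0, .ofNat 0, .ofNat 0, .ofNat 0, .ofNat 0,
  .ofNat 0, .ofNat 0, .ofNat 0, .ofNat 2, .negSucc 1, .ofNat 1, .negSucc 0, .ofNat 0, .ofNat 1, .ofNat 0,
  .ofNat 1, .negSucc 1, .ofNat 0, .ofNat 0, .ofNat 0, .ofNat 0, .ofNat 0, .ofNat 0, .ofNat 0, .ofNat 0,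
  .ofNat 2, .ofNat 0, .ofNat 0, .negSucc 0, .negSucc 0, .ofNat 0, .negSucc 0, .negSucc 0, .ofNat 0, .ofNat 0,
  .ofNat 0, .ofNat 0, .ofNat 0, .ofNat 0, .ofNat 0, .ofNat 1, .negSucc 0, .ofNat 0, .negSucc 0, .ofNat 1,
  .ofNat 0, .negSucc 0, .ofNat 0, .negSucc 0, .ofNat 1, .ofNat 0, .ofNat 0, .ofNat 0, .ofNat 1, .ofNat 0,
  .ofNat 0, .ofNat 0, .ofNat 0, .ofNat 1, .ofNat 0, .ofNat 0, .ofNat 0, .ofNat 1, .ofNat 0, .negSucc 0,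
  .negSucc 0, .ofNat 2, .ofNat 0, .ofNat 0, .ofNat 0, .ofNat 0, .ofNat 0, .ofNat 0, .ofNat 0, .ofNat 0,
  .negSucc 0, .ofNat 0, .negSucc 0, .ofNat 1, .ofNat 0, .ofNat 1, .ofNat 1, .ofNat 0, .ofNat 0, .negSucc 0,
  .ofNat 0, .ofNat 0, .ofNat 0, .ofNat 0, .ofNat 0, .ofNat 0, .ofNat 0, .ofNat 0, .negSucc 0, .negSucc 0,
  .ofNat 1, .ofNat 0, .negSucc 0, .ofNat 1, .ofNat 0, .ofNat 0, .ofNat 0, .ofNat 0, .ofNat 0, .ofNat 0,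
  .ofNat 0, .ofNat 0]

/-- the values at 56A -/
def col138 : List ℤ :=
  [.ofNat 1, .ofNat 0, .ofNat 1, .negSucc 1, .ofNat 0, .ofNat 0, .ofNat 0, .ofNat 1, .ofNat 1, .negSucc 0,
  .ofNat 1, .negSucc 1, .ofNat 0, .ofNat 0, .ofNat 1, .ofNat 0, .negSucc 1, .ofNat 1, .ofNat 0, .ofNat 1,
  .ofNat 0, .ofNat 2, .ofNat 0, .ofNat 0, .ofNat 2, .negSucc 0, .negSucc 1, .ofNat 0, .ofNat 0, .negSucc 1,
  .negSucc 0, .ofNat 1, .negSucc 0, .ofNat 1, .negSucc 0, .ofNat 0, .ofNat 0, .ofNat 0, .ofNat 0, .ofNat 0,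
  .ofNat 2, .ofNat 1, .ofNat 0, .ofNat 1, .ofNat 0, .ofNat 0, .ofNat 2, .ofNat 1, .ofNat 0, .negSucc 0,
  .ofNat 2, .negSucc 1, .ofNat 0, .ofNat 0, .ofNat 0, .ofNat 1, .ofNat 0, .ofNat 0, .negSucc 0, .ofNat 0,
  .ofNat 0, .negSucc 1, .negSucc 0, .negSucc 1, .negSucc 1, .ofNat 1, .ofNat 0, .ofNat 0, .ofNat 0, .ofNat 0,
  .ofNat 0, .ofNat 0, .ofNat 0, .ofNat 1, .ofNat 0, .negSucc 0, .ofNat 0, .ofNat 0, .ofNat 0, .ofNat 0,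
  .ofNat 0, .ofNat 2, .ofNat 0, .negSucc 0, .negSucc 1, .ofNat 0, .ofNat 0, .ofNat 0, .ofNat 1, .ofNat 0,
  .ofNat 1, .ofNat 0, .ofNat 2, .ofNat 0, .ofNat 0, .ofNat 0, .negSucc 0, .ofNat 0, .negSucc 0, .ofNat 0,
  .ofNat 0, .ofNat 0, .ofNat 0, .ofNat 0, .ofNat 0, .ofNat 0, .ofNat 0, .ofNat 0, .ofNat 0, .ofNat 0,
  .ofNat 0, .ofNat 0, .ofNat 0, .ofNat 0, .ofNat 0, .ofNat 0, .ofNat 1, .ofNat 0, .ofNat 0, .ofNat 0,
  .ofNat 0, .ofNat 0, .ofNat 1, .negSucc 1, .ofNat 0, .ofNat 0, .negSucc 0, .ofNat 0, .ofNat 0, .ofNat 0,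
  .ofNat 0, .ofNat 0, .ofNat 1, .ofNat 1, .negSucc 0, .ofNat 1, .ofNat 1, .ofNat 0, .negSucc 0, .ofNat 0,
  .ofNat 0, .ofNat 0, .ofNat 0, .negSucc 0, .ofNat 0, .ofNat 0, .ofNat 0, .ofNat 0, .ofNat 0, .ofNat 0,
  .ofNat 0, .ofNat 0, .ofNat 0, .ofNat 0, .ofNat 1, .ofNat 0, .ofNat 1, .ofNat 1, .ofNat 1, .ofNat 0,
  .negSucc 0, .ofNat 0, .negSucc 0, .ofNat 0, .ofNat 0, .ofNat 1, .ofNat 0, .ofNat 0, .ofNat 0, .negSucc 0,
  .ofNat 0]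

/-- the values at 56BC -/
def col139 : List ℤ :=
  [.ofNat 1, .negSucc 0, .ofNat 0, .ofNat 1, .ofNat 0, .ofNat 0, .negSucc 0, .ofNat 1, .negSucc 0, .ofNat 0,
  .ofNat 0, .ofNat 0, .ofNat 0, .ofNat 1, .ofNat 0, .ofNat 0, .ofNat 0, .ofNat 0, .ofNat 0, .ofNat 0,
  .ofNat 0, .negSucc 0, .ofNat 0, .ofNat 1, .ofNat 0, .ofNat 1, .ofNat 0, .ofNat 0, .ofNat 0, .ofNat 0,
  .ofNat 0, .negSucc 0, .ofNat 0, .ofNat 0, .ofNat 0, .ofNat 0, .ofNat 0, .ofNat 0, .ofNat 0, .ofNat 0,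
  .ofNat 0, .ofNat 0, .ofNat 0, .ofNat 0, .negSucc 1, .ofNat 0, .ofNat 0, .negSucc 0, .ofNat 0, .ofNat 0,
  .ofNat 0, .ofNat 0, .ofNat 0, .ofNat 0, .ofNat 0, .ofNat 0, .ofNat 1, .ofNat 0, .ofNat 0, .ofNat 0,
  .ofNat 0, .ofNat 0, .ofNat 0, .ofNat 0, .ofNat 0, .negSucc 0, .ofNat 0, .ofNat 0, .ofNat 0, .ofNat 0,
  .ofNat 0, .ofNat 0, .ofNat 0, .ofNat 0, .ofNat 1, .ofNat 0, .ofNat 0, .ofNat 0, .ofNat 0, .ofNat 0,
  .ofNat 0, .ofNat 1, .ofNat 0, .negSucc 0, .ofNat 0, .ofNat 0, .ofNat 0, .ofNat 0, .ofNat 0, .ofNat 0,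
  .ofNat 1, .ofNat 0, .ofNat 0, .ofNat 0, .ofNat 0, .ofNat 0, .ofNat 0, .ofNat 0, .negSucc 0, .ofNat 0,
  .ofNat 0, .ofNat 0, .ofNat 0, .ofNat 0, .ofNat 0, .ofNat 0, .ofNat 0, .ofNat 0, .ofNat 0, .ofNat 0,
  .ofNat 0, .ofNat 0, .ofNat 0, .ofNat 0, .ofNat 0, .ofNat 0, .ofNat 0, .ofNat 0, .ofNat 0, .ofNat 0,
  .ofNat 0, .ofNat 0, .ofNat 0, .negSucc 0, .ofNat 0, .ofNat 0, .negSucc 0, .ofNat 0, .ofNat 0, .ofNat 0,
  .ofNat 0, .ofNat 1, .ofNat 0, .ofNat 0, .ofNat 0, .ofNat 0, .ofNat 0, .ofNat 0, .ofNat 0, .ofNat 0,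
  .ofNat 0, .ofNat 1, .ofNat 0, .ofNat 0, .ofNat 0, .ofNat 0, .ofNat 0, .negSucc 0, .ofNat 0, .ofNat 0,
  .ofNat 0, .ofNat 0, .negSucc 0, .ofNat 0, .ofNat 0, .ofNat 0, .ofNat 0, .ofNat 0, .ofNat 0, .ofNat 0,
  .ofNat 1, .ofNat 0, .ofNat 0, .ofNat 0, .ofNat 0, .ofNat 0, .ofNat 0, .ofNat 0, .ofNat 0, .ofNat 0,
  .ofNat 0]

/-- the values at 57A -/
def col140 : List ℤ :=
  [.ofNat 1, .negSucc 0, .ofNat 1, .negSucc 0, .ofNat 1, .ofNat 0, .ofNat 0, .ofNat 0, .ofNat 0, .ofNat 1,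
  .ofNat 1, .negSucc 0, .ofNat 1, .ofNat 0, .negSucc 0, .ofNat 0, .ofNat 0, .negSucc 0, .ofNat 0, .ofNat 0,
  .ofNat 0, .ofNat 0, .ofNat 0, .ofNat 1, .negSucc 1, .ofNat 0, .ofNat 0, .ofNat 1, .ofNat 1, .negSucc 0,
  .ofNat 0, .ofNat 0, .ofNat 0, .negSucc 0, .ofNat 0, .ofNat 2, .ofNat 0, .ofNat 0, .ofNat 0, .negSucc 0,
  .ofNat 0, .negSucc 0, .ofNat 0, .ofNat 0, .ofNat 0, .ofNat 0, .ofNat 0, .ofNat 0, .ofNat 0, .ofNat 0,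
  .ofNat 0, .ofNat 1, .ofNat 1, .ofNat 0, .negSucc 0, .negSucc 0, .ofNat 0, .ofNat 0, .ofNat 1, .ofNat 0,
  .ofNat 0, .ofNat 0, .ofNat 0, .ofNat 1, .negSucc 0, .ofNat 1, .ofNat 0, .ofNat 0, .ofNat 0, .ofNat 0,
  .ofNat 0, .negSucc 0, .ofNat 0, .negSucc 0, .ofNat 0, .ofNat 0, .ofNat 0, .ofNat 0, .ofNat 0, .ofNat 0,
  .ofNat 0, .ofNat 0, .ofNat 2, .ofNat 1, .negSucc 1, .ofNat 2, .ofNat 0, .ofNat 0, .ofNat 0, .ofNat 0,
  .ofNat 0, .ofNat 0, .ofNat 0, .ofNat 0, .ofNat 0, .ofNat 0, .ofNat 0, .ofNat 1, .ofNat 0, .ofNat 0,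
  .ofNat 0, .ofNat 0, .ofNat 0, .ofNat 0, .ofNat 0, .ofNat 0, .ofNat 1, .negSucc 0, .ofNat 0, .ofNat 0,
  .ofNat 0, .ofNat 0, .negSucc 0, .ofNat 0, .ofNat 0, .ofNat 0, .ofNat 0, .negSucc 0, .ofNat 0, .ofNat 0,
  .ofNat 0, .ofNat 0, .ofNat 0, .ofNat 0, .ofNat 0, .ofNat 0, .ofNat 0, .ofNat 0, .ofNat 0, .ofNat 1,
  .ofNat 0, .ofNat 0, .ofNat 1, .ofNat 0, .ofNat 0, .negSucc 0, .ofNat 0, .ofNat 0, .ofNat 0, .negSucc 0,
  .ofNat 0, .ofNat 0, .ofNat 1, .ofNat 0, .ofNat 0, .ofNat 1, .ofNat 0, .ofNat 0, .ofNat 1, .ofNat 0,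
  .ofNat 0, .ofNat 0, .ofNat 0, .ofNat 0, .ofNat 1, .ofNat 0, .ofNat 0, .ofNat 1, .negSucc 0, .negSucc 0,
  .ofNat 0, .ofNat 0, .ofNat 0, .ofNat 0, .negSucc 0, .ofNat 0, .ofNat 0, .ofNat 0, .ofNat 0, .ofNat 0,
  .ofNat 1]

/-- the values at 59AB -/
def col141 : List ℤ :=
  [.ofNat 1, .ofNat 0, .ofNat 0, .ofNat 0, .negSucc 0, .ofNat 0, .ofNat 0, .ofNat 0, .ofNat 0, .ofNat 1,
  .ofNat 0, .ofNat 0, .ofNat 0, .ofNat 0, .ofNat 0, .ofNat 2, .ofNat 0, .ofNat 0, .ofNat 0, .ofNat 0,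
  .ofNat 0, .negSucc 0, .ofNat 0, .ofNat 0, .ofNat 2, .ofNat 0, .ofNat 0, .ofNat 0, .ofNat 0, .ofNat 0,
  .ofNat 0, .ofNat 0, .ofNat 0, .ofNat 0, .ofNat 1, .ofNat 0, .ofNat 2, .ofNat 0, .ofNat 0, .ofNat 0,
  .ofNat 0, .ofNat 0, .ofNat 0, .ofNat 0, .ofNat 0, .ofNat 0, .negSucc 0, .ofNat 0, .ofNat 0, .ofNat 0,
  .ofNat 0, .ofNat 0, .ofNat 0, .ofNat 0, .ofNat 0, .ofNat 0, .ofNat 0, .ofNat 0, .ofNat 0, .ofNat 0,
  .ofNat 0, .negSucc 1, .ofNat 0, .ofNat 0, .ofNat 0, .ofNat 0, .ofNat 0, .negSucc 1, .negSucc 1, .ofNat 0,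
  .ofNat 0, .ofNat 0, .ofNat 0, .ofNat 0, .ofNat 0, .ofNat 0, .ofNat 0, .ofNat 0, .ofNat 0, .ofNat 0,
  .negSucc 1, .ofNat 0, .negSucc 0, .ofNat 0, .negSucc 1, .ofNat 0, .ofNat 0, .ofNat 0, .ofNat 0, .ofNat 0,
  .ofNat 0, .ofNat 0, .ofNat 0, .ofNat 0, .ofNat 0, .ofNat 0, .ofNat 0, .ofNat 0, .ofNat 1, .ofNat 0,
  .ofNat 0, .ofNat 0, .ofNat 1, .ofNat 0, .ofNat 0, .ofNat 0, .ofNat 0, .ofNat 0, .ofNat 0, .negSucc 1,
  .ofNat 0, .ofNat 0, .ofNat 0, .ofNat 0, .ofNat 0, .ofNat 0, .ofNat 0, .ofNat 0, .ofNat 0, .ofNat 0,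
  .ofNat 0, .ofNat 0, .ofNat 0, .ofNat 0, .ofNat 0, .ofNat 0, .ofNat 0, .negSucc 0, .ofNat 0, .ofNat 0,
  .ofNat 0, .negSucc 0, .ofNat 0, .ofNat 0, .ofNat 0, .ofNat 0, .ofNat 0, .ofNat 0, .ofNat 0, .ofNat 0,
  .ofNat 0, .ofNat 0, .ofNat 0, .ofNat 0, .ofNat 1, .ofNat 0, .ofNat 0, .ofNat 0, .ofNat 0, .ofNat 0,
  .ofNat 0, .ofNat 0, .ofNat 0, .ofNat 0, .ofNat 0, .ofNat 0, .ofNat 0, .ofNat 0, .ofNat 0, .ofNat 0,
  .ofNat 0, .ofNat 0, .ofNat 0, .ofNat 0, .ofNat 0, .ofNat 0, .ofNat 0, .ofNat 0, .ofNat 0, .ofNat 0,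
  .ofNat 0]

/-- the values at 60A -/
def col142 : List ℤ :=
  [.ofNat 1, .ofNat 1, .negSucc 1, .negSucc 1, .ofNat 2, .ofNat 1, .negSucc 0, .ofNat 1, .negSucc 0,
  .negSucc 0, .ofNat 1, .ofNat 3, .negSucc 2, .ofNat 1, .ofNat 1, .ofNat 0, .ofNat 0, .negSucc 3, .ofNat 1,
  .ofNat 3, .ofNat 0, .ofNat 1, .ofNat 0, .negSucc 0, .ofNat 0, .negSucc 3, .ofNat 2, .ofNat 2, .negSucc 1,
  .ofNat 1, .ofNat 1, .ofNat 0, .ofNat 0, .ofNat 3, .ofNat 1, .negSucc 1, .ofNat 0, .ofNat 0, .ofNat 0,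
  .ofNat 0, .ofNat 2, .negSucc 1, .ofNat 0, .negSucc 0, .ofNat 0, .ofNat 0, .negSucc 1, .ofNat 0, .ofNat 0,
  .negSucc 1, .ofNat 1, .ofNat 1, .ofNat 3, .ofNat 2, .ofNat 2, .negSucc 3, .negSucc 0, .ofNat 0, .ofNat 0,
  .ofNat 0, .negSucc 0, .ofNat 0, .negSucc 1, .ofNat 1, .negSucc 0, .negSucc 0, .ofNat 0, .ofNat 0, .ofNat 0,
  .ofNat 0, .ofNat 0, .negSucc 1, .negSucc 1, .ofNat 2, .ofNat 2, .ofNat 3, .ofNat 2, .negSucc 0, .ofNat 1,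
  .ofNat 0, .ofNat 0, .ofNat 0, .ofNat 0, .negSucc 2, .ofNat 0, .ofNat 0, .negSucc 0, .ofNat 1, .ofNat 0,
  .ofNat 0, .ofNat 0, .ofNat 0, .ofNat 1, .negSucc 0, .ofNat 0, .ofNat 0, .ofNat 0, .ofNat 1, .ofNat 0,
  .negSucc 3, .ofNat 0, .ofNat 0, .ofNat 0, .ofNat 0, .ofNat 0, .ofNat 1, .negSucc 1, .negSucc 1, .negSucc 2,
  .ofNat 0, .ofNat 0, .ofNat 0, .ofNat 2, .ofNat 1, .negSucc 2, .ofNat 2, .ofNat 3, .ofNat 0, .ofNat 0,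
  .ofNat 1, .ofNat 0, .ofNat 2, .negSucc 0, .ofNat 0, .ofNat 0, .ofNat 0, .ofNat 2, .ofNat 0, .ofNat 0,
  .ofNat 0, .ofNat 0, .ofNat 0, .negSucc 0, .ofNat 0, .ofNat 0, .ofNat 0, .ofNat 0, .ofNat 0, .ofNat 0,
  .ofNat 0, .ofNat 0, .ofNat 1, .negSucc 1, .negSucc 2, .ofNat 0, .ofNat 2, .ofNat 0, .ofNat 0, .negSucc 0,
  .negSucc 3, .ofNat 2, .ofNat 0, .ofNat 0, .ofNat 0, .ofNat 1, .ofNat 0, .ofNat 3, .ofNat 0, .negSucc 1,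
  .negSucc 2, .ofNat 0, .ofNat 3, .ofNat 1, .negSucc 0, .ofNat 0, .negSucc 1, .negSucc 0, .negSucc 0,
  .negSucc 1, .negSucc 0, .negSucc 0]

/-- the values at 60B -/
def col143 : List ℤ :=
  [.ofNat 1, .negSucc 0, .ofNat 2, .ofNat 0, .ofNat 0, .negSucc 0, .negSucc 0, .negSucc 0, .ofNat 3,
  .negSucc 0, .negSucc 0, .ofNat 3, .negSucc 0, .ofNat 1, .ofNat 1, .ofNat 0, .negSucc 1, .ofNat 0,
  .negSucc 0, .negSucc 0, .ofNat 0, .ofNat 1, .negSucc 1, .negSucc 0, .ofNat 0, .ofNat 0, .ofNat 2, .ofNat 0,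
  .ofNat 0, .ofNat 1, .ofNat 3, .negSucc 1, .negSucc 1, .ofNat 1, .negSucc 0, .ofNat 2, .ofNat 4, .ofNat 2,
  .ofNat 0, .ofNat 0, .ofNat 2, .ofNat 2, .negSucc 1, .negSucc 0, .ofNat 0, .ofNat 0, .ofNat 2, .ofNat 0,
  .ofNat 0, .ofNat 0, .negSucc 0, .negSucc 0, .negSucc 0, .ofNat 0, .ofNat 0, .ofNat 0, .ofNat 1, .negSucc 1,
  .ofNat 0, .ofNat 0, .negSucc 0, .ofNat 0, .ofNat 0, .negSucc 0, .negSucc 0, .negSucc 0, .ofNat 2, .ofNat 0,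
  .ofNat 0, .ofNat 0, .ofNat 0, .negSucc 1, .ofNat 2, .negSucc 1, .ofNat 0, .ofNat 1, .negSucc 1, .negSucc 0,
  .ofNat 1, .negSucc 1, .ofNat 0, .negSucc 1, .ofNat 0, .ofNat 1, .ofNat 0, .ofNat 0, .ofNat 1, .ofNat 3,
  .ofNat 0, .ofNat 0, .ofNat 0, .ofNat 0, .ofNat 1, .negSucc 0, .ofNat 0, .ofNat 2, .ofNat 2, .ofNat 1,
  .ofNat 0, .ofNat 0, .ofNat 0, .ofNat 2, .ofNat 0, .ofNat 0, .negSucc 1, .negSucc 0, .ofNat 2, .ofNat 0,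
  .negSucc 0, .ofNat 0, .negSucc 1, .ofNat 0, .ofNat 0, .negSucc 0, .ofNat 1, .negSucc 1, .negSucc 0,
  .ofNat 0, .ofNat 0, .ofNat 1, .ofNat 0, .ofNat 0, .ofNat 1, .negSucc 1, .ofNat 2, .negSucc 1, .ofNat 0,
  .ofNat 0, .negSucc 1, .ofNat 2, .ofNat 0, .ofNat 0, .negSucc 0, .ofNat 0, .ofNat 0, .ofNat 0, .ofNat 0,
  .ofNat 0, .ofNat 2, .ofNat 0, .ofNat 0, .negSucc 0, .ofNat 0, .negSucc 0, .ofNat 0, .ofNat 0, .ofNat 0,
  .ofNat 0, .ofNat 1, .ofNat 0, .ofNat 0, .ofNat 0, .ofNat 0, .ofNat 0, .ofNat 1, .ofNat 0, .negSucc 0,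
  .ofNat 0, .ofNat 0, .negSucc 0, .ofNat 0, .ofNat 1, .negSucc 0, .negSucc 0, .ofNat 4, .ofNat 0, .ofNat 1,
  .ofNat 1, .ofNat 0, .ofNat 3, .ofNat 1]

/-- the values at 60C -/
def col144 : List ℤ :=
  [.ofNat 1, .ofNat 0, .ofNat 0, .ofNat 0, .negSucc 0, .ofNat 0, .negSucc 0, .ofNat 1, .ofNat 1, .ofNat 0,
  .negSucc 0, .ofNat 0, .ofNat 0, .ofNat 1, .negSucc 0, .ofNat 0, .ofNat 0, .ofNat 1, .ofNat 0, .ofNat 0,
  .ofNat 1, .negSucc 0, .negSucc 0, .ofNat 0, .ofNat 0, .ofNat 0, .ofNat 0, .ofNat 0, .ofNat 0, .negSucc 0,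
  .ofNat 0, .ofNat 0, .ofNat 0, .ofNat 0, .ofNat 1, .negSucc 3, .ofNat 4, .ofNat 0, .ofNat 2, .ofNat 0,
  .negSucc 3, .ofNat 0, .ofNat 0, .negSucc 0, .ofNat 0, .ofNat 0, .ofNat 1, .ofNat 0, .negSucc 1, .negSucc 0,
  .ofNat 1, .ofNat 0, .ofNat 1, .ofNat 1, .ofNat 0, .ofNat 0, .negSucc 0, .negSucc 0, .ofNat 0, .ofNat 0,
  .ofNat 1, .ofNat 0, .negSucc 0, .ofNat 0, .ofNat 0, .ofNat 0, .ofNat 0, .ofNat 0, .ofNat 0, .ofNat 0,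
  .ofNat 1, .ofNat 0, .ofNat 0, .ofNat 0, .ofNat 0, .ofNat 0, .ofNat 0, .negSucc 0, .ofNat 2, .ofNat 0,
  .ofNat 2, .ofNat 0, .ofNat 0, .ofNat 0, .ofNat 0, .ofNat 0, .ofNat 2, .negSucc 0, .ofNat 0, .ofNat 0,
  .negSucc 0, .ofNat 0, .negSucc 0, .ofNat 1, .ofNat 0, .ofNat 0, .ofNat 0, .ofNat 2, .ofNat 0, .ofNat 0,
  .ofNat 0, .negSucc 0, .ofNat 0, .ofNat 0, .ofNat 0, .ofNat 0, .ofNat 1, .ofNat 0, .ofNat 0, .ofNat 4,
  .negSucc 3, .ofNat 0, .ofNat 0, .ofNat 0, .ofNat 0, .ofNat 0, .ofNat 0, .ofNat 0, .ofNat 0, .ofNat 0,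
  .ofNat 0, .ofNat 2, .ofNat 0, .ofNat 0, .ofNat 0, .ofNat 3, .ofNat 0, .ofNat 0, .ofNat 0, .negSucc 0,
  .ofNat 0, .ofNat 0, .ofNat 0, .ofNat 0, .ofNat 0, .ofNat 0, .ofNat 0, .ofNat 0, .ofNat 0, .ofNat 0,
  .ofNat 0, .negSucc 0, .ofNat 0, .ofNat 1, .negSucc 0, .ofNat 0, .ofNat 0, .ofNat 0, .ofNat 0, .ofNat 0,
  .ofNat 0, .ofNat 0, .ofNat 1, .ofNat 0, .ofNat 0, .ofNat 0, .ofNat 0, .ofNat 0, .ofNat 0, .ofNat 0,
  .ofNat 0, .ofNat 0, .ofNat 0, .negSucc 0, .negSucc 1, .ofNat 0, .negSucc 0, .negSucc 0, .negSucc 0,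
  .negSucc 1, .negSucc 0]

/-- the values at 60D -/
def col145 : List ℤ :=
  [.ofNat 1, .negSucc 1, .ofNat 2, .ofNat 0, .ofNat 3, .ofNat 0, .negSucc 2, .negSucc 0, .ofNat 1, .ofNat 0,
  .ofNat 1, .ofNat 2, .ofNat 0, .negSucc 2, .negSucc 0, .ofNat 0, .ofNat 0, .ofNat 3, .negSucc 1, .ofNat 0,
  .negSucc 0, .ofNat 1, .negSucc 0, .negSucc 1, .ofNat 0, .ofNat 0, .ofNat 0, .ofNat 0, .ofNat 0, .ofNat 1,
  .ofNat 2, .ofNat 2, .ofNat 0, .ofNat 0, .ofNat 1, .ofNat 0, .ofNat 0, .ofNat 0, .negSucc 1, .ofNat 0,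
  .ofNat 0, .ofNat 0, .ofNat 0, .negSucc 0, .ofNat 0, .ofNat 0, .negSucc 2, .ofNat 0, .negSucc 1, .negSucc 0,
  .ofNat 1, .ofNat 0, .negSucc 0, .ofNat 1, .ofNat 0, .ofNat 0, .ofNat 1, .ofNat 1, .ofNat 0, .ofNat 0,
  .ofNat 1, .ofNat 0, .ofNat 1, .ofNat 0, .ofNat 0, .ofNat 0, .ofNat 0, .ofNat 0, .ofNat 0, .ofNat 0,
  .negSucc 0, .ofNat 0, .ofNat 0, .ofNat 0, .ofNat 0, .ofNat 0, .ofNat 0, .negSucc 0, .negSucc 1, .ofNat 0,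
  .ofNat 2, .ofNat 0, .ofNat 0, .ofNat 0, .ofNat 0, .ofNat 0, .ofNat 0, .negSucc 0, .ofNat 0, .ofNat 0,
  .ofNat 1, .ofNat 0, .ofNat 1, .ofNat 1, .ofNat 0, .ofNat 0, .ofNat 0, .ofNat 0, .ofNat 0, .ofNat 0,
  .ofNat 0, .ofNat 1, .ofNat 0, .ofNat 0, .ofNat 0, .ofNat 0, .negSucc 0, .ofNat 0, .ofNat 0, .ofNat 0,
  .ofNat 0, .ofNat 0, .ofNat 0, .ofNat 0, .ofNat 0, .ofNat 0, .ofNat 0, .ofNat 0, .ofNat 0, .ofNat 0,
  .ofNat 0, .ofNat 0, .ofNat 0, .ofNat 0, .ofNat 0, .ofNat 1, .ofNat 0, .ofNat 0, .ofNat 0, .negSucc 0,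
  .ofNat 0, .ofNat 0, .ofNat 0, .ofNat 0, .ofNat 0, .ofNat 0, .ofNat 0, .ofNat 0, .ofNat 0, .ofNat 0,
  .ofNat 0, .ofNat 1, .ofNat 0, .ofNat 1, .ofNat 1, .ofNat 0, .ofNat 0, .ofNat 0, .ofNat 0, .ofNat 0,
  .ofNat 0, .ofNat 0, .negSucc 0, .ofNat 0, .ofNat 0, .ofNat 0, .ofNat 0, .ofNat 0, .ofNat 0, .ofNat 0,
  .ofNat 0, .ofNat 0, .ofNat 0, .negSucc 0, .negSucc 1, .ofNat 0, .negSucc 0, .negSucc 0, .negSucc 0,
  .negSucc 1, .negSucc 0]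

/-- the values at 60E -/
def col146 : List ℤ :=
  [.ofNat 1, .ofNat 0, .negSucc 0, .ofNat 0, .ofNat 0, .ofNat 0, .ofNat 0, .ofNat 1, .negSucc 0, .ofNat 1,
  .ofNat 1, .ofNat 0, .negSucc 0, .negSucc 0, .ofNat 0, .ofNat 0, .negSucc 0, .negSucc 0, .ofNat 0,
  .negSucc 0, .ofNat 0, .ofNat 1, .ofNat 1, .ofNat 0, .ofNat 0, .ofNat 1, .ofNat 1, .negSucc 0, .ofNat 0,
  .ofNat 0, .ofNat 0, .ofNat 1, .ofNat 0, .ofNat 1, .negSucc 0, .ofNat 0, .ofNat 0, .ofNat 0, .ofNat 2,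
  .ofNat 0, .negSucc 1, .ofNat 2, .ofNat 0, .ofNat 0, .ofNat 0, .ofNat 0, .ofNat 0, .negSucc 0, .ofNat 0,
  .ofNat 0, .ofNat 0, .negSucc 0, .ofNat 0, .ofNat 0, .ofNat 0, .ofNat 0, .negSucc 0, .ofNat 1, .ofNat 0,
  .ofNat 0, .negSucc 0, .ofNat 0, .ofNat 0, .ofNat 0, .ofNat 0, .ofNat 0, .ofNat 1, .ofNat 0, .ofNat 0,
  .ofNat 0, .ofNat 0, .ofNat 1, .ofNat 2, .negSucc 1, .negSucc 0, .ofNat 1, .ofNat 1, .ofNat 0, .negSucc 0,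
  .ofNat 0, .ofNat 0, .ofNat 0, .ofNat 0, .ofNat 1, .ofNat 0, .ofNat 0, .ofNat 0, .ofNat 0, .ofNat 0,
  .ofNat 0, .ofNat 1, .ofNat 0, .negSucc 0, .ofNat 1, .negSucc 0, .ofNat 0, .ofNat 0, .ofNat 0, .ofNat 0,
  .ofNat 0, .ofNat 0, .ofNat 0, .ofNat 0, .ofNat 0, .ofNat 0, .ofNat 0, .negSucc 0, .ofNat 0, .negSucc 0,
  .ofNat 0, .ofNat 0, .ofNat 0, .ofNat 0, .ofNat 0, .ofNat 0, .ofNat 0, .ofNat 0, .ofNat 0, .ofNat 0,
  .negSucc 0, .ofNat 0, .ofNat 0, .ofNat 0, .ofNat 0, .ofNat 0, .ofNat 1, .ofNat 0, .ofNat 0, .ofNat 0,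
  .ofNat 0, .ofNat 0, .ofNat 0, .ofNat 0, .ofNat 0, .ofNat 0, .ofNat 0, .ofNat 0, .ofNat 1, .ofNat 0,
  .ofNat 0, .ofNat 0, .ofNat 0, .ofNat 0, .ofNat 0, .ofNat 0, .ofNat 0, .ofNat 0, .ofNat 0, .ofNat 0,
  .ofNat 0, .ofNat 0, .ofNat 0, .ofNat 0, .ofNat 0, .ofNat 1, .ofNat 0, .ofNat 0, .ofNat 0, .ofNat 0,
  .negSucc 0, .ofNat 0, .ofNat 1, .negSucc 0, .ofNat 2, .ofNat 1, .ofNat 1, .ofNat 1, .ofNat 1, .ofNat 1,
  .ofNat 1, .ofNat 1]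

/-- the values at 60F -/
def col147 : List ℤ :=
  [.ofNat 1, .negSucc 0, .ofNat 0, .ofNat 0, .ofNat 0, .ofNat 1, .ofNat 1, .negSucc 0, .ofNat 0, .ofNat 0,
  .ofNat 0, .negSucc 0, .ofNat 0, .ofNat 0, .ofNat 0, .ofNat 0, .ofNat 1, .negSucc 0, .ofNat 0, .ofNat 0,
  .ofNat 1, .ofNat 0, .negSucc 0, .ofNat 1, .ofNat 4, .ofNat 0, .ofNat 1, .ofNat 0, .ofNat 0, .ofNat 0,
  .ofNat 0, .ofNat 1, .ofNat 0, .ofNat 0, .negSucc 0, .ofNat 2, .ofNat 0, .ofNat 0, .ofNat 0, .ofNat 0,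
  .ofNat 0, .ofNat 0, .ofNat 0, .ofNat 0, .ofNat 0, .ofNat 0, .ofNat 0, .ofNat 0, .ofNat 0, .ofNat 0,
  .ofNat 0, .ofNat 0, .ofNat 0, .ofNat 1, .negSucc 0, .ofNat 0, .ofNat 0, .ofNat 1, .ofNat 0, .ofNat 0,
  .ofNat 1, .ofNat 0, .negSucc 0, .ofNat 1, .negSucc 0, .ofNat 0, .ofNat 1, .ofNat 0, .ofNat 0, .ofNat 0,
  .negSucc 0, .negSucc 0, .ofNat 0, .ofNat 0, .ofNat 0, .ofNat 0, .negSucc 0, .ofNat 0, .ofNat 0, .ofNat 0,
  .ofNat 0, .ofNat 0, .ofNat 0, .ofNat 0, .ofNat 4, .negSucc 3, .ofNat 1, .ofNat 0, .ofNat 0, .ofNat 0,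
  .ofNat 0, .ofNat 0, .ofNat 0, .ofNat 0, .ofNat 0, .ofNat 0, .ofNat 0, .ofNat 0, .ofNat 1, .ofNat 0,
  .ofNat 0, .ofNat 0, .ofNat 0, .ofNat 0, .ofNat 0, .negSucc 0, .ofNat 0, .ofNat 0, .ofNat 0, .ofNat 0,
  .ofNat 0, .ofNat 0, .ofNat 0, .negSucc 0, .ofNat 0, .ofNat 1, .ofNat 0, .ofNat 0, .ofNat 0, .ofNat 0,
  .ofNat 0, .ofNat 0, .ofNat 0, .ofNat 0, .ofNat 0, .ofNat 0, .ofNat 0, .ofNat 0, .ofNat 0, .ofNat 0,
  .ofNat 0, .ofNat 1, .ofNat 0, .ofNat 0, .negSucc 0, .ofNat 0, .ofNat 0, .ofNat 0, .ofNat 0, .ofNat 0,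
  .ofNat 0, .ofNat 0, .ofNat 0, .ofNat 0, .ofNat 0, .ofNat 0, .ofNat 0, .ofNat 0, .ofNat 0, .ofNat 0,
  .ofNat 0, .ofNat 0, .ofNat 0, .ofNat 0, .ofNat 0, .ofNat 0, .ofNat 0, .ofNat 0, .ofNat 0, .ofNat 0,
  .ofNat 0, .ofNat 0, .ofNat 0, .negSucc 0, .negSucc 1, .negSucc 0, .negSucc 0, .negSucc 0, .negSucc 0,
  .negSucc 0, .negSucc 0]

/-- the values at 62AB -/
def col148 : List ℤ :=
  [.ofNat 1, .ofNat 0, .ofNat 0, .ofNat 0, .ofNat 0, .negSucc 0, .ofNat 0, .ofNat 1, .ofNat 0, .ofNat 0,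
  .negSucc 0, .ofNat 0, .ofNat 0, .ofNat 0, .ofNat 0, .negSucc 1, .ofNat 0, .ofNat 0, .negSucc 0, .ofNat 0,
  .ofNat 1, .ofNat 0, .ofNat 0, .ofNat 0, .ofNat 1, .ofNat 0, .ofNat 0, .negSucc 0, .ofNat 0, .ofNat 0,
  .ofNat 0, .ofNat 0, .ofNat 1, .ofNat 0, .ofNat 0, .ofNat 0, .negSucc 1, .ofNat 0, .ofNat 0, .ofNat 0,
  .ofNat 0, .ofNat 0, .ofNat 0, .ofNat 0, .ofNat 0, .ofNat 0, .ofNat 0, .ofNat 0, .ofNat 0, .ofNat 0,
  .ofNat 0, .ofNat 0, .ofNat 0, .ofNat 1, .ofNat 0, .ofNat 0, .ofNat 0, .negSucc 0, .ofNat 0, .ofNat 0,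
  .ofNat 0, .ofNat 0, .ofNat 0, .ofNat 0, .ofNat 0, .ofNat 0, .ofNat 0, .ofNat 0, .ofNat 0, .ofNat 0,
  .ofNat 0, .ofNat 0, .ofNat 0, .ofNat 0, .ofNat 0, .ofNat 0, .ofNat 0, .ofNat 0, .ofNat 0, .negSucc 0,
  .ofNat 0, .ofNat 0, .ofNat 0, .ofNat 0, .negSucc 0, .ofNat 0, .ofNat 0, .ofNat 0, .negSucc 0, .ofNat 0,
  .ofNat 0, .ofNat 0, .ofNat 0, .ofNat 0, .ofNat 0, .ofNat 0, .ofNat 0, .ofNat 1, .ofNat 1, .ofNat 1,
  .negSucc 1, .ofNat 0, .negSucc 0, .ofNat 0, .ofNat 0, .ofNat 0, .ofNat 0, .ofNat 0, .ofNat 0, .ofNat 0,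
  .ofNat 1, .ofNat 0, .ofNat 1, .ofNat 0, .ofNat 0, .ofNat 0, .ofNat 0, .ofNat 0, .negSucc 0, .ofNat 0,
  .ofNat 0, .ofNat 0, .ofNat 0, .ofNat 0, .ofNat 0, .ofNat 0, .ofNat 0, .ofNat 0, .ofNat 0, .ofNat 0,
  .ofNat 0, .negSucc 0, .ofNat 0, .ofNat 0, .ofNat 0, .ofNat 0, .ofNat 0, .negSucc 0, .ofNat 0, .ofNat 0,
  .ofNat 0, .ofNat 0, .ofNat 0, .ofNat 0, .ofNat 0, .ofNat 1, .ofNat 0, .ofNat 0, .ofNat 0, .ofNat 0,
  .ofNat 0, .negSucc 0, .ofNat 0, .ofNat 0, .ofNat 0, .ofNat 1, .ofNat 0, .ofNat 0, .ofNat 0, .ofNat 0,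
  .ofNat 0, .ofNat 0, .ofNat 0, .ofNat 0, .ofNat 0, .ofNat 0, .ofNat 0, .ofNat 0, .ofNat 0, .ofNat 0,
  .ofNat 0]

/-- the values at 66A -/
def col149 : List ℤ :=
  [.ofNat 1, .ofNat 1, .negSucc 1, .negSucc 0, .ofNat 0, .ofNat 2, .negSucc 0, .negSucc 0, .ofNat 2,
  .negSucc 0, .ofNat 1, .ofNat 2, .ofNat 1, .ofNat 0, .negSucc 0, .ofNat 0, .ofNat 1, .negSucc 0, .negSucc 1,
  .ofNat 2, .negSucc 1, .ofNat 0, .ofNat 2, .ofNat 0, .ofNat 0, .negSucc 0, .ofNat 1, .ofNat 0, .ofNat 1,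
  .ofNat 0, .ofNat 1, .negSucc 1, .ofNat 0, .ofNat 1, .negSucc 1, .ofNat 0, .ofNat 2, .negSucc 1, .ofNat 0,
  .ofNat 2, .ofNat 0, .negSucc 1, .ofNat 0, .ofNat 0, .ofNat 0, .ofNat 0, .ofNat 2, .negSucc 0, .ofNat 0,
  .ofNat 0, .negSucc 0, .negSucc 0, .ofNat 1, .negSucc 0, .negSucc 0, .ofNat 1, .ofNat 1, .ofNat 0,
  .negSucc 0, .ofNat 2, .ofNat 1, .ofNat 0, .ofNat 0, .ofNat 1, .ofNat 0, .ofNat 0, .ofNat 0, .ofNat 0,
  .ofNat 0, .ofNat 0, .ofNat 1, .ofNat 0, .ofNat 2, .negSucc 0, .ofNat 0, .ofNat 0, .ofNat 0, .ofNat 1,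
  .negSucc 0, .negSucc 0, .ofNat 0, .ofNat 0, .ofNat 0, .ofNat 0, .ofNat 0, .ofNat 0, .ofNat 0, .ofNat 0,
  .negSucc 0, .ofNat 0, .ofNat 0, .negSucc 0, .ofNat 0, .ofNat 0, .ofNat 1, .ofNat 0, .negSucc 0, .ofNat 0,
  .ofNat 0, .ofNat 0, .ofNat 0, .ofNat 0, .ofNat 0, .ofNat 0, .ofNat 0, .ofNat 1, .ofNat 0, .ofNat 1,
  .ofNat 0, .negSucc 1, .ofNat 0, .ofNat 0, .ofNat 1, .ofNat 1, .ofNat 0, .ofNat 0, .ofNat 0, .negSucc 0,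
  .ofNat 0, .ofNat 0, .ofNat 0, .ofNat 0, .ofNat 1, .ofNat 0, .ofNat 0, .ofNat 0, .negSucc 0, .ofNat 0,
  .ofNat 1, .negSucc 0, .ofNat 0, .ofNat 0, .ofNat 0, .negSucc 0, .ofNat 0, .ofNat 0, .ofNat 0, .ofNat 0,
  .negSucc 0, .ofNat 0, .ofNat 0, .negSucc 0, .ofNat 1, .ofNat 1, .ofNat 0, .ofNat 1, .ofNat 0, .ofNat 0,
  .negSucc 0, .ofNat 0, .ofNat 0, .negSucc 1, .ofNat 0, .ofNat 1, .ofNat 0, .ofNat 0, .ofNat 0, .ofNat 0,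
  .ofNat 1, .ofNat 1, .ofNat 0, .ofNat 0, .negSucc 0, .ofNat 0, .negSucc 1, .ofNat 0, .ofNat 2, .ofNat 0,
  .ofNat 0, .ofNat 0, .ofNat 0]

/-- the values at 66B -/
def col150 : List ℤ :=
  [.ofNat 1, .ofNat 0, .ofNat 0, .negSucc 0, .negSucc 0, .ofNat 1, .ofNat 0, .ofNat 0, .ofNat 1, .ofNat 0,
  .ofNat 1, .negSucc 1, .ofNat 1, .ofNat 0, .ofNat 0, .ofNat 0, .ofNat 1, .ofNat 0, .ofNat 0, .ofNat 0,
  .negSucc 0, .negSucc 0, .ofNat 0, .ofNat 0, .ofNat 0, .negSucc 0, .ofNat 1, .ofNat 1, .ofNat 0, .ofNat 0,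
  .ofNat 0, .ofNat 0, .ofNat 1, .ofNat 0, .ofNat 0, .ofNat 0, .ofNat 0, .ofNat 2, .ofNat 2, .ofNat 0,
  .ofNat 0, .ofNat 0, .ofNat 0, .ofNat 0, .ofNat 0, .ofNat 0, .negSucc 1, .negSucc 0, .ofNat 0, .ofNat 0,
  .negSucc 0, .negSucc 0, .ofNat 0, .ofNat 0, .ofNat 0, .ofNat 1, .ofNat 1, .ofNat 0, .negSucc 0, .ofNat 0,
  .negSucc 0, .ofNat 0, .ofNat 1, .ofNat 0, .ofNat 0, .ofNat 0, .ofNat 0, .ofNat 0, .ofNat 0, .ofNat 0,
  .ofNat 1, .ofNat 0, .ofNat 0, .ofNat 0, .negSucc 0, .ofNat 0, .ofNat 0, .ofNat 0, .ofNat 0, .ofNat 0,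
  .ofNat 2, .ofNat 0, .ofNat 0, .ofNat 0, .ofNat 0, .ofNat 0, .ofNat 0, .ofNat 0, .negSucc 0, .ofNat 0,
  .ofNat 0, .negSucc 0, .ofNat 1, .ofNat 1, .ofNat 1, .ofNat 0, .ofNat 0, .ofNat 0, .ofNat 0, .ofNat 0,
  .ofNat 0, .ofNat 0, .ofNat 0, .ofNat 0, .negSucc 0, .ofNat 0, .ofNat 0, .ofNat 0, .negSucc 0, .ofNat 2,
  .ofNat 1, .ofNat 0, .ofNat 0, .ofNat 0, .ofNat 0, .ofNat 0, .ofNat 0, .ofNat 0, .ofNat 0, .ofNat 0,
  .ofNat 1, .ofNat 0, .ofNat 0, .ofNat 0, .ofNat 0, .ofNat 0, .ofNat 0, .ofNat 0, .ofNat 0, .negSucc 0,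
  .ofNat 1, .ofNat 0, .ofNat 0, .ofNat 0, .ofNat 0, .ofNat 0, .ofNat 0, .ofNat 0, .ofNat 0, .ofNat 0,
  .ofNat 0, .ofNat 0, .ofNat 0, .negSucc 0, .negSucc 0, .ofNat 0, .ofNat 0, .ofNat 0, .ofNat 0, .ofNat 0,
  .ofNat 0, .ofNat 0, .ofNat 0, .ofNat 1, .ofNat 0, .ofNat 0, .ofNat 0, .ofNat 0, .ofNat 0, .ofNat 0,
  .ofNat 0, .negSucc 0, .ofNat 1, .ofNat 0, .ofNat 2, .ofNat 0, .negSucc 1, .ofNat 0, .ofNat 0, .ofNat 0,
  .ofNat 0]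

/-- the values at 68A -/
def col151 : List ℤ :=
  [.ofNat 1, .ofNat 0, .negSucc 0, .ofNat 0, .ofNat 0, .ofNat 0, .negSucc 0, .ofNat 2, .ofNat 0, .ofNat 0,
  .ofNat 0, .ofNat 0, .ofNat 0, .ofNat 1, .negSucc 1, .ofNat 0, .ofNat 0, .ofNat 0, .ofNat 0, .negSucc 0,
  .ofNat 1, .ofNat 0, .ofNat 0, .ofNat 0, .ofNat 0, .ofNat 0, .ofNat 2, .ofNat 0, .negSucc 0, .ofNat 0,
  .ofNat 0, .ofNat 0, .ofNat 0, .ofNat 1, .ofNat 0, .ofNat 0, .ofNat 0, .ofNat 0, .ofNat 0, .ofNat 0,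
  .ofNat 2, .ofNat 0, .ofNat 0, .negSucc 0, .ofNat 2, .ofNat 0, .ofNat 0, .ofNat 0, .ofNat 0, .negSucc 1,
  .ofNat 0, .ofNat 1, .ofNat 0, .ofNat 0, .ofNat 0, .ofNat 0, .ofNat 0, .ofNat 0, .ofNat 0, .ofNat 2,
  .ofNat 0, .ofNat 0, .ofNat 0, .ofNat 0, .ofNat 1, .ofNat 1, .negSucc 0, .ofNat 0, .ofNat 0, .ofNat 0,
  .ofNat 0, .ofNat 0, .ofNat 0, .ofNat 0, .ofNat 0, .ofNat 0, .ofNat 0, .ofNat 0, .negSucc 0, .ofNat 0,
  .ofNat 0, .ofNat 0, .ofNat 0, .ofNat 0, .ofNat 0, .ofNat 0, .ofNat 0, .ofNat 0, .ofNat 2, .ofNat 0,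
  .negSucc 1, .ofNat 0, .ofNat 0, .ofNat 0, .ofNat 0, .ofNat 0, .ofNat 0, .negSucc 1, .ofNat 0, .ofNat 2,
  .ofNat 0, .ofNat 0, .ofNat 0, .ofNat 0, .ofNat 0, .ofNat 0, .ofNat 0, .ofNat 1, .ofNat 0, .ofNat 0,
  .ofNat 0, .ofNat 0, .negSucc 0, .negSucc 0, .ofNat 0, .ofNat 0, .ofNat 1, .ofNat 0, .ofNat 0, .ofNat 0,
  .ofNat 0, .ofNat 0, .ofNat 1, .negSucc 0, .negSucc 0, .negSucc 0, .ofNat 1, .ofNat 1, .ofNat 0, .ofNat 0,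
  .ofNat 0, .ofNat 0, .ofNat 0, .ofNat 0, .ofNat 0, .ofNat 0, .ofNat 0, .ofNat 0, .ofNat 0, .ofNat 0,
  .negSucc 0, .ofNat 0, .ofNat 1, .ofNat 0, .ofNat 0, .negSucc 0, .ofNat 0, .ofNat 0, .ofNat 1, .ofNat 0,
  .ofNat 0, .ofNat 0, .ofNat 0, .ofNat 0, .ofNat 0, .ofNat 0, .ofNat 1, .ofNat 0, .ofNat 0, .ofNat 0,
  .ofNat 0, .negSucc 0, .ofNat 0, .ofNat 0, .ofNat 0, .ofNat 0, .ofNat 0, .ofNat 0, .ofNat 0, .ofNat 0,
  .ofNat 0]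

/-- the values at 69AB -/
def col152 : List ℤ :=
  [.ofNat 1, .ofNat 0, .ofNat 0, .negSucc 0, .ofNat 0, .ofNat 0, .ofNat 1, .ofNat 0, .negSucc 0, .ofNat 1,
  .ofNat 0, .ofNat 0, .ofNat 0, .ofNat 0, .ofNat 0, .negSucc 0, .ofNat 0, .ofNat 0, .ofNat 0, .ofNat 1,
  .ofNat 0, .negSucc 0, .ofNat 0, .ofNat 0, .ofNat 0, .ofNat 0, .ofNat 0, .ofNat 0, .ofNat 0, .ofNat 0,
  .ofNat 0, .ofNat 0, .negSucc 0, .ofNat 1, .ofNat 0, .ofNat 0, .negSucc 1, .ofNat 0, .ofNat 0, .ofNat 1,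
  .ofNat 0, .ofNat 0, .ofNat 0, .ofNat 0, .ofNat 0, .ofNat 0, .negSucc 0, .ofNat 0, .negSucc 1, .ofNat 0,
  .ofNat 0, .ofNat 0, .negSucc 0, .negSucc 0, .ofNat 0, .ofNat 0, .ofNat 0, .ofNat 0, .ofNat 0, .ofNat 0,
  .ofNat 0, .ofNat 0, .ofNat 1, .ofNat 0, .ofNat 0, .ofNat 0, .ofNat 0, .ofNat 2, .negSucc 0, .ofNat 0,
  .ofNat 0, .ofNat 0, .ofNat 0, .ofNat 0, .negSucc 0, .ofNat 0, .ofNat 0, .ofNat 0, .ofNat 1, .ofNat 1,
  .ofNat 0, .negSucc 0, .ofNat 0, .ofNat 0, .ofNat 0, .ofNat 0, .ofNat 0, .ofNat 0, .ofNat 0, .ofNat 0,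
  .ofNat 0, .ofNat 0, .ofNat 0, .ofNat 0, .ofNat 0, .ofNat 0, .ofNat 0, .ofNat 0, .ofNat 0, .ofNat 0,
  .ofNat 0, .ofNat 0, .ofNat 0, .ofNat 1, .ofNat 0, .ofNat 0, .ofNat 0, .ofNat 0, .ofNat 1, .ofNat 0,
  .negSucc 0, .ofNat 0, .ofNat 0, .ofNat 0, .negSucc 0, .ofNat 0, .ofNat 0, .ofNat 0, .ofNat 0, .ofNat 0,
  .negSucc 0, .ofNat 0, .ofNat 1, .negSucc 0, .ofNat 1, .ofNat 0, .ofNat 0, .ofNat 0, .ofNat 0, .ofNat 0,
  .ofNat 0, .ofNat 0, .ofNat 0, .ofNat 0, .ofNat 0, .ofNat 0, .ofNat 0, .ofNat 0, .ofNat 0, .ofNat 0,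
  .ofNat 0, .ofNat 0, .ofNat 0, .ofNat 0, .ofNat 0, .ofNat 0, .ofNat 0, .ofNat 0, .ofNat 0, .ofNat 0,
  .ofNat 0, .ofNat 0, .ofNat 0, .ofNat 0, .ofNat 0, .ofNat 0, .ofNat 0, .ofNat 0, .ofNat 0, .ofNat 0,
  .ofNat 0, .ofNat 0, .ofNat 0, .negSucc 0, .ofNat 0, .ofNat 0, .ofNat 1, .ofNat 0, .ofNat 0, .ofNat 0,
  .ofNat 0]

/-- the values at 70A -/
def col153 : List ℤ :=
  [.ofNat 1, .ofNat 0, .negSucc 0, .ofNat 1, .negSucc 1, .ofNat 1, .ofNat 0, .negSucc 0, .ofNat 1, .ofNat 1,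
  .ofNat 1, .ofNat 0, .ofNat 1, .ofNat 0, .negSucc 0, .ofNat 0, .ofNat 0, .ofNat 1, .negSucc 0, .ofNat 0,
  .negSucc 0, .ofNat 0, .ofNat 1, .negSucc 0, .negSucc 1, .negSucc 1, .negSucc 1, .ofNat 2, .negSucc 0,
  .ofNat 0, .ofNat 1, .ofNat 2, .ofNat 1, .ofNat 0, .ofNat 1, .ofNat 0, .ofNat 0, .ofNat 0, .ofNat 0,
  .negSucc 0, .ofNat 0, .ofNat 0, .negSucc 1, .ofNat 1, .ofNat 0, .ofNat 0, .ofNat 0, .ofNat 1, .ofNat 0,
  .ofNat 1, .ofNat 0, .ofNat 0, .negSucc 1, .ofNat 0, .negSucc 0, .negSucc 0, .negSucc 1, .ofNat 0, .ofNat 0,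
  .ofNat 0, .ofNat 0, .ofNat 0, .negSucc 0, .ofNat 0, .ofNat 1, .negSucc 1, .ofNat 1, .ofNat 0, .ofNat 0,
  .ofNat 0, .ofNat 0, .ofNat 0, .ofNat 0, .ofNat 0, .ofNat 1, .ofNat 0, .ofNat 0, .ofNat 1, .ofNat 1,
  .ofNat 1, .ofNat 0, .ofNat 1, .ofNat 0, .ofNat 0, .ofNat 2, .ofNat 0, .ofNat 0, .ofNat 2, .ofNat 0,
  .ofNat 0, .ofNat 0, .ofNat 0, .negSucc 1, .ofNat 0, .ofNat 0, .negSucc 0, .negSucc 0, .negSucc 0, .ofNat 0,
  .ofNat 2, .negSucc 3, .ofNat 0, .ofNat 0, .ofNat 0, .ofNat 1, .ofNat 1, .ofNat 0, .negSucc 0, .ofNat 0,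
  .ofNat 0, .ofNat 0, .ofNat 0, .ofNat 1, .negSucc 0, .ofNat 1, .ofNat 0, .negSucc 0, .negSucc 0, .ofNat 1,
  .ofNat 0, .ofNat 0, .ofNat 0, .ofNat 1, .negSucc 1, .negSucc 0, .ofNat 1, .ofNat 0, .ofNat 0, .ofNat 0,
  .ofNat 1, .ofNat 0, .ofNat 1, .negSucc 1, .ofNat 0, .ofNat 1, .ofNat 1, .ofNat 0, .negSucc 0, .negSucc 0,
  .negSucc 1, .ofNat 0, .ofNat 1, .negSucc 0, .negSucc 0, .ofNat 0, .ofNat 1, .ofNat 0, .ofNat 0, .ofNat 2,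
  .ofNat 0, .ofNat 0, .ofNat 0, .ofNat 0, .ofNat 0, .ofNat 1, .ofNat 0, .ofNat 1, .negSucc 0, .ofNat 0,
  .ofNat 0, .ofNat 0, .ofNat 0, .negSucc 0, .ofNat 0, .ofNat 0, .ofNat 0, .ofNat 0, .ofNat 0, .negSucc 0,
  .ofNat 1, .ofNat 0]

/-- the values at 70B -/
def col154 : List ℤ :=
  [.ofNat 1, .negSucc 0, .negSucc 0, .ofNat 2, .negSucc 0, .ofNat 1, .ofNat 0, .ofNat 0, .negSucc 1,
  .ofNat 0, .ofNat 2, .ofNat 0, .ofNat 0, .ofNat 2, .ofNat 0, .ofNat 0, .negSucc 0, .ofNat 0, .ofNat 0,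
  .ofNat 0, .ofNat 0, .ofNat 2, .ofNat 0, .negSucc 0, .ofNat 0, .ofNat 0, .negSucc 1, .ofNat 0, .ofNat 0,
  .ofNat 0, .ofNat 0, .ofNat 0, .ofNat 0, .ofNat 0, .ofNat 0, .ofNat 0, .ofNat 0, .ofNat 1, .ofNat 0,
  .ofNat 0, .ofNat 0, .ofNat 0, .negSucc 1, .ofNat 0, .ofNat 0, .ofNat 0, .ofNat 0, .ofNat 0, .ofNat 2,
  .negSucc 1, .ofNat 0, .ofNat 0, .negSucc 0, .ofNat 0, .ofNat 1, .ofNat 0, .ofNat 2, .negSucc 0, .ofNat 0,
  .ofNat 0, .ofNat 0, .ofNat 0, .ofNat 0, .ofNat 1, .ofNat 0, .ofNat 0, .ofNat 0, .ofNat 2, .ofNat 0,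
  .ofNat 0, .ofNat 0, .ofNat 0, .ofNat 0, .ofNat 0, .ofNat 0, .ofNat 0, .ofNat 0, .ofNat 0, .ofNat 0,
  .ofNat 0, .ofNat 0, .negSucc 0, .ofNat 0, .ofNat 0, .ofNat 0, .ofNat 0, .ofNat 0, .negSucc 0, .ofNat 0,
  .ofNat 0, .ofNat 0, .ofNat 0, .ofNat 1, .ofNat 0, .ofNat 0, .ofNat 0, .ofNat 0, .ofNat 0, .ofNat 1,
  .ofNat 0, .ofNat 0, .ofNat 0, .ofNat 0, .ofNat 0, .ofNat 0, .ofNat 0, .ofNat 0, .ofNat 0, .ofNat 0,
  .ofNat 0, .ofNat 0, .ofNat 0, .ofNat 0, .ofNat 0, .ofNat 0, .ofNat 0, .ofNat 0, .negSucc 0, .ofNat 1,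
  .ofNat 0, .ofNat 0, .ofNat 0, .ofNat 0, .ofNat 2, .ofNat 1, .ofNat 0, .ofNat 0, .ofNat 0, .ofNat 0,
  .ofNat 0, .ofNat 1, .negSucc 0, .ofNat 0, .ofNat 0, .ofNat 0, .ofNat 0, .ofNat 0, .ofNat 0, .ofNat 0,
  .ofNat 0, .ofNat 0, .negSucc 0, .ofNat 0, .ofNat 0, .ofNat 0, .ofNat 0, .ofNat 0, .ofNat 0, .ofNat 0,
  .ofNat 0, .ofNat 0, .ofNat 0, .ofNat 1, .ofNat 0, .ofNat 0, .ofNat 0, .negSucc 0, .ofNat 0, .ofNat 0,
  .ofNat 0, .ofNat 0, .ofNat 0, .ofNat 0, .negSucc 0, .negSucc 1, .negSucc 0, .negSucc 0, .negSucc 0,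
  .negSucc 0, .negSucc 0, .negSucc 0]

/-- the values at 71AB -/
def col155 : List ℤ :=
  [.ofNat 1, .ofNat 0, .ofNat 0, .negSucc 0, .ofNat 0, .ofNat 0, .ofNat 0, .ofNat 1, .ofNat 0, .ofNat 0,
  .ofNat 0, .negSucc 0, .ofNat 0, .ofNat 0, .ofNat 0, .negSucc 1, .ofNat 0, .ofNat 0, .ofNat 0, .ofNat 0,
  .ofNat 0, .ofNat 0, .ofNat 0, .ofNat 0, .negSucc 1, .ofNat 0, .ofNat 0, .ofNat 0, .ofNat 0, .ofNat 0,
  .ofNat 0, .ofNat 0, .ofNat 0, .ofNat 0, .ofNat 0, .negSucc 0, .ofNat 2, .ofNat 0, .negSucc 1, .ofNat 0,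
  .ofNat 0, .ofNat 1, .ofNat 0, .ofNat 0, .negSucc 1, .ofNat 0, .ofNat 0, .ofNat 0, .ofNat 0, .ofNat 0,
  .ofNat 0, .ofNat 0, .ofNat 0, .ofNat 0, .ofNat 0, .ofNat 0, .ofNat 0, .ofNat 0, .ofNat 0, .ofNat 0,
  .ofNat 0, .ofNat 0, .ofNat 0, .ofNat 0, .ofNat 0, .ofNat 0, .ofNat 0, .negSucc 1, .ofNat 0, .ofNat 0,
  .ofNat 0, .ofNat 0, .ofNat 0, .ofNat 1, .ofNat 0, .ofNat 0, .ofNat 0, .ofNat 0, .ofNat 0, .ofNat 0,
  .ofNat 0, .negSucc 0, .ofNat 2, .ofNat 0, .ofNat 2, .ofNat 0, .ofNat 0, .ofNat 0, .ofNat 0, .ofNat 0,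
  .ofNat 0, .ofNat 0, .ofNat 0, .ofNat 0, .ofNat 0, .ofNat 0, .ofNat 0, .ofNat 0, .ofNat 0, .negSucc 0,
  .negSucc 1, .ofNat 0, .ofNat 0, .ofNat 2, .ofNat 0, .ofNat 0, .ofNat 0, .ofNat 1, .ofNat 0, .negSucc 1,
  .ofNat 0, .ofNat 0, .ofNat 0, .ofNat 0, .ofNat 0, .ofNat 0, .ofNat 0, .ofNat 0, .ofNat 0, .ofNat 0,
  .ofNat 0, .negSucc 0, .ofNat 0, .ofNat 1, .ofNat 0, .ofNat 0, .ofNat 0, .ofNat 0, .ofNat 0, .ofNat 0,
  .ofNat 0, .ofNat 0, .ofNat 0, .ofNat 0, .ofNat 0, .ofNat 0, .ofNat 0, .ofNat 0, .ofNat 0, .ofNat 0,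
  .ofNat 0, .ofNat 0, .ofNat 0, .ofNat 0, .ofNat 0, .negSucc 0, .ofNat 0, .ofNat 1, .ofNat 0, .ofNat 0,
  .ofNat 0, .ofNat 0, .ofNat 0, .ofNat 0, .ofNat 0, .ofNat 0, .ofNat 0, .ofNat 0, .ofNat 0, .ofNat 0,
  .ofNat 0, .ofNat 0, .ofNat 0, .ofNat 0, .ofNat 0, .ofNat 0, .ofNat 0, .ofNat 0, .ofNat 0, .ofNat 0,
  .ofNat 0]

/-- the values at 78A -/
def col156 : List ℤ :=
  [.ofNat 1, .ofNat 0, .ofNat 0, .negSucc 0, .ofNat 1, .negSucc 0, .ofNat 0, .ofNat 2, .negSucc 0, .ofNat 0,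
  .negSucc 0, .ofNat 0, .ofNat 0, .ofNat 1, .negSucc 0, .ofNat 2, .ofNat 0, .ofNat 0, .ofNat 0, .ofNat 0,
  .ofNat 1, .ofNat 0, .ofNat 1, .negSucc 1, .ofNat 0, .negSucc 0, .ofNat 0, .ofNat 0, .ofNat 0, .ofNat 0,
  .ofNat 1, .ofNat 0, .ofNat 0, .ofNat 0, .ofNat 0, .ofNat 0, .ofNat 0, .ofNat 0, .ofNat 0, .negSucc 0,
  .ofNat 0, .ofNat 0, .ofNat 0, .ofNat 0, .ofNat 0, .ofNat 0, .ofNat 0, .ofNat 1, .ofNat 0, .ofNat 2,
  .negSucc 0, .negSucc 0, .negSucc 0, .ofNat 0, .ofNat 1, .ofNat 1, .ofNat 0, .ofNat 0, .ofNat 0, .negSucc 1,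
  .ofNat 0, .ofNat 0, .ofNat 0, .ofNat 0, .ofNat 1, .negSucc 0, .ofNat 0, .ofNat 0, .ofNat 2, .ofNat 0,
  .negSucc 0, .ofNat 0, .ofNat 0, .ofNat 0, .negSucc 0, .negSucc 0, .negSucc 1, .ofNat 1, .ofNat 0, .ofNat 1,
  .ofNat 0, .ofNat 0, .ofNat 0, .ofNat 0, .ofNat 0, .ofNat 0, .ofNat 1, .ofNat 0, .ofNat 0, .negSucc 0,
  .ofNat 0, .ofNat 0, .ofNat 0, .ofNat 0, .ofNat 1, .ofNat 1, .ofNat 0, .ofNat 0, .ofNat 0, .negSucc 0,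
  .ofNat 2, .ofNat 0, .ofNat 0, .negSucc 1, .ofNat 0, .ofNat 0, .ofNat 0, .ofNat 1, .ofNat 0, .ofNat 0,
  .ofNat 0, .ofNat 0, .ofNat 0, .ofNat 0, .ofNat 1, .ofNat 2, .ofNat 0, .negSucc 1, .ofNat 0, .ofNat 0,
  .ofNat 0, .ofNat 0, .negSucc 0, .ofNat 0, .ofNat 0, .ofNat 0, .ofNat 0, .ofNat 0, .ofNat 0, .ofNat 0,
  .ofNat 0, .ofNat 0, .ofNat 1, .negSucc 0, .ofNat 0, .ofNat 0, .ofNat 0, .ofNat 0, .negSucc 0, .ofNat 0,
  .ofNat 1, .ofNat 0, .ofNat 1, .ofNat 0, .ofNat 0, .ofNat 0, .ofNat 0, .ofNat 0, .ofNat 0, .ofNat 0,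
  .ofNat 0, .negSucc 0, .ofNat 0, .ofNat 0, .ofNat 0, .negSucc 0, .ofNat 1, .ofNat 0, .negSucc 0, .ofNat 0,
  .ofNat 0, .ofNat 1, .ofNat 0, .ofNat 0, .ofNat 0, .ofNat 0, .ofNat 0, .ofNat 0, .ofNat 0, .ofNat 0,
  .ofNat 0]

/-- the values at 78BC -/
def col157 : List ℤ :=
  [.ofNat 1, .negSucc 0, .ofNat 0, .ofNat 0, .ofNat 1, .ofNat 0, .ofNat 1, .ofNat 0, .ofNat 0, .negSucc 0,
  .negSucc 1, .ofNat 0, .ofNat 0, .negSucc 0, .ofNat 0, .ofNat 0, .ofNat 0, .ofNat 0, .ofNat 1, .ofNat 0,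
  .ofNat 0, .ofNat 0, .ofNat 2, .ofNat 0, .ofNat 0, .ofNat 0, .ofNat 0, .ofNat 0, .negSucc 0, .ofNat 0,
  .ofNat 0, .ofNat 0, .ofNat 0, .negSucc 0, .ofNat 0, .ofNat 0, .ofNat 0, .ofNat 0, .negSucc 0, .negSucc 0,
  .ofNat 0, .ofNat 0, .negSucc 0, .ofNat 0, .ofNat 0, .ofNat 0, .ofNat 0, .ofNat 0, .ofNat 0, .ofNat 0,
  .ofNat 0, .ofNat 0, .ofNat 0, .ofNat 0, .ofNat 0, .ofNat 1, .ofNat 0, .ofNat 0, .ofNat 0, .ofNat 0,
  .ofNat 0, .ofNat 0, .ofNat 0, .ofNat 0, .ofNat 0, .ofNat 0, .ofNat 0, .ofNat 2, .negSucc 1, .ofNat 0,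
  .ofNat 1, .ofNat 0, .ofNat 0, .ofNat 0, .ofNat 1, .ofNat 1, .ofNat 0, .ofNat 0, .ofNat 0, .negSucc 0,
  .ofNat 1, .ofNat 0, .ofNat 0, .ofNat 0, .ofNat 0, .ofNat 0, .ofNat 0, .ofNat 0, .ofNat 0, .ofNat 0,
  .ofNat 0, .ofNat 0, .ofNat 0, .ofNat 0, .ofNat 0, .ofNat 0, .negSucc 0, .ofNat 0, .ofNat 0, .ofNat 0,
  .ofNat 0, .ofNat 0, .ofNat 2, .ofNat 0, .ofNat 0, .ofNat 0, .ofNat 0, .ofNat 0, .negSucc 0, .ofNat 0,
  .ofNat 0, .ofNat 0, .ofNat 0, .ofNat 0, .ofNat 0, .ofNat 0, .ofNat 0, .ofNat 0, .ofNat 0, .ofNat 0,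
  .negSucc 0, .ofNat 0, .ofNat 0, .ofNat 0, .ofNat 0, .ofNat 0, .ofNat 0, .ofNat 0, .ofNat 0, .ofNat 0,
  .ofNat 0, .ofNat 0, .ofNat 0, .ofNat 0, .ofNat 0, .ofNat 0, .ofNat 0, .ofNat 1, .ofNat 0, .ofNat 0,
  .ofNat 0, .ofNat 0, .ofNat 0, .ofNat 0, .ofNat 0, .ofNat 0, .ofNat 0, .ofNat 0, .ofNat 0, .ofNat 0,
  .ofNat 0, .ofNat 0, .ofNat 1, .ofNat 0, .ofNat 0, .ofNat 0, .ofNat 0, .ofNat 0, .ofNat 0, .ofNat 0,
  .ofNat 0, .negSucc 0, .ofNat 0, .ofNat 0, .ofNat 0, .ofNat 0, .ofNat 0, .ofNat 0, .ofNat 0, .ofNat 0,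
  .ofNat 0]

/-- the values at 84A -/
def col158 : List ℤ :=
  [.ofNat 1, .negSucc 0, .ofNat 0, .ofNat 1, .ofNat 0, .ofNat 0, .ofNat 0, .ofNat 0, .negSucc 0, .ofNat 0,
  .ofNat 0, .ofNat 0, .ofNat 1, .ofNat 1, .ofNat 0, .ofNat 0, .ofNat 1, .negSucc 0, .ofNat 0, .ofNat 0,
  .ofNat 0, .negSucc 0, .ofNat 1, .negSucc 0, .ofNat 0, .negSucc 0, .ofNat 1, .ofNat 0, .ofNat 0, .negSucc 1,
  .ofNat 1, .negSucc 0, .ofNat 0, .ofNat 1, .ofNat 0, .ofNat 0, .ofNat 0, .ofNat 0, .ofNat 0, .ofNat 0,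
  .ofNat 2, .ofNat 1, .ofNat 0, .negSucc 0, .ofNat 2, .ofNat 0, .ofNat 0, .ofNat 0, .ofNat 0, .ofNat 1,
  .ofNat 2, .negSucc 1, .negSucc 0, .ofNat 0, .negSucc 0, .ofNat 0, .negSucc 0, .ofNat 0, .ofNat 1, .ofNat 2,
  .ofNat 0, .ofNat 2, .ofNat 1, .ofNat 0, .negSucc 0, .ofNat 1, .ofNat 0, .ofNat 0, .ofNat 0, .ofNat 0,
  .ofNat 0, .ofNat 0, .ofNat 0, .ofNat 1, .ofNat 0, .negSucc 0, .ofNat 0, .ofNat 0, .ofNat 0, .ofNat 0,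
  .ofNat 0, .ofNat 1, .ofNat 0, .ofNat 1, .ofNat 0, .ofNat 0, .ofNat 0, .negSucc 0, .ofNat 1, .ofNat 0,
  .ofNat 0, .ofNat 1, .ofNat 0, .ofNat 0, .ofNat 0, .ofNat 0, .ofNat 1, .ofNat 0, .ofNat 0, .negSucc 1,
  .ofNat 0, .ofNat 0, .ofNat 0, .ofNat 0, .ofNat 1, .ofNat 0, .ofNat 0, .negSucc 0, .ofNat 0, .ofNat 0,
  .ofNat 0, .ofNat 0, .ofNat 1, .ofNat 0, .ofNat 1, .negSucc 1, .ofNat 0, .ofNat 0, .ofNat 0, .ofNat 0,
  .ofNat 0, .ofNat 0, .negSucc 0, .ofNat 1, .negSucc 0, .ofNat 0, .ofNat 0, .ofNat 0, .ofNat 0, .ofNat 0,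
  .ofNat 0, .ofNat 0, .negSucc 0, .ofNat 0, .ofNat 0, .ofNat 0, .ofNat 0, .ofNat 0, .ofNat 1, .ofNat 0,
  .ofNat 0, .ofNat 1, .negSucc 0, .ofNat 1, .ofNat 0, .ofNat 1, .ofNat 0, .ofNat 0, .ofNat 0, .ofNat 0,
  .ofNat 0, .ofNat 0, .ofNat 0, .ofNat 0, .negSucc 0, .ofNat 0, .negSucc 0, .ofNat 0, .ofNat 1, .ofNat 0,
  .negSucc 0, .ofNat 0, .ofNat 1, .ofNat 1, .ofNat 1, .ofNat 2, .ofNat 1, .ofNat 2, .ofNat 0, .ofNat 1,
  .ofNat 1]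

/-- the values at 84B -/
def col159 : List ℤ :=
  [.ofNat 1, .negSucc 1, .ofNat 1, .ofNat 1, .ofNat 2, .ofNat 1, .negSucc 1, .negSucc 0, .negSucc 1,
  .ofNat 0, .ofNat 2, .ofNat 0, .ofNat 0, .negSucc 0, .ofNat 0, .ofNat 0, .ofNat 3, .ofNat 0, .ofNat 0,
  .ofNat 1, .ofNat 0, .negSucc 0, .ofNat 0, .negSucc 0, .ofNat 0, .ofNat 1, .ofNat 0, .negSucc 0, .ofNat 0,
  .ofNat 0, .negSucc 2, .negSucc 0, .ofNat 1, .ofNat 0, .ofNat 0, .ofNat 0, .ofNat 0, .ofNat 0, .ofNat 0,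
  .ofNat 0, .ofNat 0, .ofNat 0, .ofNat 0, .ofNat 0, .ofNat 0, .ofNat 0, .ofNat 2, .ofNat 2, .ofNat 0,
  .ofNat 0, .ofNat 0, .ofNat 0, .ofNat 0, .ofNat 0, .ofNat 0, .ofNat 0, .negSucc 1, .negSucc 0, .negSucc 0,
  .ofNat 0, .ofNat 0, .negSucc 1, .ofNat 0, .ofNat 0, .ofNat 0, .negSucc 0, .ofNat 0, .ofNat 0, .ofNat 0,
  .ofNat 0, .ofNat 0, .ofNat 0, .ofNat 0, .ofNat 0, .negSucc 0, .ofNat 0, .ofNat 0, .ofNat 0, .ofNat 0,
  .ofNat 0, .ofNat 0, .ofNat 0, .ofNat 0, .negSucc 0, .ofNat 0, .ofNat 0, .ofNat 0, .ofNat 1, .ofNat 0,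
  .ofNat 0, .negSucc 0, .ofNat 0, .ofNat 0, .ofNat 0, .ofNat 0, .ofNat 0, .ofNat 0, .ofNat 0, .ofNat 0,
  .ofNat 0, .ofNat 0, .ofNat 0, .ofNat 0, .ofNat 0, .negSucc 0, .ofNat 0, .ofNat 0, .ofNat 0, .ofNat 0,
  .ofNat 0, .ofNat 0, .ofNat 0, .ofNat 0, .ofNat 0, .ofNat 0, .ofNat 0, .ofNat 0, .ofNat 0, .ofNat 0,
  .ofNat 0, .ofNat 0, .ofNat 0, .ofNat 0, .ofNat 0, .ofNat 0, .ofNat 0, .ofNat 1, .ofNat 0, .ofNat 0,
  .ofNat 0, .ofNat 0, .ofNat 0, .ofNat 0, .ofNat 0, .ofNat 0, .ofNat 0, .ofNat 0, .ofNat 0, .ofNat 0,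
  .ofNat 0, .ofNat 0, .negSucc 0, .ofNat 0, .ofNat 0, .ofNat 0, .ofNat 0, .ofNat 0, .ofNat 1, .ofNat 0,
  .ofNat 0, .ofNat 0, .ofNat 0, .ofNat 1, .ofNat 0, .ofNat 0, .ofNat 0, .ofNat 0, .ofNat 0, .ofNat 0,
  .ofNat 0, .ofNat 0, .ofNat 0, .negSucc 0, .ofNat 1, .ofNat 3, .ofNat 1, .ofNat 1, .ofNat 0, .ofNat 1,
  .ofNat 1, .ofNat 1]

/-- the values at 84C -/
def col160 : List ℤ :=
  [.ofNat 1, .negSucc 0, .ofNat 1, .negSucc 0, .ofNat 1, .ofNat 0, .negSucc 0, .ofNat 1, .ofNat 0, .ofNat 1,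
  .ofNat 1, .negSucc 0, .ofNat 0, .ofNat 0, .negSucc 0, .ofNat 0, .negSucc 0, .ofNat 0, .negSucc 0, .ofNat 1,
  .ofNat 1, .ofNat 0, .ofNat 0, .ofNat 1, .ofNat 2, .ofNat 0, .negSucc 0, .ofNat 1, .ofNat 1, .ofNat 0,
  .ofNat 0, .negSucc 0, .negSucc 0, .negSucc 0, .ofNat 1, .ofNat 0, .ofNat 0, .negSucc 0, .ofNat 0,
  .negSucc 0, .ofNat 0, .negSucc 0, .ofNat 0, .ofNat 0, .ofNat 2, .ofNat 0, .ofNat 0, .ofNat 0, .ofNat 2,
  .ofNat 1, .ofNat 0, .ofNat 0, .ofNat 1, .ofNat 0, .ofNat 2, .negSucc 0, .ofNat 0, .ofNat 0, .ofNat 0,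
  .ofNat 0, .ofNat 0, .ofNat 2, .ofNat 0, .negSucc 1, .ofNat 2, .ofNat 1, .ofNat 1, .ofNat 0, .ofNat 0,
  .ofNat 0, .ofNat 0, .ofNat 0, .ofNat 0, .negSucc 0, .ofNat 0, .ofNat 1, .ofNat 0, .negSucc 0, .ofNat 1,
  .ofNat 0, .ofNat 0, .ofNat 0, .ofNat 0, .ofNat 1, .ofNat 2, .negSucc 1, .ofNat 0, .ofNat 0, .negSucc 0,
  .ofNat 0, .ofNat 0, .ofNat 0, .ofNat 0, .ofNat 0, .ofNat 0, .negSucc 0, .ofNat 0, .negSucc 0, .negSucc 0,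
  .ofNat 0, .ofNat 0, .negSucc 0, .ofNat 0, .ofNat 0, .ofNat 0, .ofNat 1, .ofNat 0, .ofNat 0, .ofNat 0,
  .ofNat 0, .ofNat 0, .ofNat 0, .ofNat 0, .ofNat 1, .ofNat 0, .negSucc 0, .negSucc 0, .ofNat 0, .ofNat 0,
  .ofNat 0, .ofNat 0, .ofNat 0, .ofNat 0, .ofNat 0, .ofNat 0, .negSucc 0, .ofNat 0, .ofNat 0, .ofNat 0,
  .negSucc 0, .ofNat 0, .negSucc 0, .negSucc 0, .ofNat 1, .ofNat 1, .ofNat 1, .ofNat 0, .ofNat 1, .ofNat 0,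
  .ofNat 1, .ofNat 0, .ofNat 0, .ofNat 0, .ofNat 0, .ofNat 0, .ofNat 0, .ofNat 0, .ofNat 0, .negSucc 0,
  .ofNat 0, .ofNat 0, .ofNat 0, .ofNat 0, .ofNat 0, .ofNat 0, .ofNat 0, .ofNat 0, .negSucc 0, .ofNat 1,
  .ofNat 0, .negSucc 0, .ofNat 0, .ofNat 0, .ofNat 0, .ofNat 0, .negSucc 0, .ofNat 0, .ofNat 0, .ofNat 0,
  .ofNat 1, .ofNat 0]

/-- the values at 87AB -/
def col161 : List ℤ :=
  [.ofNat 1, .negSucc 0, .ofNat 1, .ofNat 0, .ofNat 0, .ofNat 0, .ofNat 0, .negSucc 0, .ofNat 1, .ofNat 0,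
  .ofNat 0, .ofNat 0, .ofNat 0, .ofNat 0, .ofNat 1, .negSucc 1, .ofNat 0, .negSucc 0, .ofNat 0, .negSucc 0,
  .ofNat 0, .ofNat 0, .ofNat 0, .ofNat 0, .ofNat 0, .negSucc 0, .ofNat 1, .ofNat 0, .ofNat 0, .ofNat 0,
  .ofNat 0, .ofNat 0, .ofNat 0, .ofNat 0, .ofNat 0, .negSucc 1, .ofNat 0, .ofNat 1, .ofNat 0, .ofNat 0,
  .ofNat 0, .ofNat 0, .ofNat 0, .ofNat 1, .ofNat 0, .ofNat 2, .ofNat 0, .ofNat 0, .ofNat 2, .ofNat 0,
  .ofNat 0, .ofNat 0, .ofNat 0, .negSucc 0, .ofNat 0, .negSucc 0, .ofNat 0, .ofNat 0, .ofNat 0, .negSucc 0,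
  .ofNat 0, .ofNat 0, .ofNat 0, .ofNat 0, .ofNat 1, .ofNat 0, .negSucc 0, .ofNat 0, .ofNat 0, .negSucc 1,
  .ofNat 0, .ofNat 1, .ofNat 0, .ofNat 0, .ofNat 0, .ofNat 0, .ofNat 0, .ofNat 0, .ofNat 0, .ofNat 0,
  .ofNat 0, .ofNat 0, .negSucc 1, .ofNat 0, .ofNat 0, .ofNat 0, .ofNat 0, .ofNat 0, .ofNat 1, .ofNat 0,
  .ofNat 0, .ofNat 0, .ofNat 0, .ofNat 0, .ofNat 0, .negSucc 0, .ofNat 1, .ofNat 0, .ofNat 0, .ofNat 0,
  .ofNat 0, .ofNat 0, .ofNat 0, .ofNat 0, .ofNat 0, .ofNat 0, .ofNat 0, .negSucc 0, .ofNat 0, .ofNat 0,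
  .ofNat 0, .ofNat 0, .negSucc 0, .ofNat 0, .ofNat 0, .ofNat 1, .ofNat 0, .ofNat 0, .ofNat 0, .ofNat 0,
  .ofNat 0, .ofNat 0, .ofNat 0, .ofNat 0, .ofNat 0, .ofNat 0, .negSucc 0, .ofNat 0, .ofNat 0, .ofNat 0,
  .ofNat 0, .ofNat 0, .ofNat 1, .ofNat 0, .ofNat 0, .ofNat 0, .ofNat 0, .ofNat 0, .negSucc 0, .ofNat 0,
  .ofNat 0, .ofNat 0, .ofNat 0, .ofNat 1, .ofNat 0, .ofNat 0, .ofNat 0, .ofNat 0, .ofNat 0, .ofNat 0,
  .ofNat 0, .negSucc 0, .ofNat 0, .negSucc 0, .ofNat 0, .ofNat 0, .ofNat 0, .ofNat 0, .ofNat 0, .ofNat 0,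
  .ofNat 0, .ofNat 0, .ofNat 0, .ofNat 0, .ofNat 0, .ofNat 0, .ofNat 1, .ofNat 0, .ofNat 0, .ofNat 0,
  .negSucc 0]

/-- the values at 88AB -/
def col162 : List ℤ :=
  [.ofNat 1, .ofNat 0, .negSucc 0, .negSucc 0, .ofNat 0, .ofNat 1, .ofNat 1, .ofNat 0, .ofNat 1, .negSucc 0,
  .negSucc 0, .ofNat 0, .negSucc 0, .negSucc 0, .ofNat 0, .ofNat 0, .ofNat 0, .ofNat 1, .ofNat 0, .ofNat 1,
  .negSucc 0, .ofNat 0, .ofNat 0, .ofNat 0, .ofNat 0, .ofNat 1, .negSucc 0, .ofNat 0, .ofNat 1, .ofNat 0,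
  .negSucc 0, .negSucc 0, .ofNat 1, .ofNat 0, .ofNat 0, .ofNat 0, .ofNat 0, .ofNat 0, .ofNat 2, .ofNat 0,
  .ofNat 0, .ofNat 0, .ofNat 0, .ofNat 0, .ofNat 0, .ofNat 0, .ofNat 0, .ofNat 1, .ofNat 0, .ofNat 0,
  .negSucc 0, .negSucc 0, .ofNat 0, .ofNat 0, .ofNat 1, .negSucc 0, .ofNat 1, .ofNat 0, .ofNat 1, .ofNat 2,
  .ofNat 0, .ofNat 0, .ofNat 0, .ofNat 1, .ofNat 1, .ofNat 0, .ofNat 0, .ofNat 0, .ofNat 0, .ofNat 0,
  .negSucc 0, .ofNat 0, .ofNat 0, .ofNat 0, .ofNat 0, .negSucc 0, .ofNat 0, .negSucc 0, .ofNat 0, .ofNat 0,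
  .ofNat 0, .ofNat 0, .ofNat 0, .ofNat 0, .ofNat 0, .ofNat 0, .ofNat 0, .ofNat 0, .ofNat 1, .ofNat 0,
  .ofNat 0, .ofNat 1, .ofNat 0, .ofNat 0, .negSucc 0, .ofNat 0, .ofNat 1, .ofNat 0, .ofNat 0, .ofNat 0,
  .ofNat 0, .ofNat 0, .ofNat 0, .ofNat 0, .ofNat 0, .ofNat 0, .ofNat 0, .ofNat 0, .ofNat 0, .ofNat 0,
  .ofNat 0, .ofNat 0, .ofNat 0, .negSucc 0, .ofNat 0, .ofNat 0, .ofNat 0, .ofNat 0, .ofNat 0, .ofNat 0,
  .ofNat 0, .ofNat 0, .negSucc 0, .ofNat 0, .ofNat 0, .ofNat 0, .ofNat 0, .ofNat 0, .ofNat 0, .ofNat 0,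
  .ofNat 0, .ofNat 0, .ofNat 0, .ofNat 0, .ofNat 0, .ofNat 0, .ofNat 0, .ofNat 0, .ofNat 0, .ofNat 0,
  .ofNat 0, .ofNat 1, .ofNat 0, .ofNat 0, .ofNat 0, .ofNat 0, .ofNat 0, .ofNat 0, .ofNat 1, .ofNat 0,
  .ofNat 0, .ofNat 0, .ofNat 0, .ofNat 0, .ofNat 0, .ofNat 0, .ofNat 0, .ofNat 0, .ofNat 0, .negSucc 0,
  .ofNat 0, .ofNat 0, .ofNat 0, .ofNat 0, .ofNat 0, .ofNat 0, .ofNat 0, .ofNat 0, .ofNat 0, .ofNat 0,
  .ofNat 0]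

/-- the values at 92AB -/
def col163 : List ℤ :=
  [.ofNat 1, .negSucc 0, .ofNat 1, .ofNat 0, .ofNat 0, .ofNat 0, .negSucc 0, .ofNat 0, .ofNat 1, .ofNat 0,
  .ofNat 0, .ofNat 0, .negSucc 0, .ofNat 0, .ofNat 1, .ofNat 1, .negSucc 0, .ofNat 0, .ofNat 0, .negSucc 0,
  .ofNat 0, .ofNat 0, .ofNat 0, .ofNat 0, .ofNat 0, .ofNat 0, .ofNat 0, .ofNat 0, .ofNat 1, .ofNat 0,
  .ofNat 0, .ofNat 0, .negSucc 0, .ofNat 0, .ofNat 0, .ofNat 0, .negSucc 1, .ofNat 0, .ofNat 0, .ofNat 1,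
  .ofNat 0, .ofNat 0, .ofNat 1, .ofNat 0, .ofNat 0, .negSucc 0, .ofNat 1, .negSucc 0, .negSucc 1, .ofNat 0,
  .ofNat 0, .ofNat 0, .ofNat 0, .negSucc 0, .ofNat 0, .ofNat 0, .ofNat 0, .ofNat 0, .ofNat 0, .ofNat 0,
  .ofNat 0, .ofNat 0, .negSucc 0, .ofNat 0, .ofNat 0, .ofNat 0, .ofNat 0, .ofNat 0, .negSucc 0, .ofNat 1,
  .ofNat 0, .ofNat 0, .ofNat 0, .ofNat 0, .ofNat 1, .ofNat 0, .ofNat 0, .ofNat 1, .ofNat 1, .ofNat 1,
  .ofNat 0, .negSucc 0, .ofNat 0, .ofNat 0, .ofNat 0, .ofNat 0, .ofNat 0, .ofNat 0, .ofNat 0, .ofNat 0,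
  .negSucc 0, .ofNat 0, .ofNat 0, .ofNat 0, .ofNat 0, .ofNat 0, .ofNat 0, .ofNat 0, .ofNat 0, .ofNat 0,
  .ofNat 0, .ofNat 0, .ofNat 0, .ofNat 0, .ofNat 0, .ofNat 0, .ofNat 0, .ofNat 0, .ofNat 0, .ofNat 0,
  .ofNat 1, .ofNat 0, .ofNat 0, .ofNat 0, .ofNat 0, .ofNat 0, .ofNat 1, .ofNat 0, .ofNat 0, .ofNat 0,
  .ofNat 0, .ofNat 0, .negSucc 0, .ofNat 1, .ofNat 0, .ofNat 0, .ofNat 0, .ofNat 0, .ofNat 1, .ofNat 0,
  .ofNat 0, .ofNat 0, .negSucc 0, .negSucc 0, .ofNat 0, .ofNat 0, .ofNat 0, .ofNat 0, .negSucc 0, .negSucc 0,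
  .ofNat 0, .ofNat 0, .ofNat 0, .ofNat 0, .ofNat 0, .ofNat 0, .ofNat 1, .ofNat 0, .ofNat 1, .ofNat 0,
  .ofNat 0, .ofNat 0, .ofNat 1, .ofNat 1, .negSucc 0, .ofNat 0, .ofNat 0, .negSucc 0, .ofNat 0, .ofNat 0,
  .ofNat 0, .ofNat 0, .ofNat 0, .ofNat 1, .ofNat 0, .ofNat 0, .negSucc 0, .ofNat 0, .ofNat 0, .ofNat 0,
  .ofNat 0]

/-- the values at 93AB -/
def col164 : List ℤ :=
  [.ofNat 1, .negSucc 0, .ofNat 0, .ofNat 0, .ofNat 0, .ofNat 1, .ofNat 1, .negSucc 0, .ofNat 0, .ofNat 0,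
  .negSucc 0, .ofNat 0, .negSucc 0, .ofNat 0, .ofNat 0, .negSucc 1, .ofNat 0, .ofNat 0, .ofNat 1, .ofNat 0,
  .ofNat 1, .ofNat 0, .ofNat 0, .ofNat 0, .negSucc 0, .ofNat 0, .ofNat 0, .negSucc 0, .ofNat 0, .ofNat 0,
  .ofNat 0, .ofNat 0, .negSucc 0, .ofNat 1, .ofNat 0, .ofNat 0, .ofNat 2, .negSucc 0, .ofNat 0, .ofNat 0,
  .ofNat 0, .ofNat 0, .ofNat 0, .ofNat 0, .ofNat 0, .ofNat 2, .ofNat 0, .ofNat 0, .ofNat 0, .ofNat 0,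
  .ofNat 0, .ofNat 0, .ofNat 0, .ofNat 1, .ofNat 0, .ofNat 0, .ofNat 0, .ofNat 1, .ofNat 0, .ofNat 0,
  .ofNat 1, .ofNat 0, .ofNat 0, .ofNat 0, .ofNat 0, .ofNat 0, .ofNat 0, .ofNat 0, .ofNat 0, .ofNat 0,
  .ofNat 0, .ofNat 0, .ofNat 0, .ofNat 0, .ofNat 0, .ofNat 0, .ofNat 0, .ofNat 0, .ofNat 0, .ofNat 1,
  .ofNat 0, .ofNat 0, .ofNat 0, .ofNat 0, .negSucc 0, .ofNat 1, .ofNat 0, .ofNat 0, .negSucc 0, .ofNat 0,
  .ofNat 0, .negSucc 0, .ofNat 0, .ofNat 0, .ofNat 0, .ofNat 0, .ofNat 0, .negSucc 0, .negSucc 0, .ofNat 1,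
  .ofNat 2, .ofNat 0, .negSucc 0, .ofNat 0, .ofNat 0, .ofNat 0, .ofNat 0, .ofNat 0, .ofNat 0, .ofNat 0,
  .ofNat 1, .ofNat 0, .ofNat 1, .ofNat 0, .ofNat 0, .ofNat 0, .ofNat 0, .ofNat 0, .ofNat 1, .ofNat 0,
  .ofNat 1, .ofNat 0, .ofNat 0, .ofNat 0, .ofNat 0, .ofNat 0, .ofNat 0, .ofNat 0, .negSucc 0, .ofNat 0,
  .ofNat 0, .negSucc 0, .ofNat 0, .ofNat 0, .ofNat 1, .ofNat 0, .ofNat 0, .negSucc 0, .ofNat 0, .ofNat 0,
  .ofNat 0, .ofNat 0, .ofNat 0, .ofNat 0, .ofNat 0, .ofNat 1, .ofNat 0, .ofNat 0, .ofNat 0, .ofNat 0,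
  .ofNat 0, .ofNat 1, .ofNat 0, .ofNat 0, .ofNat 0, .negSucc 0, .ofNat 0, .ofNat 0, .ofNat 0, .ofNat 1,
  .ofNat 0, .ofNat 0, .ofNat 0, .ofNat 0, .ofNat 0, .ofNat 0, .negSucc 0, .ofNat 0, .ofNat 0, .ofNat 0,
  .ofNat 1]

/-- the values at 94AB -/
def col165 : List ℤ :=
  [.ofNat 1, .ofNat 0, .negSucc 0, .ofNat 0, .negSucc 0, .ofNat 1, .ofNat 0, .ofNat 0, .ofNat 1, .ofNat 0,
  .ofNat 0, .ofNat 0, .ofNat 0, .ofNat 0, .negSucc 0, .negSucc 1, .ofNat 0, .ofNat 1, .negSucc 0, .ofNat 0,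
  .ofNat 0, .ofNat 0, .ofNat 0, .ofNat 0, .ofNat 2, .ofNat 0, .ofNat 0, .ofNat 0, .ofNat 0, .ofNat 0,
  .ofNat 0, .ofNat 0, .ofNat 1, .ofNat 0, .ofNat 0, .ofNat 0, .negSucc 1, .ofNat 0, .negSucc 1, .ofNat 0,
  .ofNat 0, .ofNat 0, .ofNat 0, .ofNat 0, .negSucc 0, .ofNat 0, .ofNat 0, .ofNat 0, .ofNat 2, .ofNat 0,
  .ofNat 0, .ofNat 0, .ofNat 0, .ofNat 0, .negSucc 0, .ofNat 0, .negSucc 0, .ofNat 0, .ofNat 0, .negSucc 1,
  .ofNat 0, .ofNat 1, .ofNat 0, .ofNat 0, .ofNat 0, .ofNat 0, .ofNat 0, .ofNat 0, .ofNat 0, .ofNat 2,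
  .ofNat 0, .ofNat 0, .ofNat 0, .ofNat 0, .ofNat 0, .ofNat 0, .ofNat 1, .ofNat 0, .ofNat 0, .ofNat 0,
  .ofNat 0, .ofNat 0, .ofNat 0, .ofNat 0, .negSucc 1, .ofNat 0, .ofNat 0, .ofNat 1, .ofNat 0, .ofNat 0,
  .ofNat 0, .ofNat 0, .ofNat 0, .ofNat 0, .ofNat 0, .ofNat 1, .ofNat 0, .ofNat 0, .ofNat 0, .negSucc 0,
  .ofNat 2, .ofNat 0, .ofNat 0, .ofNat 0, .ofNat 0, .ofNat 0, .ofNat 0, .ofNat 0, .ofNat 0, .ofNat 0,
  .negSucc 0, .ofNat 0, .negSucc 0, .ofNat 1, .ofNat 0, .ofNat 0, .ofNat 0, .ofNat 0, .ofNat 0, .ofNat 0,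
  .ofNat 0, .ofNat 0, .negSucc 0, .ofNat 0, .ofNat 0, .ofNat 0, .ofNat 0, .ofNat 1, .ofNat 0, .ofNat 1,
  .ofNat 0, .ofNat 0, .negSucc 0, .ofNat 0, .ofNat 0, .negSucc 0, .ofNat 0, .ofNat 0, .ofNat 0, .ofNat 1,
  .ofNat 0, .ofNat 0, .ofNat 0, .ofNat 0, .ofNat 0, .negSucc 0, .ofNat 1, .ofNat 0, .ofNat 0, .ofNat 0,
  .ofNat 0, .ofNat 1, .ofNat 0, .ofNat 0, .ofNat 0, .negSucc 0, .ofNat 0, .ofNat 0, .ofNat 0, .ofNat 0,
  .ofNat 0, .ofNat 0, .ofNat 0, .ofNat 0, .ofNat 0, .ofNat 0, .ofNat 0, .ofNat 0, .ofNat 0, .ofNat 0,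
  .ofNat 0]

/-- the values at 95AB -/
def col166 : List ℤ :=
  [.ofNat 1, .ofNat 0, .negSucc 0, .ofNat 0, .negSucc 0, .ofNat 1, .ofNat 0, .ofNat 0, .ofNat 0, .ofNat 1,
  .ofNat 0, .ofNat 1, .negSucc 0, .ofNat 0, .negSucc 0, .ofNat 0, .negSucc 0, .ofNat 1, .ofNat 0, .ofNat 0,
  .ofNat 0, .ofNat 0, .ofNat 0, .ofNat 0, .negSucc 1, .ofNat 1, .ofNat 0, .negSucc 0, .ofNat 1, .ofNat 0,
  .ofNat 0, .ofNat 0, .ofNat 0, .ofNat 0, .ofNat 0, .ofNat 2, .ofNat 0, .ofNat 0, .ofNat 0, .negSucc 0,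
  .ofNat 0, .negSucc 0, .ofNat 0, .ofNat 0, .ofNat 0, .ofNat 0, .ofNat 0, .ofNat 0, .ofNat 0, .ofNat 0,
  .ofNat 0, .ofNat 0, .ofNat 1, .ofNat 0, .ofNat 0, .ofNat 1, .negSucc 0, .ofNat 0, .ofNat 0, .ofNat 0,
  .ofNat 0, .ofNat 0, .ofNat 0, .negSucc 0, .negSucc 0, .ofNat 1, .ofNat 0, .ofNat 0, .ofNat 0, .ofNat 0,
  .ofNat 0, .ofNat 0, .negSucc 0, .ofNat 1, .ofNat 0, .ofNat 0, .ofNat 0, .ofNat 0, .ofNat 0, .ofNat 0,
  .ofNat 0, .ofNat 0, .negSucc 1, .ofNat 0, .ofNat 2, .ofNat 0, .ofNat 0, .ofNat 0, .ofNat 0, .ofNat 0,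
  .ofNat 0, .ofNat 0, .ofNat 0, .ofNat 0, .ofNat 1, .ofNat 0, .ofNat 0, .ofNat 1, .ofNat 0, .ofNat 0,
  .ofNat 0, .ofNat 1, .ofNat 0, .ofNat 0, .ofNat 0, .ofNat 0, .negSucc 0, .negSucc 0, .ofNat 0, .ofNat 0,
  .ofNat 0, .ofNat 0, .negSucc 0, .ofNat 0, .ofNat 0, .ofNat 0, .ofNat 0, .ofNat 0, .ofNat 0, .ofNat 0,
  .ofNat 0, .ofNat 0, .ofNat 0, .ofNat 0, .ofNat 0, .ofNat 0, .ofNat 0, .ofNat 0, .ofNat 0, .ofNat 1,
  .ofNat 0, .ofNat 0, .ofNat 1, .ofNat 0, .ofNat 0, .ofNat 1, .ofNat 0, .ofNat 0, .ofNat 0, .negSucc 0,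
  .ofNat 0, .ofNat 0, .ofNat 0, .ofNat 0, .ofNat 0, .ofNat 0, .negSucc 0, .ofNat 0, .negSucc 0, .ofNat 0,
  .ofNat 0, .negSucc 0, .ofNat 0, .ofNat 0, .negSucc 0, .ofNat 0, .ofNat 0, .ofNat 0, .ofNat 0, .ofNat 0,
  .ofNat 0, .ofNat 0, .ofNat 1, .ofNat 0, .ofNat 1, .ofNat 0, .ofNat 0, .ofNat 0, .ofNat 0, .ofNat 0,
  .negSucc 0]

/-- the values at 104AB -/
def col167 : List ℤ :=
  [.ofNat 1, .negSucc 0, .ofNat 0, .ofNat 0, .ofNat 0, .ofNat 1, .ofNat 0, .ofNat 0, .ofNat 1, .negSucc 0,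
  .negSucc 0, .negSucc 0, .negSucc 0, .ofNat 0, .ofNat 0, .ofNat 2, .ofNat 0, .ofNat 1, .ofNat 1, .negSucc 0,
  .ofNat 0, .ofNat 0, .ofNat 1, .ofNat 0, .ofNat 0, .negSucc 0, .ofNat 0, .ofNat 1, .ofNat 0, .ofNat 0,
  .negSucc 0, .ofNat 0, .ofNat 0, .ofNat 0, .ofNat 0, .ofNat 0, .ofNat 0, .ofNat 0, .ofNat 0, .ofNat 0,
  .ofNat 0, .ofNat 0, .ofNat 0, .negSucc 0, .ofNat 0, .negSucc 1, .ofNat 0, .negSucc 0, .ofNat 0, .ofNat 0,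
  .ofNat 1, .ofNat 1, .ofNat 0, .ofNat 0, .ofNat 0, .ofNat 0, .ofNat 0, .ofNat 0, .negSucc 0, .negSucc 1,
  .ofNat 0, .ofNat 0, .ofNat 0, .ofNat 1, .ofNat 0, .ofNat 0, .ofNat 0, .ofNat 0, .ofNat 2, .ofNat 0,
  .ofNat 0, .ofNat 0, .ofNat 0, .ofNat 0, .negSucc 0, .ofNat 0, .ofNat 0, .ofNat 0, .ofNat 0, .ofNat 0,
  .ofNat 0, .ofNat 0, .ofNat 0, .ofNat 0, .ofNat 0, .ofNat 0, .negSucc 0, .ofNat 0, .ofNat 0, .ofNat 0,
  .ofNat 0, .ofNat 0, .ofNat 0, .negSucc 0, .negSucc 0, .ofNat 0, .ofNat 0, .ofNat 0, .ofNat 1, .ofNat 0,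
  .ofNat 0, .ofNat 0, .negSucc 0, .ofNat 0, .ofNat 0, .ofNat 1, .ofNat 0, .ofNat 1, .ofNat 1, .ofNat 0,
  .ofNat 0, .ofNat 0, .negSucc 0, .ofNat 0, .ofNat 0, .ofNat 0, .ofNat 0, .ofNat 0, .ofNat 0, .ofNat 0,
  .ofNat 0, .ofNat 0, .ofNat 1, .ofNat 0, .ofNat 0, .ofNat 0, .ofNat 0, .ofNat 0, .ofNat 0, .ofNat 0,
  .ofNat 0, .ofNat 0, .ofNat 0, .ofNat 0, .ofNat 1, .ofNat 0, .ofNat 0, .ofNat 0, .ofNat 1, .ofNat 0,
  .ofNat 0, .ofNat 0, .negSucc 0, .ofNat 0, .ofNat 0, .ofNat 1, .negSucc 0, .ofNat 0, .negSucc 0, .ofNat 0,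
  .ofNat 0, .ofNat 0, .negSucc 0, .ofNat 0, .ofNat 0, .ofNat 1, .negSucc 0, .ofNat 0, .ofNat 0, .ofNat 0,
  .ofNat 0, .ofNat 1, .ofNat 0, .ofNat 1, .ofNat 1, .ofNat 1, .ofNat 2, .ofNat 1, .ofNat 1, .ofNat 1,
  .ofNat 1]

/-- the values at 105A -/
def col168 : List ℤ :=
  [.ofNat 1, .ofNat 0, .ofNat 0, .negSucc 1, .ofNat 1, .ofNat 0, .ofNat 0, .ofNat 2, .negSucc 0, .ofNat 0,
  .ofNat 1, .negSucc 1, .ofNat 0, .ofNat 0, .ofNat 0, .ofNat 0, .ofNat 0, .negSucc 0, .ofNat 1, .ofNat 1,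
  .negSucc 0, .ofNat 1, .ofNat 0, .ofNat 0, .ofNat 0, .negSucc 0, .negSucc 0, .ofNat 2, .negSucc 0, .ofNat 2,
  .ofNat 1, .ofNat 1, .negSucc 0, .ofNat 0, .ofNat 0, .ofNat 0, .ofNat 0, .negSucc 0, .ofNat 0, .ofNat 1,
  .negSucc 1, .ofNat 0, .ofNat 0, .negSucc 0, .ofNat 0, .ofNat 0, .ofNat 1, .ofNat 1, .ofNat 0, .ofNat 0,
  .negSucc 1, .ofNat 2, .ofNat 0, .ofNat 0, .negSucc 0, .ofNat 0, .ofNat 0, .ofNat 0, .ofNat 0, .ofNat 0,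
  .ofNat 0, .ofNat 0, .ofNat 1, .negSucc 0, .ofNat 0, .ofNat 0, .negSucc 0, .ofNat 0, .ofNat 0, .ofNat 0,
  .ofNat 0, .ofNat 0, .ofNat 0, .ofNat 0, .ofNat 0, .ofNat 0, .ofNat 0, .ofNat 1, .negSucc 0, .negSucc 0,
  .ofNat 0, .ofNat 1, .negSucc 3, .negSucc 0, .ofNat 0, .ofNat 0, .ofNat 0, .ofNat 1, .ofNat 0, .ofNat 0,
  .ofNat 0, .ofNat 0, .negSucc 0, .ofNat 0, .ofNat 0, .ofNat 1, .ofNat 1, .ofNat 1, .ofNat 0, .ofNat 1,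
  .ofNat 2, .ofNat 1, .ofNat 0, .ofNat 0, .negSucc 0, .negSucc 0, .ofNat 0, .ofNat 0, .ofNat 0, .ofNat 0,
  .ofNat 0, .ofNat 0, .ofNat 1, .negSucc 0, .ofNat 0, .negSucc 1, .ofNat 0, .ofNat 1, .ofNat 0, .ofNat 0,
  .ofNat 0, .ofNat 0, .negSucc 0, .ofNat 1, .negSucc 0, .ofNat 1, .negSucc 0, .ofNat 0, .ofNat 0, .ofNat 1,
  .negSucc 0, .ofNat 0, .ofNat 0, .ofNat 0, .ofNat 0, .ofNat 0, .ofNat 0, .negSucc 0, .ofNat 1, .ofNat 0,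
  .ofNat 0, .ofNat 0, .negSucc 0, .ofNat 1, .ofNat 0, .ofNat 0, .ofNat 0, .ofNat 0, .ofNat 1, .ofNat 0,
  .ofNat 0, .ofNat 0, .ofNat 0, .ofNat 0, .negSucc 0, .ofNat 0, .negSucc 1, .ofNat 0, .ofNat 1, .ofNat 0,
  .ofNat 0, .ofNat 0, .ofNat 0, .negSucc 0, .negSucc 0, .negSucc 0, .negSucc 0, .negSucc 0, .negSucc 0,
  .negSucc 0, .negSucc 1]

/-- the values at 110A -/
def col169 : List ℤ :=
  [.ofNat 1, .negSucc 0, .ofNat 1, .ofNat 0, .ofNat 1, .negSucc 0, .negSucc 0, .ofNat 1, .ofNat 0, .ofNat 0,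
  .ofNat 0, .ofNat 0, .ofNat 0, .negSucc 0, .ofNat 1, .ofNat 0, .negSucc 0, .negSucc 0, .negSucc 1, .ofNat 0,
  .ofNat 0, .ofNat 1, .ofNat 2, .ofNat 0, .ofNat 0, .ofNat 0, .ofNat 0, .negSucc 0, .ofNat 1, .ofNat 0,
  .ofNat 1, .ofNat 1, .ofNat 1, .negSucc 0, .negSucc 1, .ofNat 0, .ofNat 2, .ofNat 0, .ofNat 4, .ofNat 2,
  .ofNat 0, .negSucc 1, .ofNat 0, .ofNat 0, .ofNat 0, .ofNat 0, .ofNat 0, .ofNat 0, .ofNat 0, .ofNat 0,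
  .negSucc 0, .negSucc 0, .negSucc 0, .ofNat 1, .negSucc 0, .ofNat 0, .ofNat 0, .ofNat 0, .ofNat 0, .ofNat 0,
  .negSucc 0, .ofNat 0, .ofNat 0, .ofNat 1, .ofNat 2, .ofNat 0, .ofNat 0, .ofNat 0, .ofNat 0, .ofNat 0,
  .ofNat 0, .ofNat 0, .negSucc 1, .ofNat 2, .ofNat 1, .negSucc 0, .ofNat 0, .ofNat 1, .ofNat 0, .ofNat 1,
  .negSucc 1, .ofNat 0, .ofNat 0, .ofNat 0, .ofNat 0, .ofNat 0, .ofNat 0, .ofNat 0, .ofNat 0, .ofNat 0,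
  .ofNat 0, .ofNat 0, .negSucc 0, .negSucc 0, .ofNat 0, .negSucc 0, .negSucc 0, .ofNat 0, .ofNat 0, .ofNat 0,
  .ofNat 0, .ofNat 0, .ofNat 0, .ofNat 0, .ofNat 1, .negSucc 0, .ofNat 0, .negSucc 0, .ofNat 1, .ofNat 0,
  .negSucc 0, .ofNat 0, .negSucc 0, .ofNat 1, .ofNat 0, .ofNat 0, .ofNat 0, .ofNat 1, .ofNat 0, .ofNat 0,
  .ofNat 0, .ofNat 0, .ofNat 1, .ofNat 0, .ofNat 0, .ofNat 0, .ofNat 1, .ofNat 0, .negSucc 0, .ofNat 1,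
  .ofNat 0, .ofNat 0, .ofNat 0, .ofNat 0, .ofNat 0, .ofNat 0, .ofNat 0, .ofNat 0, .ofNat 2, .ofNat 1,
  .ofNat 0, .negSucc 0, .negSucc 0, .negSucc 1, .negSucc 0, .negSucc 0, .ofNat 0, .ofNat 0, .negSucc 0,
  .ofNat 0, .ofNat 0, .ofNat 2, .ofNat 0, .ofNat 0, .ofNat 0, .ofNat 0, .ofNat 0, .ofNat 1, .negSucc 0,
  .ofNat 1, .ofNat 0, .negSucc 0, .ofNat 1, .ofNat 0, .ofNat 0, .ofNat 0, .ofNat 0, .ofNat 0, .ofNat 0,
  .ofNat 0, .ofNat 0]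

/-- the values at 119AB -/
def col170 : List ℤ :=
  [.ofNat 1, .negSucc 0, .ofNat 0, .ofNat 1, .negSucc 0, .ofNat 1, .ofNat 0, .negSucc 0, .ofNat 0, .ofNat 0,
  .ofNat 0, .ofNat 0, .negSucc 0, .ofNat 1, .ofNat 1, .ofNat 0, .ofNat 0, .ofNat 0, .ofNat 1, .negSucc 0,
  .ofNat 0, .ofNat 0, .ofNat 0, .negSucc 0, .ofNat 0, .negSucc 0, .negSucc 0, .ofNat 0, .ofNat 0, .ofNat 1,
  .ofNat 0, .ofNat 0, .ofNat 0, .ofNat 0, .ofNat 1, .ofNat 0, .ofNat 0, .ofNat 0, .ofNat 0, .ofNat 1,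
  .negSucc 0, .negSucc 0, .ofNat 1, .ofNat 0, .ofNat 2, .ofNat 0, .ofNat 0, .ofNat 0, .ofNat 0, .ofNat 1,
  .negSucc 0, .ofNat 1, .ofNat 0, .ofNat 0, .ofNat 0, .ofNat 0, .ofNat 0, .ofNat 0, .ofNat 0, .ofNat 2,
  .ofNat 0, .ofNat 0, .ofNat 0, .negSucc 0, .ofNat 0, .ofNat 0, .negSucc 0, .ofNat 0, .ofNat 0, .ofNat 0,
  .ofNat 0, .ofNat 0, .ofNat 0, .negSucc 0, .ofNat 0, .ofNat 0, .ofNat 0, .ofNat 0, .negSucc 0, .ofNat 0,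
  .ofNat 0, .ofNat 1, .ofNat 2, .ofNat 1, .ofNat 0, .ofNat 0, .ofNat 0, .ofNat 0, .negSucc 0, .ofNat 0,
  .ofNat 1, .ofNat 0, .ofNat 0, .ofNat 0, .ofNat 0, .ofNat 1, .ofNat 0, .ofNat 1, .negSucc 0, .negSucc 0,
  .negSucc 1, .ofNat 0, .ofNat 0, .ofNat 0, .ofNat 1, .negSucc 0, .ofNat 0, .ofNat 1, .ofNat 0, .ofNat 0,
  .ofNat 0, .ofNat 1, .ofNat 0, .ofNat 0, .ofNat 0, .ofNat 0, .ofNat 0, .ofNat 0, .negSucc 0, .ofNat 0,
  .negSucc 0, .ofNat 0, .ofNat 0, .negSucc 0, .ofNat 0, .ofNat 0, .ofNat 1, .ofNat 1, .ofNat 0, .ofNat 0,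
  .ofNat 0, .ofNat 0, .ofNat 1, .ofNat 0, .negSucc 0, .ofNat 0, .ofNat 0, .ofNat 0, .ofNat 0, .ofNat 1,
  .negSucc 0, .ofNat 0, .ofNat 0, .ofNat 0, .ofNat 0, .negSucc 0, .ofNat 0, .ofNat 0, .ofNat 0, .ofNat 0,
  .ofNat 0, .ofNat 0, .ofNat 0, .ofNat 0, .ofNat 0, .ofNat 0, .ofNat 1, .ofNat 1, .ofNat 0, .ofNat 0,
  .negSucc 0, .ofNat 0, .ofNat 0, .ofNat 0, .ofNat 0, .ofNat 0, .ofNat 0, .ofNat 0, .ofNat 0, .ofNat 0,
  .ofNat 0]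

/-- the columns -/
def cols : List (List ℤ) :=
  [col0, col1, col2, col3, col4, col5, col6, col7, col8, col9, col10, col11, col12, col13, col14, col15,
  col16, col17, col18, col19, col20, col21, col22, col23, col24, col25, col26, col27, col28, col29, col30,
  col31, col32, col33, col34, col35, col36, col37, col38, col39, col40, col41, col42, col43, col44, col45,
  col46, col47, col48, col49, col50, col51, col52, col53, col54, col55, col56, col57, col58, col59, col60,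
  col61, col62, col63, col64, col65, col66, col67, col68, col69, col70, col71, col72, col73, col74, col75,
  col76, col77, col78, col79, col80, col81, col82, col83, col84, col85, col86, col87, col88, col89, col90,
  col91, col92, col93, col94, col95, col96, col97, col98, col99, col100, col101, col102, col103, col104,
  col105, col106, col107, col108, col109, col110, col111, col112, col113, col114, col115, col116, col117,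
  col118, col119, col120, col121, col122, col123, col124, col125, col126, col127, col128, col129, col130,
  col131, col132, col133, col134, col135, col136, col137, col138, col139, col140, col141, col142, col143,
  col144, col145, col146, col147, col148, col149, col150, col151, col152, col153, col154, col155, col156,
  col157, col158, col159, col160, col161, col162, col163, col164, col165, col166, col167, col168, col169,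
  col170]

/-- the norms and the star -/
def ms : List (ℕ × ℕ) :=
  [(1, 0), (1, 0), (1, 0), (1, 0), (1, 0), (1, 0), (1, 0), (1, 0), (1, 0), (1, 0), (1, 0), (1, 0), (1, 0),
  (1, 0), (1, 0), (2, 0), (1, 0), (1, 0), (1, 0), (1, 0), (1, 0), (1, 0), (1, 0), (1, 0), (2, 0), (1, 0),
  (1, 0), (1, 0), (1, 0), (1, 0), (1, 0), (1, 0), (1, 0), (1, 0), (1, 0), (2, 0), (2, 0), (1, 0), (2, 0),
  (1, 0), (2, 0), (1, 0), (1, 0), (1, 0), (2, 0), (2, 0), (1, 0), (1, 0), (2, 0), (1, 0), (1, 0), (1, 0),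
  (1, 0), (1, 0), (1, 0), (1, 0), (1, 0), (1, 0), (1, 0), (2, 0), (1, 0), (2, 0), (1, 0), (1, 0), (1, 0),
  (1, 0), (1, 0), (2, 0), (2, 0), (2, 0), (1, 0), (1, 0), (2, 0), (1, 0), (1, 0), (1, 0), (1, 0), (1, 0),
  (1, 0), (1, 0), (2, 0), (1, 0), (2, 0), (1, 0), (2, 0), (2, 0), (1, 0), (1, 0), (1, 0), (1, 0), (1, 0),
  (1, 0), (1, 0), (1, 0), (1, 0), (1, 0), (1, 0), (1, 0), (1, 0), (1, 0), (2, 0), (1, 0), (1, 0), (2, 0),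
  (1, 0), (1, 0), (1, 0), (1, 0), (1, 0), (2, 0), (1, 0), (1, 0), (1, 0), (1, 0), (1, 0), (1, 0), (1, 0),
  (1, 0), (1, 0), (1, 0), (1, 0), (1, 0), (1, 0), (1, 0), (1, 0), (1, 0), (1, 0), (1, 0), (1, 0), (1, 0),
  (1, 0), (1, 0), (1, 0), (1, 0), (1, 0), (1, 0), (1, 0), (1, 0), (1, 0), (1, 0), (1, 0), (1, 0), (1, 0),
  (1, 0), (1, 0), (1, 0), (1, 0), (1, 0), (1, 0), (1, 0), (1, 0), (1, 0), (1, 0), (1, 0), (1, 0), (1, 0),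
  (1, 0), (1, 0), (1, 0), (1, 0), (1, 0), (1, 0), (1, 0), (2, 1), (2, 1), (2, 1), (2, 1), (2, 1), (2, 1),
  (2, 1), (2, 1)]

/-- the coefficients of the regular character -/
def reg : List ℤ :=
  [.ofNat 1, .ofNat 196883, .ofNat 21296876, .ofNat 842609326, .ofNat 18538750076, .ofNat 19360062527,
  .ofNat 293553734298, .ofNat 3879214937598, .ofNat 36173193327999, .ofNat 125510727015275,
  .ofNat 190292345709543, .ofNat 222879856734249, .ofNat 1044868466775133, .ofNat 1109944460516150,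
  .ofNat 2374124840062976, .ofNat 8980616927734375, .ofNat 15178147608537368, .ofNat 39660520552077425,
  .ofNat 60359800576579350, .ofNat 251098487132187500, .ofNat 290568421805921077, .ofNat 336041615485626050,
  .ofNat 2500435234254428856, .ofNat 2986480825407204125, .ofNat 3503434660075044981,
  .ofNat 3605718753596953125, .ofNat 8456836343580310400, .ofNat 8754193822112578125,
  .ofNat 28585990950721640625, .ofNat 30815545786259524745, .ofNat 31569817307122699605,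
  .ofNat 47377503606648784400, .ofNat 77316619273928125000, .ofNat 130415350420342968750,
  .ofNat 155943076739182582850, .ofNat 172399434201593354756, .ofNat 286243267692724486144,
  .ofNat 379913824694312370176, .ofNat 640558364167263622626, .ofNat 643356925889917747200,
  .ofNat 691170144025469730622, .ofNat 776097192277137500000, .ofNat 918438233727730974720,
  .ofNat 1353006807137391674268, .ofNat 1480279477146615234375, .ofNat 1768130802583126953125,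
  .ofNat 2351753641814605348320, .ofNat 2382987417506242421875, .ofNat 4567199176912486400000,
  .ofNat 5578077210155766091776, .ofNat 6566555764392010419123, .ofNat 7226910362631220625000,
  .ofNat 10145274012943412428800, .ofNat 12810005542623250817856, .ofNat 19795913912408993711352,
  .ofNat 21803647757861753437500, .ofNat 24670833602960142274950, .ofNat 31714653744947491918600,
  .ofNat 41209556844092914062500, .ofNat 42940402913709544921875, .ofNat 60683762052057587326065,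
  .ofNat 70660346341309333984375, .ofNat 86551489469233273849000, .ofNat 91068387388302451493925,
  .ofNat 114212876389603002704448, .ofNat 115192831837135016250000, .ofNat 146575737439884098045700,
  .ofNat 149614794149226010902528, .ofNat 161649111002260792968750, .ofNat 191259085113459945312500,
  .ofNat 218028402153522030021875, .ofNat 220326476909636307378168, .ofNat 260799524107083767968750,
  .ofNat 261575621299360905468750, .ofNat 277540481294528814140625, .ofNat 303379038247015811718750,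
  .ofNat 331150814995116217581480, .ofNat 351532203382732066094400, .ofNat 391009081837477378329600,
  .ofNat 392611651975065600000000, .ofNat 597787522207315571077947, .ofNat 600020772685064502392907,
  .ofNat 626877403613887304040448, .ofNat 655159231073705404921875, .ofNat 689763222744895005949242,
  .ofNat 689766726179555080994223, .ofNat 1037605886984697481755304, .ofNat 1361549126105752982272875,
  .ofNat 1599110387863558882812500, .ofNat 1662686180483865572016128, .ofNat 2181694185821505680397072,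
  .ofNat 2216343020913351966796875, .ofNat 3282510540283631442175104, .ofNat 3537292796538741415074900,
  .ofNat 3619209050774375426792424, .ofNat 4004308274823270400000000, .ofNat 4239315652979009728125000,
  .ofNat 4926670174323484069683200, .ofNat 5334046162969208352215625, .ofNat 5514132424881463208443904,
  .ofNat 5514132424881463208443904, .ofNat 7118465328761788475375616, .ofNat 7375892500409609408203125,
  .ofNat 7567151576542452425781250, .ofNat 7850934959207940600000000, .ofNat 8394037047155083487634450,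
  .ofNat 8874260875527017936065100, .ofNat 9416031858681585751556096, .ofNat 9479495745805305653125000,
  .ofNat 9592298143650890255171584, .ofNat 9592584386918582979657728, .ofNat 12650882100466187033706250,
  .ofNat 14930164283563048960000000, .ofNat 16109407269221032565630370, .ofNat 22626621365160537099927552,
  .ofNat 24546384719289825598186695, .ofNat 27501917609709102247187500, .ofNat 29734941419909382162874368,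
  .ofNat 33684388830359981044531200, .ofNat 33722191327002668157047380, .ofNat 37310715211546624000000000,
  .ofNat 38471795739256565080575180, .ofNat 41762322738385820195625000, .ofNat 42001454087954515167503490,
  .ofNat 42601474860639579669896397, .ofNat 43527130990147981755651072, .ofNat 50572542024949598403750000,
  .ofNat 51324350389558097414062500, .ofNat 56356433273146675005489152, .ofNat 58437394633227526183321600,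
  .ofNat 62038057486792249132974080, .ofNat 63750812845035828079008441, .ofNat 64326163427522624205703125,
  .ofNat 66550339514356152000000000, .ofNat 69084859008005036431224066, .ofNat 74612213529720383654779356,
  .ofNat 83974774459050335630859375, .ofNat 86206621680977834911875000, .ofNat 88943820620288343261672393,
  .ofNat 103354104243912727763091456, .ofNat 115165062362004433625000000, .ofNat 121170799240938738783416925,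
  .ofNat 124058385593021471188320256, .ofNat 124982156072747647257292800, .ofNat 125517264890136048242396811,
  .ofNat 129572518017902934396764160, .ofNat 130287135266837289237316743, .ofNat 135226984222789977095703125,
  .ofNat 136107644194473772613203125, .ofNat 136574874874360806036041889, .ofNat 136574874874360806036041889,
  .ofNat 138988549876584520148320256, .ofNat 161561864971171113287540625, .ofNat 163216709667196367710937500,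
  .ofNat 172248852397651745653437500, .ofNat 173865305251972140447265625, .ofNat 175867626988794162227008203,
  .ofNat 177966317773633111417870812, .ofNat 200390867219082687273984375, .ofNat 203314261261157852274218750,
  .ofNat 207467089840006711558593750, .ofNat 212490247553365721772656250, .ofNat 258823477531055064045234375,
  .negSucc 1201241700908448332363, .ofNat 433528694560598978525184, .negSucc 2477548750555298068681031,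
  .ofNat 10023854998171489083984375, .negSucc 41738941151243953804687499, .ofNat 77423398454853064646282250,
  .ofNat 198203900044423845494482560, .negSucc 241866941438795926688759807]

/-- the block and the sign of each character -/
def blk : List (ℕ × ℤ) :=
  [(0, 1), (1, 1), (2, 1), (3, 1), (4, 1), (5, 1), (6, 1), (7, 1), (8, 1), (9, 1), (10, 1), (11, 1), (12, 1),
  (13, 1), (14, 1), (15, 1), (15, 1), (16, 1), (17, 1), (18, 1), (19, 1), (20, 1), (21, 1), (22, 1), (23, 1),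
  (24, 1), (24, 1), (25, 1), (26, 1), (27, 1), (28, 1), (29, 1), (30, 1), (31, 1), (171, 1), (32, 1),
  (33, 1), (34, 1), (35, 1), (35, 1), (36, 1), (36, 1), (37, 1), (38, 1), (38, 1), (39, 1), (40, 1), (40, 1),
  (41, 1), (42, 1), (163, -1), (43, 1), (44, 1), (44, 1), (45, 1), (45, 1), (46, 1), (47, 1), (48, 1),
  (48, 1), (49, 1), (50, 1), (51, 1), (52, 1), (53, 1), (54, 1), (55, 1), (56, 1), (57, 1), (58, 1), (59, 1),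
  (59, 1), (60, 1), (61, 1), (61, 1), (62, 1), (63, 1), (64, 1), (65, 1), (66, 1), (67, 1), (67, 1), (68, 1),
  (68, 1), (69, 1), (69, 1), (70, 1), (71, 1), (72, 1), (72, 1), (73, 1), (74, 1), (75, 1), (76, 1), (77, 1),
  (78, 1), (79, 1), (164, 1), (80, 1), (80, 1), (81, 1), (82, 1), (82, 1), (83, 1), (84, 1), (84, 1),
  (85, 1), (85, 1), (86, 1), (87, 1), (88, 1), (89, 1), (90, 1), (91, 1), (165, -1), (92, 1), (93, 1),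
  (94, 1), (95, 1), (96, 1), (97, 1), (98, 1), (99, 1), (100, 1), (100, 1), (101, 1), (102, 1), (103, 1),
  (103, 1), (104, 1), (105, 1), (106, 1), (107, 1), (108, 1), (109, 1), (109, 1), (110, 1), (166, 1),
  (111, 1), (112, 1), (113, 1), (114, 1), (115, 1), (116, 1), (117, 1), (118, 1), (119, 1), (120, 1),
  (121, 1), (167, -1), (122, 1), (123, 1), (124, 1), (125, 1), (126, 1), (127, 1), (128, 1), (129, 1),
  (130, 1), (131, 1), (132, 1), (133, 1), (134, 1), (135, 1), (168, 1), (136, 1), (137, 1), (138, 1),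
  (139, 1), (140, 1), (141, 1), (142, 1), (143, 1), (144, 1), (145, 1), (146, 1), (147, 1), (148, 1),
  (149, 1), (150, 1), (151, 1), (152, 1), (153, 1), (154, 1), (155, 1), (156, 1), (157, 1), (169, 1),
  (158, 1), (159, 1), (160, 1), (161, 1), (170, -1), (162, 1)]

/-- the degrees -/
def degs : List ℕ :=
  [1, 196883, 21296876, 842609326, 18538750076, 19360062527, 293553734298, 3879214937598, 36173193327999,
  125510727015275, 190292345709543, 222879856734249, 1044868466775133, 1109944460516150, 2374124840062976,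
  8980616927734375, 8980616927734375, 15178147608537368, 39660520552077425, 60359800576579350,
  251098487132187500, 290568421805921077, 336041615485626050, 2500435234254428856, 2986480825407204125,
  3503434660075044981, 3503434660075044981, 3605718753596953125, 8456836343580310400, 8754193822112578125,
  28585990950721640625, 30815545786259524745, 31569817307122699605, 47377503606648784400,
  49609712911192813665, 77316619273928125000, 130415350420342968750, 155943076739182582850,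
  172399434201593354756, 172399434201593354756, 286243267692724486144, 286243267692724486144,
  379913824694312370176, 640558364167263622626, 640558364167263622626, 643356925889917747200,
  691170144025469730622, 691170144025469730622, 776097192277137500000, 918438233727730974720,
  1201241700908448332364, 1353006807137391674268, 1480279477146615234375, 1480279477146615234375,
  1768130802583126953125, 1768130802583126953125, 2351753641814605348320, 2382987417506242421875,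
  4567199176912486400000, 4567199176912486400000, 5578077210155766091776, 6566555764392010419123,
  7226910362631220625000, 10145274012943412428800, 12810005542623250817856, 19795913912408993711352,
  21803647757861753437500, 24670833602960142274950, 31714653744947491918600, 41209556844092914062500,
  42940402913709544921875, 42940402913709544921875, 60683762052057587326065, 70660346341309333984375,
  70660346341309333984375, 86551489469233273849000, 91068387388302451493925, 114212876389603002704448,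
  115192831837135016250000, 146575737439884098045700, 149614794149226010902528, 149614794149226010902528,
  161649111002260792968750, 161649111002260792968750, 191259085113459945312500, 191259085113459945312500,
  218028402153522030021875, 220326476909636307378168, 260799524107083767968750, 260799524107083767968750,
  261575621299360905468750, 277540481294528814140625, 303379038247015811718750, 331150814995116217581480,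
  351532203382732066094400, 391009081837477378329600, 392611651975065600000000, 433528694560598978525184,
  597787522207315571077947, 597787522207315571077947, 600020772685064502392907, 626877403613887304040448,
  626877403613887304040448, 655159231073705404921875, 689763222744895005949242, 689763222744895005949242,
  689766726179555080994223, 689766726179555080994223, 1037605886984697481755304, 1361549126105752982272875,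
  1599110387863558882812500, 1662686180483865572016128, 2181694185821505680397072, 2216343020913351966796875,
  2477548750555298068681032, 3282510540283631442175104, 3537292796538741415074900, 3619209050774375426792424,
  4004308274823270400000000, 4239315652979009728125000, 4926670174323484069683200, 5334046162969208352215625,
  5514132424881463208443904, 5514132424881463208443904, 5514132424881463208443904, 7118465328761788475375616,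
  7375892500409609408203125, 7567151576542452425781250, 7567151576542452425781250, 7850934959207940600000000,
  8394037047155083487634450, 8874260875527017936065100, 9416031858681585751556096, 9479495745805305653125000,
  9592298143650890255171584, 9592298143650890255171584, 9592584386918582979657728,
  10023854998171489083984375, 12650882100466187033706250, 14930164283563048960000000,
  16109407269221032565630370, 22626621365160537099927552, 24546384719289825598186695,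
  27501917609709102247187500, 29734941419909382162874368, 33684388830359981044531200,
  33722191327002668157047380, 37310715211546624000000000, 38471795739256565080575180,
  41738941151243953804687500, 41762322738385820195625000, 42001454087954515167503490,
  42601474860639579669896397, 43527130990147981755651072, 50572542024949598403750000,
  51324350389558097414062500, 56356433273146675005489152, 58437394633227526183321600,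
  62038057486792249132974080, 63750812845035828079008441, 64326163427522624205703125,
  66550339514356152000000000, 69084859008005036431224066, 74612213529720383654779356,
  77423398454853064646282250, 83974774459050335630859375, 86206621680977834911875000,
  88943820620288343261672393, 103354104243912727763091456, 115165062362004433625000000,
  121170799240938738783416925, 124058385593021471188320256, 124982156072747647257292800,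
  125517264890136048242396811, 129572518017902934396764160, 130287135266837289237316743,
  135226984222789977095703125, 136107644194473772613203125, 136574874874360806036041889,
  136574874874360806036041889, 138988549876584520148320256, 161561864971171113287540625,
  163216709667196367710937500, 172248852397651745653437500, 173865305251972140447265625,
  175867626988794162227008203, 177966317773633111417870812, 198203900044423845494482560,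
  200390867219082687273984375, 203314261261157852274218750, 207467089840006711558593750,
  212490247553365721772656250, 241866941438795926688759808, 258823477531055064045234375]

/-- the constituents of the rows -/
def cons : List (List (ℕ × ℤ)) :=
  [[(0, 1)], [(1, 1)], [(2, 1)], [(3, 1)], [(4, 1)], [(5, 1)], [(6, 1)], [(7, 1)], [(8, 1)], [(9, 1)],
  [(10, 1)], [(11, 1)], [(12, 1)], [(13, 1)], [(14, 1)], [(15, 1), (16, 1)], [(17, 1)], [(18, 1)], [(19, 1)],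
  [(20, 1)], [(21, 1)], [(22, 1)], [(23, 1)], [(24, 1)], [(25, 1), (26, 1)], [(27, 1)], [(28, 1)], [(29, 1)],
  [(30, 1)], [(31, 1)], [(32, 1)], [(33, 1)], [(35, 1)], [(36, 1)], [(37, 1)], [(38, 1), (39, 1)],
  [(40, 1), (41, 1)], [(42, 1)], [(43, 1), (44, 1)], [(45, 1)], [(46, 1), (47, 1)], [(48, 1)], [(49, 1)],
  [(51, 1)], [(52, 1), (53, 1)], [(54, 1), (55, 1)], [(56, 1)], [(57, 1)], [(58, 1), (59, 1)], [(60, 1)],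
  [(61, 1)], [(62, 1)], [(63, 1)], [(64, 1)], [(65, 1)], [(66, 1)], [(67, 1)], [(68, 1)], [(69, 1)],
  [(70, 1), (71, 1)], [(72, 1)], [(73, 1), (74, 1)], [(75, 1)], [(76, 1)], [(77, 1)], [(78, 1)], [(79, 1)],
  [(80, 1), (81, 1)], [(82, 1), (83, 1)], [(84, 1), (85, 1)], [(86, 1)], [(87, 1)], [(88, 1), (89, 1)],
  [(90, 1)], [(91, 1)], [(92, 1)], [(93, 1)], [(94, 1)], [(95, 1)], [(96, 1)], [(98, 1), (99, 1)],
  [(100, 1)], [(101, 1), (102, 1)], [(103, 1)], [(104, 1), (105, 1)], [(106, 1), (107, 1)], [(108, 1)],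
  [(109, 1)], [(110, 1)], [(111, 1)], [(112, 1)], [(113, 1)], [(115, 1)], [(116, 1)], [(117, 1)], [(118, 1)],
  [(119, 1)], [(120, 1)], [(121, 1)], [(122, 1)], [(123, 1), (124, 1)], [(125, 1)], [(126, 1)],
  [(127, 1), (128, 1)], [(129, 1)], [(130, 1)], [(131, 1)], [(132, 1)], [(133, 1)], [(134, 1), (135, 1)],
  [(136, 1)], [(138, 1)], [(139, 1)], [(140, 1)], [(141, 1)], [(142, 1)], [(143, 1)], [(144, 1)], [(145, 1)],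
  [(146, 1)], [(147, 1)], [(148, 1)], [(150, 1)], [(151, 1)], [(152, 1)], [(153, 1)], [(154, 1)], [(155, 1)],
  [(156, 1)], [(157, 1)], [(158, 1)], [(159, 1)], [(160, 1)], [(161, 1)], [(162, 1)], [(163, 1)], [(165, 1)],
  [(166, 1)], [(167, 1)], [(168, 1)], [(169, 1)], [(170, 1)], [(171, 1)], [(172, 1)], [(173, 1)], [(174, 1)],
  [(175, 1)], [(176, 1)], [(177, 1)], [(178, 1)], [(179, 1)], [(180, 1)], [(181, 1)], [(182, 1)], [(183, 1)],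
  [(184, 1)], [(185, 1)], [(186, 1)], [(188, 1)], [(189, 1)], [(190, 1)], [(191, 1)], [(193, 1)],
  [(34, 1), (50, -1)], [(34, 1), (97, 1)], [(34, 1), (114, -1)], [(34, 1), (137, 1)], [(34, 1), (149, -1)],
  [(34, 1), (164, 1)], [(34, 1), (187, 1)], [(34, 1), (192, -1)]]

theorem okLen : dat.okLen := ⟨by decide +kernel, by decide +kernel, by decide +kernel⟩

end Cfsg.Agent.TAB.M
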