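import Cfsg.Agent.TAB.Eng.Defs

/-!
# The 171 types of elements of the Monster (helper16, TAB): data

The types are the rational classes, with 27A and 27B merged.  `val` is the trace on the space of dimension
196884, `ctwo` the coefficient of degree two of the Thompson series.
-/

set_option autoImplicit false
set_option maxRecDepth 100000

namespace Cfsg.Agent.TAB.M

open Cfsg.Agent.TAB.Eng

/-- the data -/
def dat : Dat where
  n := 171
  N := 808017424794512875886459904961710757005754368000000000
  ordL := [1, 2, 2, 3, 3, 3, 4, 4, 4, 4, 5, 5, 6, 6, 6, 6, 6, 6, 7, 7, 8, 8, 8, 8, 8, 8, 9, 9, 10, 10, 10, 10, 10, 11,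
    12, 12, 12, 12, 12, 12, 12, 12, 12, 12, 13, 13, 14, 14, 14, 15, 15, 15, 15, 16, 16, 16, 17, 18, 18, 18, 18,
    18, 19, 20, 20, 20, 20, 20, 20, 21, 21, 21, 21, 22, 22, 23, 24, 24, 24, 24, 24, 24, 24, 24, 24, 24, 25, 26,
    26, 27, 28, 28, 28, 28, 29, 30, 30, 30, 30, 30, 30, 30, 31, 32, 32, 33, 33, 34, 35, 35, 36, 36, 36, 36, 38,
    39, 39, 39, 40, 40, 40, 41, 42, 42, 42, 42, 44, 45, 46, 46, 47, 48, 50, 51, 52, 52, 54, 55, 56, 56, 57, 59,
    60, 60, 60, 60, 60, 60, 62, 66, 66, 68, 69, 70, 70, 71, 78, 78, 84, 84, 84, 87, 88, 92, 93, 94, 95, 104,
    105, 110, 119]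
  cntL := [1, 97239461142009186000, 5791748068511982636944259375, 214577690036031541739520000000,
    565199288597852543703402414080000000, 2968057083972516318090098638848000000,
    97145685362919706207382495808000000, 30503870796310198117193355632640000000,
    16590054417852612827565745721611200000000, 98008936868544666550542251647672320000000,
    591887137522737993774463094465809612800, 8550448939624474877105395819700642931277824,
    1042951649762956089160694035906560000000, 300370075131731353678279882341089280000000,
    1677848466556155608437266530264678400000000, 6186634675038335082962102103362764800000000,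
    501117408678105141719930270372383948800000000, 2899322150209036891379596564297364275200000000,
    28640191365467419815377252976080977920000000, 9538937205804659007897076909584521625600000000,
    1019292943432864532125639417135792128000000000, 1037825542404371159982469224720079257600000000,
    5620224475789825358674294878484121518080000000, 34248242899344248279421484415762615500800000000,
    64215455436270465523915283279554904064000000000, 260938993518813320224163690786762784768000000000,
    14254006291288324031144683246147810099200000000, 285080125825766480622893664922956201984000000000,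
    910914304647493772418898702382880994099200000, 43837750911160637797659500052176147841024000000,
    67334785399542739657204992080142563083812864000, 133600764681632419954771809682822545801216000000,
    1683369634988568491430124802003564077095321600000, 772896985761509867506944353536989934387200000000,
    6765085017154419413219058650027183308800000000, 36080453424823570203834979466811644313600000000,
    46389154403344590262073545028757828403200000000, 695837316050168853931103175431367426048000000000,
    913286477315846620784572917753669746688000000000, 1670009558520405249434647621035281822515200000000,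
    2164827205489414212230098768008698658816000000000, 2922516727410709186510633336811743189401600000000,
    9741722424702363955035444456039143964672000000000, 35070200728928510238127600041740918272819200000000,
    11067518967709194552466303760707193143296000000000, 15324257032212730918799497514825344352256000000000,
    715718382223030821186277551872263638220800000000, 5367887866672731158897081639041977286656000000000,
    22902988231136986277960881659912436423065600000000, 296890588181405377677270688184050101780480000000,
    5541957646052900383309052846102268566568960000000, 74816428221714155174672213422380625648680960000000,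
    89779713866056986209606656106856750778417152000000, 65756626366740956696489250078264221761536000000000,
    98634939550111435044733875117396332642304000000000, 98634939550111435044733875117396332642304000000000,
    282919266384633359904222655798918332284928000000000, 23091490191887084930454386858759452360704000000000,
    34637235287830627395681580288139178541056000000000, 51955852931745941093522370432208767811584000000000,
    207823411726983764374089481728835071246336000000000, 207823411726983764374089481728835071246336000000000,
    708787214732028838496894653475184874566451200000000, 10521060218678553071438280012522275481845760000000,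
    28056160583142808190502080033392734618255360000000, 33667392699771369828602496040071281541906432000000,
    42084240874714212285753120050089101927383040000000, 673347853995427396572049920801425630838128640000000,
    841684817494284245715062401001782038547660800000000, 15268658820757990851973921106608290948710400000000,
    130874218463639921588347895199499636703232000000000, 229029882311369862779608816599124364230656000000000,
    1603209176179589039457261716193870549614592000000000, 306067206361557907532749964000648014017331200000000,
    382584007951947384415937455000810017521664000000000, 2927599365197510419878477916527937525383168000000000,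
    116900669096428367460425333472469727576064000000000, 175351003644642551190638000208704591364096000000000,
    233801338192856734920850666944939455152128000000000, 350702007289285102381276000417409182728192000000000,
    701404014578570204762552000834818365456384000000000, 935205352771426939683402667779757820608512000000000,
    935205352771426939683402667779757820608512000000000, 1402808029157140409525104001669636730912768000000000,
    2104212043735710614287656002504455096369152000000000, 2805616058314280819050208003339273461825536000000000,
    3232069699178051503545839619846843028023017472000000, 1294899719221975762638557540002741597765632000000000,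
    2589799438443951525277115080005483195531264000000000, 4987761881447610344978147561492041709912064000000000,
    171772411733527397084706612449343273172992000000000, 300601720533672944898236571786350728052736000000000,
    901805161601018834694709715359052184158208000000000, 4809627528538767118371785148581611648843776000000000,
    9287556606833481332028274769674836287422464000000000, 74816428221714155174672213422380625648680960000000,
    112224642332571232762008320133570938473021440000000, 280561605831428081905020800333927346182553600000000,
    448898569330284931048033280534283753892085760000000, 2244492846651424655240166402671418769460428800000000,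
    3366739269977136982860249604007128154190643200000000, 3366739269977136982860249604007128154190643200000000,
    8688359406392611568671611881308717817266176000000000, 6312636131207131842862968007513365289107456000000000,
    6312636131207131842862968007513365289107456000000000, 1360298694940257366812222062225102284521472000000000,
    2040448042410386050218333093337653426782208000000000, 5941304594077300557988675771777284977983488000000000,
    384770202283101369469742811886528931907502080000000, 11543106068493041084092284356595867957225062400000000,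
    623470235180951293122268445186505213739008000000000, 1246940470361902586244536890373010427478016000000000,
    3740821411085707758733610671119031282434048000000000,
    11222464233257123276200832013357093847302144000000000,
    10631808220980432577453419802127773118496768000000000,
    1151021972641756233456495591113548086902784000000000, 6906131835850537400738973546681288521416704000000000,
    20718395507551612202216920640043865564250112000000000,
    2020043561986282189716149762404276892514385920000000, 2525054452482852737145187203005346115642982400000000,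
    20200435619862821897161497624042768925143859200000000,
    19707742068158850631377070852724652609896448000000000,
    1603209176179589039457261716193870549614592000000000, 1603209176179589039457261716193870549614592000000000,
    4809627528538767118371785148581611648843776000000000, 6412836704718356157829046864775482198458368000000000,
    4591008095423368612991249460009720210259968000000000, 5985314257737132413973777073790450051894476800000000,
    8782798095592531259635433749583812576149504000000000,
    17565596191185062519270867499167625152299008000000000,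
    17191860102010912252903402233227888446930944000000000,
    8416848174942842457150624010017820385476608000000000,
    16160348495890257517729198099234215140115087360000000,
    15843478917539468154636468724739426607955968000000000,
    7769398315331854575831345240016449586593792000000000,
    15538796630663709151662690480032899173187584000000000,
    14963285644342831034934442684476125129736192000000000,
    7345612952677389780785999136015552336415948800000000, 7214441292808150677557677722872417473265664000000000,
    28857765171232602710230710891489669893062656000000000,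
    14175744294640576769937893069503697491329024000000000,
    27390421179475012741913895083447822271381504000000000,
    2244492846651424655240166402671418769460428800000000, 3366739269977136982860249604007128154190643200000000,
    6733478539954273965720499208014256308381286400000000, 6733478539954273965720499208014256308381286400000000,
    13466957079908547931440998416028512616762572800000000,
    13466957079908547931440998416028512616762572800000000,
    26065078219177834706014835643926153451798528000000000,
    6121344127231158150654999280012960280346624000000000,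
    12242688254462316301309998560025920560693248000000000,
    11882609188154601115977351543554569955966976000000000,
    23420794921580083359027823332223500203065344000000000,
    5771553034246520542046142178297933978612531200000000,
    11543106068493041084092284356595867957225062400000000,
    22761054219563742982717180421456641042415616000000000,
    10359197753775806101108460320021932782125056000000000,
    20718395507551612202216920640043865564250112000000000,
    9619255057077534236743570297163223297687552000000000, 9619255057077534236743570297163223297687552000000000,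
    9619255057077534236743570297163223297687552000000000,
    18575113213666962664056549539349672574844928000000000,
    18364032381693474451964997840038880841039872000000000,
    17565596191185062519270867499167625152299008000000000,
    17376718812785223137343223762617435634532352000000000,
    17191860102010912252903402233227888446930944000000000,
    17010893153568692123925471683404436989594828800000000,
    15538796630663709151662690480032899173187584000000000,
    7695404045662027389394856237730578638150041600000000, 7345612952677389780785999136015552336415948800000000,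
    13580124786462401275402687478348079949676544000000000]
  pwL := [[], [(1, 1)], [(1, 2)], [(1, 3)], [(1, 4)], [(1, 5)], [(1, 6), (2, 2)], [(1, 7), (2, 1)], [(1, 8), (2, 2)],
    [(1, 9), (2, 2)], [(1, 10)], [(1, 11)], [(1, 12), (2, 3), (3, 1)], [(1, 13), (2, 4), (3, 2)],
    [(1, 14), (2, 3), (3, 2)], [(1, 15), (2, 4), (3, 1)], [(1, 16), (2, 4), (3, 2)], [(1, 17), (2, 5), (3, 2)],
    [(1, 18)], [(1, 19)], [(1, 20), (2, 8), (4, 2)], [(1, 21), (2, 6), (4, 2)], [(1, 22), (2, 7), (4, 1)],
    [(1, 23), (2, 8), (4, 2)], [(1, 24), (2, 8), (4, 2)], [(1, 25), (2, 9), (4, 2)], [(1, 26), (3, 4)],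
    [(1, 27), (3, 4)], [(1, 28), (2, 10), (5, 1)], [(1, 29), (2, 10), (5, 2)], [(1, 30), (2, 11), (5, 1)],
    [(1, 31), (2, 11), (5, 2)], [(1, 32), (2, 11), (5, 2)], [(1, 33)],
    [(1, 34), (2, 14), (3, 6), (4, 3), (6, 2)], [(1, 35), (2, 16), (3, 6), (4, 4), (6, 2)],
    [(1, 36), (2, 12), (3, 7), (4, 3), (6, 1)], [(1, 37), (2, 17), (3, 6), (4, 5), (6, 2)],
    [(1, 38), (2, 14), (3, 8), (4, 3), (6, 2)], [(1, 39), (2, 13), (3, 9), (4, 4), (6, 2)],
    [(1, 40), (2, 15), (3, 7), (4, 4), (6, 1)], [(1, 41), (2, 16), (3, 8), (4, 4), (6, 2)],
    [(1, 42), (2, 16), (3, 8), (4, 4), (6, 2)], [(1, 43), (2, 17), (3, 9), (4, 5), (6, 2)], [(1, 44)],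
    [(1, 45)], [(1, 46), (2, 18), (7, 1)], [(1, 47), (2, 18), (7, 2)], [(1, 48), (2, 19), (7, 2)],
    [(1, 49), (3, 10), (5, 3)], [(1, 50), (3, 10), (5, 4)], [(1, 51), (3, 11), (5, 4)],
    [(1, 52), (3, 11), (5, 5)], [(1, 53), (2, 20), (4, 8), (8, 2)], [(1, 54), (2, 24), (4, 8), (8, 2)],
    [(1, 55), (2, 24), (4, 8), (8, 2)], [(1, 56)], [(1, 57), (2, 27), (3, 15), (6, 4), (9, 1)],
    [(1, 58), (2, 26), (3, 15), (6, 4), (9, 1)], [(1, 59), (2, 26), (3, 16), (6, 4), (9, 2)],
    [(1, 60), (2, 27), (3, 16), (6, 4), (9, 2)], [(1, 61), (2, 27), (3, 16), (6, 4), (9, 2)], [(1, 62)],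
    [(1, 63), (2, 29), (4, 10), (5, 6), (10, 2)], [(1, 64), (2, 28), (4, 10), (5, 7), (10, 1)],
    [(1, 65), (2, 32), (4, 11), (5, 6), (10, 2)], [(1, 66), (2, 29), (4, 10), (5, 9), (10, 2)],
    [(1, 67), (2, 31), (4, 11), (5, 9), (10, 2)], [(1, 68), (2, 32), (4, 11), (5, 8), (10, 2)],
    [(1, 69), (3, 18), (7, 3)], [(1, 70), (3, 19), (7, 3)], [(1, 71), (3, 18), (7, 5)],
    [(1, 72), (3, 19), (7, 4)], [(1, 73), (2, 33), (11, 1)], [(1, 74), (2, 33), (11, 2)], [(1, 75)],
    [(1, 76), (2, 34), (3, 21), (4, 14), (6, 6), (8, 3), (12, 2)],
    [(1, 77), (2, 38), (3, 20), (4, 14), (6, 8), (8, 3), (12, 2)],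
    [(1, 78), (2, 42), (3, 20), (4, 16), (6, 8), (8, 4), (12, 2)],
    [(1, 79), (2, 38), (3, 23), (4, 14), (6, 8), (8, 3), (12, 2)],
    [(1, 80), (2, 37), (3, 21), (4, 17), (6, 6), (8, 5), (12, 2)],
    [(1, 81), (2, 39), (3, 25), (4, 13), (6, 9), (8, 4), (12, 2)],
    [(1, 82), (2, 40), (3, 22), (4, 15), (6, 7), (8, 4), (12, 1)],
    [(1, 83), (2, 41), (3, 23), (4, 16), (6, 8), (8, 4), (12, 2)],
    [(1, 84), (2, 42), (3, 24), (4, 16), (6, 8), (8, 4), (12, 2)],
    [(1, 85), (2, 43), (3, 25), (4, 17), (6, 9), (8, 5), (12, 2)], [(1, 86), (5, 11)],
    [(1, 87), (2, 44), (13, 1)], [(1, 88), (2, 45), (13, 2)], [(1, 89), (3, 27), (9, 4)],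
    [(1, 90), (2, 46), (4, 18), (7, 7), (14, 1)], [(1, 91), (2, 47), (4, 18), (7, 6), (14, 2)],
    [(1, 92), (2, 47), (4, 18), (7, 8), (14, 2)], [(1, 93), (2, 48), (4, 19), (7, 9), (14, 2)], [(1, 94)],
    [(1, 95), (2, 51), (3, 31), (5, 13), (6, 11), (10, 4), (15, 2)],
    [(1, 96), (2, 49), (3, 28), (5, 12), (6, 10), (10, 3), (15, 1)],
    [(1, 97), (2, 49), (3, 29), (5, 14), (6, 10), (10, 3), (15, 2)],
    [(1, 98), (2, 50), (3, 29), (5, 13), (6, 10), (10, 4), (15, 2)],
    [(1, 99), (2, 52), (3, 31), (5, 17), (6, 11), (10, 5), (15, 2)],
    [(1, 100), (2, 51), (3, 30), (5, 15), (6, 11), (10, 4), (15, 1)],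
    [(1, 101), (2, 51), (3, 32), (5, 16), (6, 11), (10, 4), (15, 2)], [(1, 102)],
    [(1, 103), (2, 54), (4, 24), (8, 8), (16, 2)], [(1, 104), (2, 55), (4, 24), (8, 8), (16, 2)],
    [(1, 105), (3, 33), (11, 4)], [(1, 106), (3, 33), (11, 3)], [(1, 107), (2, 56), (17, 1)],
    [(1, 108), (5, 18), (7, 10)], [(1, 109), (5, 19), (7, 11)],
    [(1, 110), (2, 59), (3, 35), (4, 26), (6, 16), (9, 6), (12, 4), (18, 2)],
    [(1, 111), (2, 60), (3, 35), (4, 27), (6, 16), (9, 6), (12, 4), (18, 2)],
    [(1, 112), (2, 58), (3, 40), (4, 26), (6, 15), (9, 7), (12, 4), (18, 1)],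
    [(1, 113), (2, 60), (3, 42), (4, 27), (6, 16), (9, 8), (12, 4), (18, 2)], [(1, 114), (2, 62), (19, 1)],
    [(1, 115), (3, 44), (13, 3)], [(1, 116), (3, 44), (13, 5)], [(1, 117), (3, 45), (13, 4)],
    [(1, 118), (2, 64), (4, 28), (5, 22), (8, 10), (10, 7), (20, 1)],
    [(1, 119), (2, 63), (4, 29), (5, 21), (8, 10), (10, 6), (20, 2)],
    [(1, 120), (2, 68), (4, 32), (5, 23), (8, 11), (10, 8), (20, 2)], [(1, 121)],
    [(1, 122), (2, 69), (3, 46), (6, 18), (7, 12), (14, 3), (21, 1)],
    [(1, 123), (2, 72), (3, 48), (6, 19), (7, 13), (14, 4), (21, 2)],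
    [(1, 124), (2, 71), (3, 47), (6, 18), (7, 17), (14, 5), (21, 2)],
    [(1, 125), (2, 70), (3, 48), (6, 19), (7, 14), (14, 3), (21, 2)],
    [(1, 126), (2, 74), (4, 33), (11, 6), (22, 2)], [(1, 127), (3, 50), (5, 26), (9, 10), (15, 4)],
    [(1, 128), (2, 75), (23, 2)], [(1, 129), (2, 75), (23, 1)], [(1, 130)],
    [(1, 131), (2, 77), (3, 53), (4, 38), (6, 20), (8, 14), (12, 8), (16, 3), (24, 2)],
    [(1, 132), (2, 86), (5, 30), (10, 11), (25, 1)], [(1, 133), (3, 56), (17, 3)],
    [(1, 134), (2, 87), (4, 44), (13, 7), (26, 1)], [(1, 135), (2, 88), (4, 45), (13, 9), (26, 2)],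
    [(1, 136), (2, 89), (3, 57), (6, 27), (9, 15), (18, 4), (27, 1)], [(1, 137), (5, 33), (11, 10)],
    [(1, 138), (2, 92), (4, 47), (7, 20), (8, 18), (14, 8), (28, 2)],
    [(1, 139), (2, 93), (4, 48), (7, 25), (8, 19), (14, 9), (28, 2)], [(1, 140), (3, 62), (19, 5)], [(1, 141)],
    [(1, 142), (2, 96), (3, 64), (4, 49), (5, 36), (6, 28), (10, 12), (12, 10), (15, 7), (20, 3), (30, 1)],
    [(1, 143), (2, 97), (3, 63), (4, 49), (5, 34), (6, 29), (10, 14), (12, 10), (15, 6), (20, 3), (30, 2)],
    [(1, 144), (2, 101), (3, 65), (4, 51), (5, 35), (6, 32), (10, 16), (12, 11), (15, 6), (20, 4), (30, 2)],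
    [(1, 145), (2, 101), (3, 68), (4, 51), (5, 41), (6, 32), (10, 16), (12, 11), (15, 8), (20, 4), (30, 2)],
    [(1, 146), (2, 98), (3, 66), (4, 50), (5, 39), (6, 29), (10, 13), (12, 10), (15, 9), (20, 4), (30, 2)],
    [(1, 147), (2, 99), (3, 67), (4, 52), (5, 43), (6, 31), (10, 17), (12, 11), (15, 9), (20, 5), (30, 2)],
    [(1, 148), (2, 102), (31, 1)], [(1, 149), (2, 106), (3, 73), (6, 33), (11, 12), (22, 3), (33, 1)],
    [(1, 150), (2, 105), (3, 74), (6, 33), (11, 13), (22, 4), (33, 2)],
    [(1, 151), (2, 107), (4, 56), (17, 7), (34, 1)], [(1, 152), (3, 75), (23, 3)],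
    [(1, 153), (2, 108), (5, 46), (7, 28), (10, 18), (14, 10), (35, 1)],
    [(1, 154), (2, 109), (5, 48), (7, 31), (10, 19), (14, 11), (35, 2)], [(1, 155)],
    [(1, 156), (2, 115), (3, 87), (6, 44), (13, 12), (26, 3), (39, 1)],
    [(1, 157), (2, 117), (3, 88), (6, 45), (13, 13), (26, 4), (39, 2)],
    [(1, 158), (2, 122), (3, 90), (4, 69), (6, 46), (7, 36), (12, 18), (14, 12), (21, 7), (28, 3), (42, 1)],
    [(1, 159), (2, 123), (3, 93), (4, 72), (6, 48), (7, 39), (12, 19), (14, 13), (21, 9), (28, 4), (42, 2)],
    [(1, 160), (2, 124), (3, 91), (4, 71), (6, 47), (7, 37), (12, 18), (14, 17), (21, 6), (28, 5), (42, 2)],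
    [(1, 161), (3, 94), (29, 3)], [(1, 162), (2, 126), (4, 74), (8, 33), (11, 21), (22, 6), (44, 2)],
    [(1, 163), (2, 128), (4, 75), (23, 6), (46, 2)], [(1, 164), (3, 102), (31, 5)],
    [(1, 165), (2, 130), (47, 1)], [(1, 166), (5, 62), (19, 10)],
    [(1, 167), (2, 134), (4, 87), (8, 44), (13, 22), (26, 7), (52, 1)],
    [(1, 168), (3, 108), (5, 69), (7, 49), (15, 18), (21, 10), (35, 3)],
    [(1, 169), (2, 137), (5, 73), (10, 33), (11, 28), (22, 10), (55, 1)], [(1, 170), (7, 56), (17, 18)]]

/-- the traces on the space of dimension 196884 -/
def valL : List ℤ :=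
  [196884, 4372, 276, 783, 54, 0, 276, 52, 20, -12, 134, 9, 79, 78, 15, -2, 6, 0, 51, 2, 36, 12, 0, -4, 4, 0,
  27, 0, 22, 6, -3, 21, 1, 17, 15, 6, 7, 0, -1, 6, -2, 14, 2, 0, 12, -1, 11, 3, 10, 8, -1, 9, 0, 4, 0, 8, 7,
  -2, 7, 3, 0, 6, 6, 6, 2, 1, -2, 3, 5, 6, -1, 0, 5, 5, 1, 4, 3, 3, 0, -1, 0, 0, 0, 2, 4, 0, 4, 4, 3, 3, 3,
  3, -1, 2, 3, 3, 4, 0, 3, 0, 3, 1, 3, 2, 2, -1, 2, 3, 1, 2, 3, 0, 1, 2, 2, 3, 0, 2, 0, 2, 1, 2, 2, 1, 0, 1,
  1, 2, 0, 2, 1, 1, 2, 1, 0, 1, 1, 2, 1, 0, 0, 1, 2, 0, 1, -1, 1, 0, 1, 2, 1, 1, 1, 1, 0, 1, 1, 0, 0, -1, 0,
  0, 1, 0, 0, 1, 1, 0, 1, 0, 0]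

/-- the trace on the elements of type `i` -/
def val (i : ℕ) : ℤ := valL.getD i 0

/-- the values of the character of degree 21493760 -/
def ctwoL : List ℤ :=
  [21493760, 96256, -2048, 8672, -76, 248, 2048, 0, 0, 0, 760, 10, 352, 364, -32, 28, 4, -8, 204, 8, 128, 0,
  0, 0, 0, 0, 86, 5, 56, -8, 6, 62, 2, 46, 32, -4, 0, 8, 0, 0, 0, 36, 0, 0, 28, 2, 20, -4, 24, 22, 4, 19, -2,
  0, 0, 16, 14, 1, 10, -2, 1, 13, 10, 8, 0, -2, 0, 0, 10, 6, -1, 3, 8, 6, -2, 7, 0, 8, 2, 0, 0, 0, 0, 0, 6,
  0, 5, 4, 6, 5, 0, 4, 0, 0, 4, -1, 2, -2, 4, 2, 3, -1, 3, 4, 0, 1, 4, 2, 4, 3, 2, -1, 0, 3, 2, 1, 1, 2, 0,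
  0, 0, 2, 2, 0, -1, 3, 2, 1, -1, 1, 2, 0, 1, 2, 0, 0, 1, 1, 2, 0, 1, 1, 0, 2, 1, 1, 0, 0, 1, 0, 1, 0, 1, 0,
  -1, 1, 1, 0, 0, 0, 1, 1, 0, 1, 0, 0, 0, 0, 1, 1, 0]

/-- the value of the character of degree 21493760 on the elements of type `i` -/
def ctwo (i : ℕ) : ℤ := ctwoL.getD i 0

theorem okPow : dat.okPow = true := by decide +kernel

theorem okSep : dat.okSep val = true := by decide +kernel

theorem okSum : dat.okSum = true := by decide +kernel

/-- type 0 = 1A -/
theorem sg_1A : sg dat val 0 = (1, []) := by decide +kernel

theorem cnt_1A : dat.cnt 0 = 1 := by decide +kernel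

/-- type 1 = 2A -/
theorem sg_2A : sg dat val 1 = (2, [(1, 4372)]) := by decide +kernel

theorem cnt_2A : dat.cnt 1 = 97239461142009186000 := by decide +kernel

/-- type 2 = 2B -/
theorem sg_2B : sg dat val 2 = (2, [(1, 276)]) := by decide +kernel

theorem cnt_2B : dat.cnt 2 = 5791748068511982636944259375 := by decide +kernel

/-- type 3 = 3A -/
theorem sg_3A : sg dat val 3 = (3, [(1, 783)]) := by decide +kernel

theorem cnt_3A : dat.cnt 3 = 214577690036031541739520000000 := by decide +kernel

/-- type 4 = 3B -/
theorem sg_3B : sg dat val 4 = (3, [(1, 54)]) := by decide +kernel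

theorem cnt_3B : dat.cnt 4 = 565199288597852543703402414080000000 := by decide +kernel

/-- type 5 = 3C -/
theorem sg_3C : sg dat val 5 = (3, [(1, 0)]) := by decide +kernel

theorem cnt_3C : dat.cnt 5 = 2968057083972516318090098638848000000 := by decide +kernel

/-- type 6 = 4A -/
theorem sg_4A : sg dat val 6 = (4, [(1, 276), (2, 276)]) := by decide +kernel

theorem cnt_4A : dat.cnt 6 = 97145685362919706207382495808000000 := by decide +kernel

/-- type 7 = 4B -/
theorem sg_4B : sg dat val 7 = (4, [(1, 52), (2, 4372)]) := by decide +kernel

theorem cnt_4B : dat.cnt 7 = 30503870796310198117193355632640000000 := by decide +kernel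

/-- type 8 = 4C -/
theorem sg_4C : sg dat val 8 = (4, [(1, 20), (2, 276)]) := by decide +kernel

theorem cnt_4C : dat.cnt 8 = 16590054417852612827565745721611200000000 := by decide +kernel

/-- type 9 = 4D -/
theorem sg_4D : sg dat val 9 = (4, [(1, -12), (2, 276)]) := by decide +kernel

theorem cnt_4D : dat.cnt 9 = 98008936868544666550542251647672320000000 := by decide +kernel

/-- type 10 = 5A -/
theorem sg_5A : sg dat val 10 = (5, [(1, 134)]) := by decide +kernel

theorem cnt_5A : dat.cnt 10 = 591887137522737993774463094465809612800 := by decide +kernel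

/-- type 11 = 5B -/
theorem sg_5B : sg dat val 11 = (5, [(1, 9)]) := by decide +kernel

theorem cnt_5B : dat.cnt 11 = 8550448939624474877105395819700642931277824 := by decide +kernel

/-- type 12 = 6A -/
theorem sg_6A : sg dat val 12 = (6, [(1, 79), (2, 783), (3, 4372)]) := by decide +kernel

theorem cnt_6A : dat.cnt 12 = 1042951649762956089160694035906560000000 := by decide +kernel

/-- type 13 = 6B -/
theorem sg_6B : sg dat val 13 = (6, [(1, 78), (2, 54), (3, 276)]) := by decide +kernel

theorem cnt_6B : dat.cnt 13 = 300370075131731353678279882341089280000000 := by decide +kernel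

/-- type 14 = 6C -/
theorem sg_6C : sg dat val 14 = (6, [(1, 15), (2, 783), (3, 276)]) := by decide +kernel

theorem cnt_6C : dat.cnt 14 = 1677848466556155608437266530264678400000000 := by decide +kernel

/-- type 15 = 6D -/
theorem sg_6D : sg dat val 15 = (6, [(1, -2), (2, 54), (3, 4372)]) := by decide +kernel

theorem cnt_6D : dat.cnt 15 = 6186634675038335082962102103362764800000000 := by decide +kernel

/-- type 16 = 6E -/
theorem sg_6E : sg dat val 16 = (6, [(1, 6), (2, 54), (3, 276)]) := by decide +kernel

theorem cnt_6E : dat.cnt 16 = 501117408678105141719930270372383948800000000 := by decide +kernel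

/-- type 17 = 6F -/
theorem sg_6F : sg dat val 17 = (6, [(1, 0), (2, 0), (3, 276)]) := by decide +kernel

theorem cnt_6F : dat.cnt 17 = 2899322150209036891379596564297364275200000000 := by decide +kernel

/-- type 18 = 7A -/
theorem sg_7A : sg dat val 18 = (7, [(1, 51)]) := by decide +kernel

theorem cnt_7A : dat.cnt 18 = 28640191365467419815377252976080977920000000 := by decide +kernel

/-- type 19 = 7B -/
theorem sg_7B : sg dat val 19 = (7, [(1, 2)]) := by decide +kernel

theorem cnt_7B : dat.cnt 19 = 9538937205804659007897076909584521625600000000 := by decide +kernel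

/-- type 20 = 8A -/
theorem sg_8A : sg dat val 20 = (8, [(1, 36), (2, 20), (4, 276)]) := by decide +kernel

theorem cnt_8A : dat.cnt 20 = 1019292943432864532125639417135792128000000000 := by decide +kernel

/-- type 21 = 8B -/
theorem sg_8B : sg dat val 21 = (8, [(1, 12), (2, 276), (4, 276)]) := by decide +kernel

theorem cnt_8B : dat.cnt 21 = 1037825542404371159982469224720079257600000000 := by decide +kernel

/-- type 22 = 8C -/
theorem sg_8C : sg dat val 22 = (8, [(1, 0), (2, 52), (4, 4372)]) := by decide +kernel

theorem cnt_8C : dat.cnt 22 = 5620224475789825358674294878484121518080000000 := by decide +kernel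

/-- type 23 = 8D -/
theorem sg_8D : sg dat val 23 = (8, [(1, -4), (2, 20), (4, 276)]) := by decide +kernel

theorem cnt_8D : dat.cnt 23 = 34248242899344248279421484415762615500800000000 := by decide +kernel

/-- type 24 = 8E -/
theorem sg_8E : sg dat val 24 = (8, [(1, 4), (2, 20), (4, 276)]) := by decide +kernel

theorem cnt_8E : dat.cnt 24 = 64215455436270465523915283279554904064000000000 := by decide +kernel

/-- type 25 = 8F -/
theorem sg_8F : sg dat val 25 = (8, [(1, 0), (2, -12), (4, 276)]) := by decide +kernel

theorem cnt_8F : dat.cnt 25 = 260938993518813320224163690786762784768000000000 := by decide +kernel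

/-- type 26 = 9A -/
theorem sg_9A : sg dat val 26 = (9, [(1, 27), (3, 54)]) := by decide +kernel

theorem cnt_9A : dat.cnt 26 = 14254006291288324031144683246147810099200000000 := by decide +kernel

/-- type 27 = 9B -/
theorem sg_9B : sg dat val 27 = (9, [(1, 0), (3, 54)]) := by decide +kernel

theorem cnt_9B : dat.cnt 27 = 285080125825766480622893664922956201984000000000 := by decide +kernel

/-- type 28 = 10A -/
theorem sg_10A : sg dat val 28 = (10, [(1, 22), (2, 134), (5, 4372)]) := by decide +kernel

theorem cnt_10A : dat.cnt 28 = 910914304647493772418898702382880994099200000 := by decide +kernel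

/-- type 29 = 10B -/
theorem sg_10B : sg dat val 29 = (10, [(1, 6), (2, 134), (5, 276)]) := by decide +kernel

theorem cnt_10B : dat.cnt 29 = 43837750911160637797659500052176147841024000000 := by decide +kernel

/-- type 30 = 10C -/
theorem sg_10C : sg dat val 30 = (10, [(1, -3), (2, 9), (5, 4372)]) := by decide +kernel

theorem cnt_10C : dat.cnt 30 = 67334785399542739657204992080142563083812864000 := by decide +kernel

/-- type 31 = 10D -/
theorem sg_10D : sg dat val 31 = (10, [(1, 21), (2, 9), (5, 276)]) := by decide +kernel

theorem cnt_10D : dat.cnt 31 = 133600764681632419954771809682822545801216000000 := by decide +kernel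

/-- type 32 = 10E -/
theorem sg_10E : sg dat val 32 = (10, [(1, 1), (2, 9), (5, 276)]) := by decide +kernel

theorem cnt_10E : dat.cnt 32 = 1683369634988568491430124802003564077095321600000 := by decide +kernel

/-- type 33 = 11A -/
theorem sg_11A : sg dat val 33 = (11, [(1, 17)]) := by decide +kernel

theorem cnt_11A : dat.cnt 33 = 772896985761509867506944353536989934387200000000 := by decide +kernel

/-- type 34 = 12A -/
theorem sg_12A : sg dat val 34 = (12, [(1, 15), (2, 15), (3, 276), (4, 783), (6, 276)]) := by decide +kernel

theorem cnt_12A : dat.cnt 34 = 6765085017154419413219058650027183308800000000 := by decide +kernel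

/-- type 35 = 12B -/
theorem sg_12B : sg dat val 35 = (12, [(1, 6), (2, 6), (3, 276), (4, 54), (6, 276)]) := by decide +kernel

theorem cnt_12B : dat.cnt 35 = 36080453424823570203834979466811644313600000000 := by decide +kernel

/-- type 36 = 12C -/
theorem sg_12C : sg dat val 36 = (12, [(1, 7), (2, 79), (3, 52), (4, 783), (6, 4372)]) := by decide +kernel

theorem cnt_12C : dat.cnt 36 = 46389154403344590262073545028757828403200000000 := by decide +kernel

/-- type 37 = 12D -/
theorem sg_12D : sg dat val 37 = (12, [(1, 0), (2, 0), (3, 276), (4, 0), (6, 276)]) := by decide +kernel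

theorem cnt_12D : dat.cnt 37 = 695837316050168853931103175431367426048000000000 := by decide +kernel

/-- type 38 = 12E -/
theorem sg_12E : sg dat val 38 = (12, [(1, -1), (2, 15), (3, 20), (4, 783), (6, 276)]) := by decide +kernel

theorem cnt_12E : dat.cnt 38 = 913286477315846620784572917753669746688000000000 := by decide +kernel

/-- type 39 = 12F -/
theorem sg_12F : sg dat val 39 = (12, [(1, 6), (2, 78), (3, -12), (4, 54), (6, 276)]) := by decide +kernel

theorem cnt_12F : dat.cnt 39 = 1670009558520405249434647621035281822515200000000 := by decide +kernel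

/-- type 40 = 12G -/
theorem sg_12G : sg dat val 40 = (12, [(1, -2), (2, -2), (3, 52), (4, 54), (6, 4372)]) := by decide +kernel

theorem cnt_12G : dat.cnt 40 = 2164827205489414212230098768008698658816000000000 := by decide +kernel

/-- type 41 = 12H -/
theorem sg_12H : sg dat val 41 = (12, [(1, 14), (2, 6), (3, 20), (4, 54), (6, 276)]) := by decide +kernel

theorem cnt_12H : dat.cnt 41 = 2922516727410709186510633336811743189401600000000 := by decide +kernel

/-- type 42 = 12I -/
theorem sg_12I : sg dat val 42 = (12, [(1, 2), (2, 6), (3, 20), (4, 54), (6, 276)]) := by decide +kernel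

theorem cnt_12I : dat.cnt 42 = 9741722424702363955035444456039143964672000000000 := by decide +kernel

/-- type 43 = 12J -/
theorem sg_12J : sg dat val 43 = (12, [(1, 0), (2, 0), (3, -12), (4, 0), (6, 276)]) := by decide +kernel

theorem cnt_12J : dat.cnt 43 = 35070200728928510238127600041740918272819200000000 := by decide +kernel

/-- type 44 = 13A -/
theorem sg_13A : sg dat val 44 = (13, [(1, 12)]) := by decide +kernel

theorem cnt_13A : dat.cnt 44 = 11067518967709194552466303760707193143296000000000 := by decide +kernel

/-- type 45 = 13B -/
theorem sg_13B : sg dat val 45 = (13, [(1, -1)]) := by decide +kernel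

theorem cnt_13B : dat.cnt 45 = 15324257032212730918799497514825344352256000000000 := by decide +kernel

/-- type 46 = 14A -/
theorem sg_14A : sg dat val 46 = (14, [(1, 11), (2, 51), (7, 4372)]) := by decide +kernel

theorem cnt_14A : dat.cnt 46 = 715718382223030821186277551872263638220800000000 := by decide +kernel

/-- type 47 = 14B -/
theorem sg_14B : sg dat val 47 = (14, [(1, 3), (2, 51), (7, 276)]) := by decide +kernel

theorem cnt_14B : dat.cnt 47 = 5367887866672731158897081639041977286656000000000 := by decide +kernel

/-- type 48 = 14C -/
theorem sg_14C : sg dat val 48 = (14, [(1, 10), (2, 2), (7, 276)]) := by decide +kernel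

theorem cnt_14C : dat.cnt 48 = 22902988231136986277960881659912436423065600000000 := by decide +kernel

/-- type 49 = 15A -/
theorem sg_15A : sg dat val 49 = (15, [(1, 8), (3, 134), (5, 783)]) := by decide +kernel

theorem cnt_15A : dat.cnt 49 = 296890588181405377677270688184050101780480000000 := by decide +kernel

/-- type 50 = 15B -/
theorem sg_15B : sg dat val 50 = (15, [(1, -1), (3, 134), (5, 54)]) := by decide +kernel

theorem cnt_15B : dat.cnt 50 = 5541957646052900383309052846102268566568960000000 := by decide +kernel

/-- type 51 = 15C -/
theorem sg_15C : sg dat val 51 = (15, [(1, 9), (3, 9), (5, 54)]) := by decide +kernel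

theorem cnt_15C : dat.cnt 51 = 74816428221714155174672213422380625648680960000000 := by decide +kernel

/-- type 52 = 15D -/
theorem sg_15D : sg dat val 52 = (15, [(1, 0), (3, 9), (5, 0)]) := by decide +kernel

theorem cnt_15D : dat.cnt 52 = 89779713866056986209606656106856750778417152000000 := by decide +kernel

/-- type 53 = 16A -/
theorem sg_16A : sg dat val 53 = (16, [(1, 4), (2, 36), (4, 20), (8, 276)]) := by decide +kernel

theorem cnt_16A : dat.cnt 53 = 65756626366740956696489250078264221761536000000000 := by decide +kernel

/-- type 54 = 16B -/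
theorem sg_16B : sg dat val 54 = (16, [(1, 0), (2, 4), (4, 20), (8, 276)]) := by decide +kernel

theorem cnt_16B : dat.cnt 54 = 98634939550111435044733875117396332642304000000000 := by decide +kernel

/-- type 55 = 16C -/
theorem sg_16C : sg dat val 55 = (16, [(1, 8), (2, 4), (4, 20), (8, 276)]) := by decide +kernel

theorem cnt_16C : dat.cnt 55 = 98634939550111435044733875117396332642304000000000 := by decide +kernel

/-- type 56 = 17A -/
theorem sg_17A : sg dat val 56 = (17, [(1, 7)]) := by decide +kernel

theorem cnt_17A : dat.cnt 56 = 282919266384633359904222655798918332284928000000000 := by decide +kernel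

/-- type 57 = 18A -/
theorem sg_18A : sg dat val 57 = (18, [(1, -2), (2, 0), (3, -2), (6, 54), (9, 4372)]) := by decide +kernel

theorem cnt_18A : dat.cnt 57 = 23091490191887084930454386858759452360704000000000 := by decide +kernel

/-- type 58 = 18B -/
theorem sg_18B : sg dat val 58 = (18, [(1, 7), (2, 27), (3, -2), (6, 54), (9, 4372)]) := by decide +kernel

theorem cnt_18B : dat.cnt 58 = 34637235287830627395681580288139178541056000000000 := by decide +kernel

/-- type 59 = 18C -/
theorem sg_18C : sg dat val 59 = (18, [(1, 3), (2, 27), (3, 6), (6, 54), (9, 276)]) := by decide +kernel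

theorem cnt_18C : dat.cnt 59 = 51955852931745941093522370432208767811584000000000 := by decide +kernel

/-- type 60 = 18D -/
theorem sg_18D : sg dat val 60 = (18, [(1, 0), (2, 0), (3, 6), (6, 54), (9, 276)]) := by decide +kernel

theorem cnt_18D : dat.cnt 60 = 207823411726983764374089481728835071246336000000000 := by decide +kernel

/-- type 61 = 18E -/
theorem sg_18E : sg dat val 61 = (18, [(1, 6), (2, 0), (3, 6), (6, 54), (9, 276)]) := by decide +kernel

theorem cnt_18E : dat.cnt 61 = 207823411726983764374089481728835071246336000000000 := by decide +kernel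

/-- type 62 = 19A -/
theorem sg_19A : sg dat val 62 = (19, [(1, 6)]) := by decide +kernel

theorem cnt_19A : dat.cnt 62 = 708787214732028838496894653475184874566451200000000 := by decide +kernel

/-- type 63 = 20A -/
theorem sg_20A : sg dat val 63 = (20, [(1, 6), (2, 6), (4, 134), (5, 276), (10, 276)]) := by decide +kernel

theorem cnt_20A : dat.cnt 63 = 10521060218678553071438280012522275481845760000000 := by decide +kernel

/-- type 64 = 20B -/
theorem sg_20B : sg dat val 64 = (20, [(1, 2), (2, 22), (4, 134), (5, 52), (10, 4372)]) := by decide +kernel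

theorem cnt_20B : dat.cnt 64 = 28056160583142808190502080033392734618255360000000 := by decide +kernel

/-- type 65 = 20C -/
theorem sg_20C : sg dat val 65 = (20, [(1, 1), (2, 1), (4, 9), (5, 276), (10, 276)]) := by decide +kernel

theorem cnt_20C : dat.cnt 65 = 33667392699771369828602496040071281541906432000000 := by decide +kernel

/-- type 66 = 20D -/
theorem sg_20D : sg dat val 66 = (20, [(1, -2), (2, 6), (4, 134), (5, -12), (10, 276)]) := by decide +kernel

theorem cnt_20D : dat.cnt 66 = 42084240874714212285753120050089101927383040000000 := by decide +kernel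

/-- type 67 = 20E -/
theorem sg_20E : sg dat val 67 = (20, [(1, 3), (2, 21), (4, 9), (5, -12), (10, 276)]) := by decide +kernel

theorem cnt_20E : dat.cnt 67 = 673347853995427396572049920801425630838128640000000 := by decide +kernel

/-- type 68 = 20F -/
theorem sg_20F : sg dat val 68 = (20, [(1, 5), (2, 1), (4, 9), (5, 20), (10, 276)]) := by decide +kernel

theorem cnt_20F : dat.cnt 68 = 841684817494284245715062401001782038547660800000000 := by decide +kernel

/-- type 69 = 21A -/
theorem sg_21A : sg dat val 69 = (21, [(1, 6), (3, 51), (7, 783)]) := by decide +kernel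

theorem cnt_21A : dat.cnt 69 = 15268658820757990851973921106608290948710400000000 := by decide +kernel

/-- type 70 = 21B -/
theorem sg_21B : sg dat val 70 = (21, [(1, -1), (3, 2), (7, 783)]) := by decide +kernel

theorem cnt_21B : dat.cnt 70 = 130874218463639921588347895199499636703232000000000 := by decide +kernel

/-- type 71 = 21C -/
theorem sg_21C : sg dat val 71 = (21, [(1, 0), (3, 51), (7, 0)]) := by decide +kernel

theorem cnt_21C : dat.cnt 71 = 229029882311369862779608816599124364230656000000000 := by decide +kernel

/-- type 72 = 21D -/
theorem sg_21D : sg dat val 72 = (21, [(1, 5), (3, 2), (7, 54)]) := by decide +kernel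

theorem cnt_21D : dat.cnt 72 = 1603209176179589039457261716193870549614592000000000 := by decide +kernel

/-- type 73 = 22A -/
theorem sg_22A : sg dat val 73 = (22, [(1, 5), (2, 17), (11, 4372)]) := by decide +kernel

theorem cnt_22A : dat.cnt 73 = 306067206361557907532749964000648014017331200000000 := by decide +kernel

/-- type 74 = 22B -/
theorem sg_22B : sg dat val 74 = (22, [(1, 1), (2, 17), (11, 276)]) := by decide +kernel

theorem cnt_22B : dat.cnt 74 = 382584007951947384415937455000810017521664000000000 := by decide +kernel

/-- type 75 = 23AB -/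
theorem sg_23AB : sg dat val 75 = (23, [(1, 4)]) := by decide +kernel

theorem cnt_23AB : dat.cnt 75 = 2927599365197510419878477916527937525383168000000000 := by decide +kernel

/-- type 76 = 24A -/
theorem sg_24A : sg dat val 76 = (24, [(1, 3), (2, 15), (3, 12), (4, 15), (6, 276), (8, 783), (12, 276)]) := by decide +kernel

theorem cnt_24A : dat.cnt 76 = 116900669096428367460425333472469727576064000000000 := by decide +kernel

/-- type 77 = 24B -/
theorem sg_24B : sg dat val 77 = (24, [(1, 3), (2, -1), (3, 36), (4, 15), (6, 20), (8, 783), (12, 276)]) := by decide +kernel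

theorem cnt_24B : dat.cnt 77 = 175351003644642551190638000208704591364096000000000 := by decide +kernel

/-- type 78 = 24C -/
theorem sg_24C : sg dat val 78 = (24, [(1, 0), (2, 2), (3, 36), (4, 6), (6, 20), (8, 54), (12, 276)]) := by decide +kernel

theorem cnt_24C : dat.cnt 78 = 233801338192856734920850666944939455152128000000000 := by decide +kernel

/-- type 79 = 24D -/
theorem sg_24D : sg dat val 79 = (24, [(1, -1), (2, -1), (3, -4), (4, 15), (6, 20), (8, 783), (12, 276)]) := by decide +kernel

theorem cnt_24D : dat.cnt 79 = 350702007289285102381276000417409182728192000000000 := by decide +kernel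

/-- type 80 = 24E -/
theorem sg_24E : sg dat val 80 = (24, [(1, 0), (2, 0), (3, 12), (4, 0), (6, 276), (8, 0), (12, 276)]) := by decide +kernel

theorem cnt_24E : dat.cnt 80 = 701404014578570204762552000834818365456384000000000 := by decide +kernel

/-- type 81 = 24F -/
theorem sg_24F : sg dat val 81 = (24, [(1, 0), (2, 6), (3, 0), (4, 78), (6, -12), (8, 54), (12, 276)]) := by decide +kernel

theorem cnt_24F : dat.cnt 81 = 935205352771426939683402667779757820608512000000000 := by decide +kernel

/-- type 82 = 24G -/
theorem sg_24G : sg dat val 82 = (24, [(1, 0), (2, -2), (3, 0), (4, -2), (6, 52), (8, 54), (12, 4372)]) := by decide +kernel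

theorem cnt_24G : dat.cnt 82 = 935205352771426939683402667779757820608512000000000 := by decide +kernel

/-- type 83 = 24H -/
theorem sg_24H : sg dat val 83 = (24, [(1, 2), (2, 14), (3, -4), (4, 6), (6, 20), (8, 54), (12, 276)]) := by decide +kernel

theorem cnt_24H : dat.cnt 83 = 1402808029157140409525104001669636730912768000000000 := by decide +kernel

/-- type 84 = 24I -/
theorem sg_24I : sg dat val 84 = (24, [(1, 4), (2, 2), (3, 4), (4, 6), (6, 20), (8, 54), (12, 276)]) := by decide +kernel

theorem cnt_24I : dat.cnt 84 = 2104212043735710614287656002504455096369152000000000 := by decide +kernel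

/-- type 85 = 24J -/
theorem sg_24J : sg dat val 85 = (24, [(1, 0), (2, 0), (3, 0), (4, 0), (6, -12), (8, 0), (12, 276)]) := by decide +kernel

theorem cnt_24J : dat.cnt 85 = 2805616058314280819050208003339273461825536000000000 := by decide +kernel

/-- type 86 = 25A -/
theorem sg_25A : sg dat val 86 = (25, [(1, 4), (5, 9)]) := by decide +kernel

theorem cnt_25A : dat.cnt 86 = 3232069699178051503545839619846843028023017472000000 := by decide +kernel

/-- type 87 = 26A -/
theorem sg_26A : sg dat val 87 = (26, [(1, 4), (2, 12), (13, 4372)]) := by decide +kernel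

theorem cnt_26A : dat.cnt 87 = 1294899719221975762638557540002741597765632000000000 := by decide +kernel

/-- type 88 = 26B -/
theorem sg_26B : sg dat val 88 = (26, [(1, 3), (2, -1), (13, 276)]) := by decide +kernel

theorem cnt_26B : dat.cnt 88 = 2589799438443951525277115080005483195531264000000000 := by decide +kernel

/-- type 89 = 27AB -/
theorem sg_27AB : sg dat val 89 = (27, [(1, 3), (3, 0), (9, 54)]) := by decide +kernel

theorem cnt_27AB : dat.cnt 89 = 4987761881447610344978147561492041709912064000000000 := by decide +kernel

/-- type 90 = 28A -/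
theorem sg_28A : sg dat val 90 = (28, [(1, 3), (2, 11), (4, 51), (7, 52), (14, 4372)]) := by decide +kernel

theorem cnt_28A : dat.cnt 90 = 171772411733527397084706612449343273172992000000000 := by decide +kernel

/-- type 91 = 28B -/
theorem sg_28B : sg dat val 91 = (28, [(1, 3), (2, 3), (4, 51), (7, 276), (14, 276)]) := by decide +kernel

theorem cnt_28B : dat.cnt 91 = 300601720533672944898236571786350728052736000000000 := by decide +kernel

/-- type 92 = 28C -/
theorem sg_28C : sg dat val 92 = (28, [(1, -1), (2, 3), (4, 51), (7, 20), (14, 276)]) := by decide +kernel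

theorem cnt_28C : dat.cnt 92 = 901805161601018834694709715359052184158208000000000 := by decide +kernel

/-- type 93 = 28D -/
theorem sg_28D : sg dat val 93 = (28, [(1, 2), (2, 10), (4, 2), (7, -12), (14, 276)]) := by decide +kernel

theorem cnt_28D : dat.cnt 93 = 4809627528538767118371785148581611648843776000000000 := by decide +kernel

/-- type 94 = 29A -/
theorem sg_29A : sg dat val 94 = (29, [(1, 3)]) := by decide +kernel

theorem cnt_29A : dat.cnt 94 = 9287556606833481332028274769674836287422464000000000 := by decide +kernel

/-- type 95 = 30A -/
theorem sg_30A : sg dat val 95 = (30, [(1, 3), (2, 9), (3, 21), (5, 78), (6, 9), (10, 54), (15, 276)]) := by decide +kernel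

theorem cnt_30A : dat.cnt 95 = 74816428221714155174672213422380625648680960000000 := by decide +kernel

/-- type 96 = 30B -/
theorem sg_30B : sg dat val 96 = (30, [(1, 4), (2, 8), (3, 22), (5, 79), (6, 134), (10, 783), (15, 4372)]) := by decide +kernel

theorem cnt_30B : dat.cnt 96 = 112224642332571232762008320133570938473021440000000 := by decide +kernel

/-- type 97 = 30C -/
theorem sg_30C : sg dat val 97 = (30, [(1, 0), (2, 8), (3, 6), (5, 15), (6, 134), (10, 783), (15, 276)]) := by decide +kernel

theorem cnt_30C : dat.cnt 97 = 280561605831428081905020800333927346182553600000000 := by decide +kernel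

/-- type 98 = 30D -/
theorem sg_30D : sg dat val 98 = (30, [(1, 3), (2, -1), (3, 6), (5, 78), (6, 134), (10, 54), (15, 276)]) := by decide +kernel

theorem cnt_30D : dat.cnt 98 = 448898569330284931048033280534283753892085760000000 := by decide +kernel

/-- type 99 = 30E -/
theorem sg_30E : sg dat val 99 = (30, [(1, 0), (2, 0), (3, 21), (5, 0), (6, 9), (10, 0), (15, 276)]) := by decide +kernel

theorem cnt_30E : dat.cnt 99 = 2244492846651424655240166402671418769460428800000000 := by decide +kernel

/-- type 100 = 30F -/
theorem sg_30F : sg dat val 100 = (30, [(1, 3), (2, 9), (3, -3), (5, -2), (6, 9), (10, 54), (15, 4372)]) := by decide +kernel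

theorem cnt_30F : dat.cnt 100 = 3366739269977136982860249604007128154190643200000000 := by decide +kernel

/-- type 101 = 30G -/
theorem sg_30G : sg dat val 101 = (30, [(1, 1), (2, 9), (3, 1), (5, 6), (6, 9), (10, 54), (15, 276)]) := by decide +kernel

theorem cnt_30G : dat.cnt 101 = 3366739269977136982860249604007128154190643200000000 := by decide +kernel

/-- type 102 = 31AB -/
theorem sg_31AB : sg dat val 102 = (31, [(1, 3)]) := by decide +kernel

theorem cnt_31AB : dat.cnt 102 = 8688359406392611568671611881308717817266176000000000 := by decide +kernel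

/-- type 103 = 32A -/
theorem sg_32A : sg dat val 103 = (32, [(1, 2), (2, 0), (4, 4), (8, 20), (16, 276)]) := by decide +kernel

theorem cnt_32A : dat.cnt 103 = 6312636131207131842862968007513365289107456000000000 := by decide +kernel

/-- type 104 = 32B -/
theorem sg_32B : sg dat val 104 = (32, [(1, 2), (2, 8), (4, 4), (8, 20), (16, 276)]) := by decide +kernel

theorem cnt_32B : dat.cnt 104 = 6312636131207131842862968007513365289107456000000000 := by decide +kernel

/-- type 105 = 33A -/
theorem sg_33A : sg dat val 105 = (33, [(1, -1), (3, 17), (11, 54)]) := by decide +kernel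

theorem cnt_33A : dat.cnt 105 = 1360298694940257366812222062225102284521472000000000 := by decide +kernel

/-- type 106 = 33B -/
theorem sg_33B : sg dat val 106 = (33, [(1, 2), (3, 17), (11, 783)]) := by decide +kernel

theorem cnt_33B : dat.cnt 106 = 2040448042410386050218333093337653426782208000000000 := by decide +kernel

/-- type 107 = 34A -/
theorem sg_34A : sg dat val 107 = (34, [(1, 3), (2, 7), (17, 4372)]) := by decide +kernel

theorem cnt_34A : dat.cnt 107 = 5941304594077300557988675771777284977983488000000000 := by decide +kernel

/-- type 108 = 35A -/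
theorem sg_35A : sg dat val 108 = (35, [(1, 1), (5, 51), (7, 134)]) := by decide +kernel

theorem cnt_35A : dat.cnt 108 = 384770202283101369469742811886528931907502080000000 := by decide +kernel

/-- type 109 = 35B -/
theorem sg_35B : sg dat val 109 = (35, [(1, 2), (5, 2), (7, 9)]) := by decide +kernel

theorem cnt_35B : dat.cnt 109 = 11543106068493041084092284356595867957225062400000000 := by decide +kernel

/-- type 110 = 36A -/
theorem sg_36A : sg dat val 110 = (36, [(1, 3), (2, 3), (3, 6), (4, 27), (6, 6), (9, 276), (12, 54), (18, 276)]) := by decide +kernel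

theorem cnt_36A : dat.cnt 110 = 623470235180951293122268445186505213739008000000000 := by decide +kernel

/-- type 111 = 36B -/
theorem sg_36B : sg dat val 111 = (36, [(1, 0), (2, 0), (3, 6), (4, 0), (6, 6), (9, 276), (12, 54), (18, 276)]) := by decide +kernel

theorem cnt_36B : dat.cnt 111 = 1246940470361902586244536890373010427478016000000000 := by decide +kernel

/-- type 112 = 36C -/
theorem sg_36C : sg dat val 112 = (36, [(1, 1), (2, 7), (3, -2), (4, 27), (6, -2), (9, 52), (12, 54), (18, 4372)]) := by decide +kernel

theorem cnt_36C : dat.cnt 112 = 3740821411085707758733610671119031282434048000000000 := by decide +kernel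

/-- type 113 = 36D -/
theorem sg_36D : sg dat val 113 = (36, [(1, 2), (2, 0), (3, 2), (4, 0), (6, 6), (9, 20), (12, 54), (18, 276)]) := by decide +kernel

theorem cnt_36D : dat.cnt 113 = 11222464233257123276200832013357093847302144000000000 := by decide +kernel

/-- type 114 = 38A -/
theorem sg_38A : sg dat val 114 = (38, [(1, 2), (2, 6), (19, 4372)]) := by decide +kernel

theorem cnt_38A : dat.cnt 114 = 10631808220980432577453419802127773118496768000000000 := by decide +kernel

/-- type 115 = 39A -/
theorem sg_39A : sg dat val 115 = (39, [(1, 3), (3, 12), (13, 783)]) := by decide +kernel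

theorem cnt_39A : dat.cnt 115 = 1151021972641756233456495591113548086902784000000000 := by decide +kernel

/-- type 116 = 39B -/
theorem sg_39B : sg dat val 116 = (39, [(1, 0), (3, 12), (13, 0)]) := by decide +kernel

theorem cnt_39B : dat.cnt 116 = 6906131835850537400738973546681288521416704000000000 := by decide +kernel

/-- type 117 = 39CD -/
theorem sg_39CD : sg dat val 117 = (39, [(1, 2), (3, -1), (13, 54)]) := by decide +kernel

theorem cnt_39CD : dat.cnt 117 = 20718395507551612202216920640043865564250112000000000 := by decide +kernel

/-- type 118 = 40A -/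
theorem sg_40A : sg dat val 118 = (40, [(1, 0), (2, 2), (4, 22), (5, 0), (8, 134), (10, 52), (20, 4372)]) := by decide +kernel

theorem cnt_40A : dat.cnt 118 = 2020043561986282189716149762404276892514385920000000 := by decide +kernel

/-- type 119 = 40B -/
theorem sg_40B : sg dat val 119 = (40, [(1, 2), (2, 6), (4, 6), (5, 12), (8, 134), (10, 276), (20, 276)]) := by decide +kernel

theorem cnt_40B : dat.cnt 119 = 2525054452482852737145187203005346115642982400000000 := by decide +kernel

/-- type 120 = 40CD -/
theorem sg_40CD : sg dat val 120 = (40, [(1, 1), (2, 5), (4, 1), (5, -4), (8, 9), (10, 20), (20, 276)]) := by decide +kernel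

theorem cnt_40CD : dat.cnt 120 = 20200435619862821897161497624042768925143859200000000 := by decide +kernel

/-- type 121 = 41A -/
theorem sg_41A : sg dat val 121 = (41, [(1, 2)]) := by decide +kernel

theorem cnt_41A : dat.cnt 121 = 19707742068158850631377070852724652609896448000000000 := by decide +kernel

/-- type 122 = 42A -/
theorem sg_42A : sg dat val 122 = (42, [(1, 2), (2, 6), (3, 11), (6, 51), (7, 79), (14, 783), (21, 4372)]) := by decide +kernel

theorem cnt_42A : dat.cnt 122 = 1603209176179589039457261716193870549614592000000000 := by decide +kernel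

/-- type 123 = 42B -/
theorem sg_42B : sg dat val 123 = (42, [(1, 1), (2, 5), (3, 10), (6, 2), (7, 78), (14, 54), (21, 276)]) := by decide +kernel

theorem cnt_42B : dat.cnt 123 = 1603209176179589039457261716193870549614592000000000 := by decide +kernel

/-- type 124 = 42C -/
theorem sg_42C : sg dat val 124 = (42, [(1, 0), (2, 0), (3, 3), (6, 51), (7, 0), (14, 0), (21, 276)]) := by decide +kernel

theorem cnt_42C : dat.cnt 124 = 4809627528538767118371785148581611648843776000000000 := by decide +kernel

/-- type 125 = 42D -/
theorem sg_42D : sg dat val 125 = (42, [(1, 1), (2, -1), (3, 10), (6, 2), (7, 15), (14, 783), (21, 276)]) := by decide +kernel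

theorem cnt_42D : dat.cnt 125 = 6412836704718356157829046864775482198458368000000000 := by decide +kernel

/-- type 126 = 44AB -/
theorem sg_44AB : sg dat val 126 = (44, [(1, 1), (2, 1), (4, 17), (11, 276), (22, 276)]) := by decide +kernel

theorem cnt_44AB : dat.cnt 126 = 4591008095423368612991249460009720210259968000000000 := by decide +kernel

/-- type 127 = 45A -/
theorem sg_45A : sg dat val 127 = (45, [(1, 2), (3, -1), (5, 27), (9, 134), (15, 54)]) := by decide +kernel

theorem cnt_45A : dat.cnt 127 = 5985314257737132413973777073790450051894476800000000 := by decide +kernel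

/-- type 128 = 46AB -/
theorem sg_46AB : sg dat val 128 = (46, [(1, 0), (2, 4), (23, 276)]) := by decide +kernel

theorem cnt_46AB : dat.cnt 128 = 8782798095592531259635433749583812576149504000000000 := by decide +kernel

/-- type 129 = 46CD -/
theorem sg_46CD : sg dat val 129 = (46, [(1, 2), (2, 4), (23, 4372)]) := by decide +kernel

theorem cnt_46CD : dat.cnt 129 = 17565596191185062519270867499167625152299008000000000 := by decide +kernel

/-- type 130 = 47AB -/
theorem sg_47AB : sg dat val 130 = (47, [(1, 1)]) := by decide +kernel

theorem cnt_47AB : dat.cnt 130 = 17191860102010912252903402233227888446930944000000000 := by decide +kernel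

/-- type 131 = 48A -/
theorem sg_48A : sg dat val 131 = (48, [(1, 1), (2, 3), (3, 4), (4, -1), (6, 36), (8, 15), (12, 20), (16, 783), (24, 276)]) := by decide +kernel

theorem cnt_48A : dat.cnt 131 = 8416848174942842457150624010017820385476608000000000 := by decide +kernel

/-- type 132 = 50A -/
theorem sg_50A : sg dat val 132 = (50, [(1, 2), (2, 4), (5, -3), (10, 9), (25, 4372)]) := by decide +kernel

theorem cnt_50A : dat.cnt 132 = 16160348495890257517729198099234215140115087360000000 := by decide +kernel

/-- type 133 = 51A -/
theorem sg_51A : sg dat val 133 = (51, [(1, 1), (3, 7), (17, 783)]) := by decide +kernel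

theorem cnt_51A : dat.cnt 133 = 15843478917539468154636468724739426607955968000000000 := by decide +kernel

/-- type 134 = 52A -/
theorem sg_52A : sg dat val 134 = (52, [(1, 0), (2, 4), (4, 12), (13, 52), (26, 4372)]) := by decide +kernel

theorem cnt_52A : dat.cnt 134 = 7769398315331854575831345240016449586593792000000000 := by decide +kernel

/-- type 135 = 52B -/
theorem sg_52B : sg dat val 135 = (52, [(1, 1), (2, 3), (4, -1), (13, -12), (26, 276)]) := by decide +kernel

theorem cnt_52B : dat.cnt 135 = 15538796630663709151662690480032899173187584000000000 := by decide +kernel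

/-- type 136 = 54A -/
theorem sg_54A : sg dat val 136 = (54, [(1, 1), (2, 3), (3, -2), (6, 0), (9, -2), (18, 54), (27, 4372)]) := by decide +kernel

theorem cnt_54A : dat.cnt 136 = 14963285644342831034934442684476125129736192000000000 := by decide +kernel

/-- type 137 = 55A -/
theorem sg_55A : sg dat val 137 = (55, [(1, 2), (5, 17), (11, 134)]) := by decide +kernel

theorem cnt_55A : dat.cnt 137 = 7345612952677389780785999136015552336415948800000000 := by decide +kernel

/-- type 138 = 56A -/
theorem sg_56A : sg dat val 138 = (56, [(1, 1), (2, -1), (4, 3), (7, 36), (8, 51), (14, 20), (28, 276)]) := by decide +kernel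

theorem cnt_56A : dat.cnt 138 = 7214441292808150677557677722872417473265664000000000 := by decide +kernel

/-- type 139 = 56BC -/
theorem sg_56BC : sg dat val 139 = (56, [(1, 0), (2, 2), (4, 10), (7, 0), (8, 2), (14, -12), (28, 276)]) := by decide +kernel

theorem cnt_56BC : dat.cnt 139 = 28857765171232602710230710891489669893062656000000000 := by decide +kernel

/-- type 140 = 57A -/
theorem sg_57A : sg dat val 140 = (57, [(1, 0), (3, 6), (19, 0)]) := by decide +kernel

theorem cnt_57A : dat.cnt 140 = 14175744294640576769937893069503697491329024000000000 := by decide +kernel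

/-- type 141 = 59AB -/
theorem sg_59AB : sg dat val 141 = (59, [(1, 1)]) := by decide +kernel

theorem cnt_59AB : dat.cnt 141 = 27390421179475012741913895083447822271381504000000000 := by decide +kernel

/-- type 142 = 60A -/
theorem sg_60A : sg dat val 142 = (60, [(1, 2), (2, 4), (3, 2), (4, 8), (5, 7), (6, 22), (10, 79), (12, 134), (15, 52), (20, 783), (30, 4372)]) := by decide +kernel

theorem cnt_60A : dat.cnt 142 = 2244492846651424655240166402671418769460428800000000 := by decide +kernel

/-- type 143 = 60B -/
theorem sg_60B : sg dat val 143 = (60, [(1, 0), (2, 0), (3, 6), (4, 8), (5, 15), (6, 6), (10, 15), (12, 134), (15, 276), (20, 783), (30, 276)]) := by decide +kernel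

theorem cnt_60B : dat.cnt 143 = 3366739269977136982860249604007128154190643200000000 := by decide +kernel

/-- type 144 = 60C -/
theorem sg_60C : sg dat val 144 = (60, [(1, 1), (2, 1), (3, 1), (4, 9), (5, 6), (6, 1), (10, 6), (12, 9), (15, 276), (20, 54), (30, 276)]) := by decide +kernel

theorem cnt_60C : dat.cnt 144 = 6733478539954273965720499208014256308381286400000000 := by decide +kernel

/-- type 145 = 60D -/
theorem sg_60D : sg dat val 145 = (60, [(1, -1), (2, 1), (3, 5), (4, 9), (5, 14), (6, 1), (10, 6), (12, 9), (15, 20), (20, 54), (30, 276)]) := by decide +kernel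

theorem cnt_60D : dat.cnt 145 = 6733478539954273965720499208014256308381286400000000 := by decide +kernel

/-- type 146 = 60E -/
theorem sg_60E : sg dat val 146 = (60, [(1, 1), (2, 3), (3, -2), (4, -1), (5, 6), (6, 6), (10, 78), (12, 134), (15, -12), (20, 54), (30, 276)]) := by decide +kernel

theorem cnt_60E : dat.cnt 146 = 13466957079908547931440998416028512616762572800000000 := by decide +kernel

/-- type 147 = 60F -/
theorem sg_60F : sg dat val 147 = (60, [(1, 0), (2, 0), (3, 3), (4, 0), (5, 0), (6, 21), (10, 0), (12, 9), (15, -12), (20, 0), (30, 276)]) := by decide +kernel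

theorem cnt_60F : dat.cnt 147 = 13466957079908547931440998416028512616762572800000000 := by decide +kernel

/-- type 148 = 62AB -/
theorem sg_62AB : sg dat val 148 = (62, [(1, 1), (2, 3), (31, 4372)]) := by decide +kernel

theorem cnt_62AB : dat.cnt 148 = 26065078219177834706014835643926153451798528000000000 := by decide +kernel

/-- type 149 = 66A -/
theorem sg_66A : sg dat val 149 = (66, [(1, 2), (2, 2), (3, 5), (6, 17), (11, 79), (22, 783), (33, 4372)]) := by decide +kernel

theorem cnt_66A : dat.cnt 149 = 6121344127231158150654999280012960280346624000000000 := by decide +kernel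

/-- type 150 = 66B -/
theorem sg_66B : sg dat val 150 = (66, [(1, 1), (2, -1), (3, 1), (6, 17), (11, 78), (22, 54), (33, 276)]) := by decide +kernel

theorem cnt_66B : dat.cnt 150 = 12242688254462316301309998560025920560693248000000000 := by decide +kernel

/-- type 151 = 68A -/
theorem sg_68A : sg dat val 151 = (68, [(1, 1), (2, 3), (4, 7), (17, 52), (34, 4372)]) := by decide +kernel

theorem cnt_68A : dat.cnt 151 = 11882609188154601115977351543554569955966976000000000 := by decide +kernel

/-- type 152 = 69AB -/
theorem sg_69AB : sg dat val 152 = (69, [(1, 1), (3, 4), (23, 783)]) := by decide +kernel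

theorem cnt_69AB : dat.cnt 152 = 23420794921580083359027823332223500203065344000000000 := by decide +kernel

/-- type 153 = 70A -/
theorem sg_70A : sg dat val 153 = (70, [(1, 1), (2, 1), (5, 11), (7, 22), (10, 51), (14, 134), (35, 4372)]) := by decide +kernel

theorem cnt_70A : dat.cnt 153 = 5771553034246520542046142178297933978612531200000000 := by decide +kernel

/-- type 154 = 70B -/
theorem sg_70B : sg dat val 154 = (70, [(1, 0), (2, 2), (5, 10), (7, 21), (10, 2), (14, 9), (35, 276)]) := by decide +kernel

theorem cnt_70B : dat.cnt 154 = 11543106068493041084092284356595867957225062400000000 := by decide +kernel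

/-- type 155 = 71AB -/
theorem sg_71AB : sg dat val 155 = (71, [(1, 1)]) := by decide +kernel

theorem cnt_71AB : dat.cnt 155 = 22761054219563742982717180421456641042415616000000000 := by decide +kernel

/-- type 156 = 78A -/
theorem sg_78A : sg dat val 156 = (78, [(1, 1), (2, 3), (3, 4), (6, 12), (13, 79), (26, 783), (39, 4372)]) := by decide +kernel

theorem cnt_78A : dat.cnt 156 = 10359197753775806101108460320021932782125056000000000 := by decide +kernel

/-- type 157 = 78BC -/
theorem sg_78BC : sg dat val 157 = (78, [(1, 0), (2, 2), (3, 3), (6, -1), (13, 78), (26, 54), (39, 276)]) := by decide +kernel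

theorem cnt_78BC : dat.cnt 157 = 20718395507551612202216920640043865564250112000000000 := by decide +kernel

/-- type 158 = 84A -/
theorem sg_84A : sg dat val 158 = (84, [(1, 0), (2, 2), (3, 3), (4, 6), (6, 11), (7, 7), (12, 51), (14, 79), (21, 52), (28, 783), (42, 4372)]) := by decide +kernel

theorem cnt_84A : dat.cnt 158 = 9619255057077534236743570297163223297687552000000000 := by decide +kernel

/-- type 159 = 84B -/
theorem sg_84B : sg dat val 159 = (84, [(1, -1), (2, 1), (3, 2), (4, 5), (6, 10), (7, 6), (12, 2), (14, 78), (21, -12), (28, 54), (42, 276)]) := by decide +kernel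

theorem cnt_84B : dat.cnt 159 = 9619255057077534236743570297163223297687552000000000 := by decide +kernel

/-- type 160 = 84C -/
theorem sg_84C : sg dat val 160 = (84, [(1, 0), (2, 0), (3, 3), (4, 0), (6, 3), (7, 0), (12, 51), (14, 0), (21, 276), (28, 0), (42, 276)]) := by decide +kernel

theorem cnt_84C : dat.cnt 160 = 9619255057077534236743570297163223297687552000000000 := by decide +kernel

/-- type 161 = 87AB -/
theorem sg_87AB : sg dat val 161 = (87, [(1, 0), (3, 3), (29, 783)]) := by decide +kernel

theorem cnt_87AB : dat.cnt 161 = 18575113213666962664056549539349672574844928000000000 := by decide +kernel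

/-- type 162 = 88AB -/
theorem sg_88AB : sg dat val 162 = (88, [(1, 1), (2, 1), (4, 1), (8, 17), (11, 12), (22, 276), (44, 276)]) := by decide +kernel

theorem cnt_88AB : dat.cnt 162 = 18364032381693474451964997840038880841039872000000000 := by decide +kernel

/-- type 163 = 92AB -/
theorem sg_92AB : sg dat val 163 = (92, [(1, 0), (2, 0), (4, 4), (23, 276), (46, 276)]) := by decide +kernel

theorem cnt_92AB : dat.cnt 163 = 17565596191185062519270867499167625152299008000000000 := by decide +kernel

/-- type 164 = 93AB -/
theorem sg_93AB : sg dat val 164 = (93, [(1, 0), (3, 3), (31, 0)]) := by decide +kernel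

theorem cnt_93AB : dat.cnt 164 = 17376718812785223137343223762617435634532352000000000 := by decide +kernel

/-- type 165 = 94AB -/
theorem sg_94AB : sg dat val 165 = (94, [(1, 1), (2, 1), (47, 4372)]) := by decide +kernel

theorem cnt_94AB : dat.cnt 165 = 17191860102010912252903402233227888446930944000000000 := by decide +kernel

/-- type 166 = 95AB -/
theorem sg_95AB : sg dat val 166 = (95, [(1, 1), (5, 6), (19, 134)]) := by decide +kernel

theorem cnt_95AB : dat.cnt 166 = 17010893153568692123925471683404436989594828800000000 := by decide +kernel

/-- type 167 = 104AB -/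
theorem sg_104AB : sg dat val 167 = (104, [(1, 0), (2, 0), (4, 4), (8, 12), (13, 0), (26, 52), (52, 4372)]) := by decide +kernel

theorem cnt_104AB : dat.cnt 167 = 15538796630663709151662690480032899173187584000000000 := by decide +kernel

/-- type 168 = 105A -/
theorem sg_105A : sg dat val 168 = (105, [(1, 1), (3, 1), (5, 6), (7, 8), (15, 51), (21, 134), (35, 783)]) := by decide +kernel

theorem cnt_105A : dat.cnt 168 = 7695404045662027389394856237730578638150041600000000 := by decide +kernel

/-- type 169 = 110A -/
theorem sg_110A : sg dat val 169 = (110, [(1, 0), (2, 2), (5, 5), (10, 17), (11, 22), (22, 134), (55, 4372)]) := by decide +kernel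

theorem cnt_110A : dat.cnt 169 = 7345612952677389780785999136015552336415948800000000 := by decide +kernel

/-- type 170 = 119AB -/
theorem sg_119AB : sg dat val 170 = (119, [(1, 0), (7, 7), (17, 51)]) := by decide +kernel

theorem cnt_119AB : dat.cnt 170 = 13580124786462401275402687478348079949676544000000000 := by decide +kernel

end Cfsg.Agent.TAB.M
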