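import Cfsg.Agent.TAB.M.Virt
import Cfsg.Agent.TAB.Use.Main

/-!
# The consequences of the table of the Monster (helper16, TAB)
-/

set_option autoImplicit false
set_option maxRecDepth 100000

namespace Cfsg.Agent.TAB.M

open Cfsg Cfsg.Agent.TAB.Eng Cfsg.Agent.TAB.Use

universe u

theorem van_chk : vanB dat tabM [(2, 46), (3, 20), (5, 9), (7, 6), (11, 2), (13, 3), (17, 1), (19, 1), (23, 1), (29, 1),
    (31, 1), (41, 1), (47, 1), (59, 1), (71, 1)] 10 141 151 = true := by decide +kernel

theorem odd_chk : ((List.range tabM.n).all fun j =>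
    tabM.d j % 2 == 0 || fixB tabM [75, 102, 130, 161, 117, 164] j) = true := by decide +kernel

variable {G : Type u} [Group G] [Finite G] {T : TD G dat}

theorem van_of (hm : T.Mass) (h : Tab T tabM) : VAN.Van3 G :=
  h.van3 (inh_of_mass hm (by decide +kernel)) hm.1 _ (by norm_num) _ _ _ van_chk

theorem odd_of (hm : T.Mass) (h : Tab T tabM) : OddRat G :=
  h.oddRat (inh_of_mass hm (by decide +kernel)) _ (by decide +kernel) odd_chk

theorem sig_of (hm : T.Mass) (h : Tab T tabM) (hs : ∀ t ∈ [161, 117, 164], SigConj T t) : OddSig G :=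
  h.oddSig (inh_of_mass hm (by decide +kernel)) [(75, 0, 23, 5), (102, 0, 31, 8), (130, 0, 47, 7)] (by decide +kernel)
    _ hs odd_chk

end Cfsg.Agent.TAB.M
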